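import Cfsg.Agent.Fg24.M11.Ident

/-!
# The normal form of a given embedding of a simple group of order 7920 in degree eleven

The arguments of `Cfsg.Agent.Fg24.M11.range_eq`, keeping track of the conjugating permutation.
-/

set_option autoImplicit false
set_option linter.unusedSectionVars false

open Cfsg

namespace Cfsg.Agent.Fg24.M12

open Cfsg.Agent.Fg24.M11

universe u

local instance fact_two : Fact (Nat.Prime 2) := ⟨Nat.prime_two⟩

local instance fact_five : Fact (Nat.Prime 5) := ⟨by norm_num⟩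

local instance fact_eleven : Fact (Nat.Prime 11) := ⟨by norm_num⟩

variable {G : Type u} [Group G] [Fintype G] [IsSimpleGroup G] (hG : Nat.card G = 7920)
include hG

theorem exists_sigma_mu' {φ₁ : G →* Equiv.Perm (ZMod 11)} (hφ₁ : Function.Injective φ₁) :
    ∃ φ : G →* Equiv.Perm (ZMod 11), Function.Injective φ ∧
    (∃ π, φ = (MulAut.conj π).toMonoidHom.comp φ₁) ∧
    ∃ s m : G, φ s = sigma11 ∧ φ m = mu11 := by
  classical
  obtain ⟨s, hs⟩ := exists_prime_orderOf_dvd_card' (G := G) 11 (by rw [hG]; norm_num)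
  have ho : orderOf (φ₁ s) = 11 := by rw [orderOf_injective φ₁ hφ₁, hs]
  have hoσ : orderOf sigma11 = 11 :=
    orderOf_eq_prime (Equiv.ext fun i => by rw [sigma11_pow]; exact add_zero i)
      fun h => absurd (Equiv.ext_iff.1 h 0) (by decide +kernel)
  have hc : ∀ f : Equiv.Perm (ZMod 11), orderOf f = 11 → f.IsCycle := fun f hf =>
    Equiv.Perm.isCycle_of_prime_order' (by rw [hf]; norm_num) (by rw [hf, ZMod.card]; norm_num)
  obtain ⟨π, hπ⟩ := isConj_iff.1 ((hc _ ho).isConj (hc _ hoσ)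
    (by rw [← (hc _ ho).orderOf, ← (hc _ hoσ).orderOf, ho, hoσ]))
  let φ : G →* Equiv.Perm (ZMod 11) := (MulAut.conj π).toMonoidHom.comp φ₁
  have hφ : Function.Injective φ := (MulAut.conj π).injective.comp hφ₁
  have hφs : φ s = sigma11 := hπ
  obtain ⟨⟨m, hmN⟩, hm⟩ := exists_prime_orderOf_dvd_card' 5
    (show 5 ∣ Nat.card (Subgroup.normalizer ((Subgroup.zpowers s : Subgroup G) : Set G)) by
      rw [(prime_data hG (Or.inr rfl) hs).2]; norm_num)
  rw [← Subgroup.orderOf_coe] at hm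
  have hmem : m * s * m⁻¹ ∈ Subgroup.zpowers s :=
    (Subgroup.mem_normalizer_iff.1 hmN s).1 (Subgroup.mem_zpowers s)
  rw [← mem_powers_iff_mem_zpowers, mem_powers_iff_mem_range_orderOf, hs] at hmem
  obtain ⟨k, hk, hks⟩ := Finset.mem_image.1 hmem
  rw [Finset.mem_range] at hk
  have hk1 : k ≠ 1 := fun h => by
    rw [h, pow_one] at hks
    have hC : m ∈ Subgroup.centralizer ({s} : Set G) :=
      Subgroup.mem_centralizer_singleton_iff.2 (eq_mul_inv_iff_mul_eq.1 hks).symm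
    have := Subgroup.orderOf_dvd_natCard _ hC
    rw [hm, (prime_data hG (Or.inr rfl) hs).1] at this
    norm_num at this
  have haff := affine (g := φ m) (k := k) (by
    have := congrArg φ (mul_inv_eq_iff_eq_mul.1 hks.symm)
    rwa [map_mul, map_mul, map_pow, hφs] at this)
  obtain ⟨c, hc'⟩ : ∃ c : ℕ, (c : ZMod 11) = -(φ m 0) := ⟨_, ZMod.natCast_zmod_val _⟩
  have hpow : ∀ (j : ℕ) (i : ZMod 11), φ ((s ^ c * m) ^ j) i = (k : ZMod 11) ^ j * i := by
    intro j
    induction j with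
    | zero => intro i; simp
    | succ j ih =>
      intro i
      rw [pow_succ, map_mul, Equiv.Perm.mul_apply, ih, map_mul, map_pow, hφs,
        Equiv.Perm.mul_apply, sigma11_pow, haff, hc']
      ring
  have hk5 : (k : ZMod 11) ^ 5 = 1 := by
    have h1 : ∀ j : ℕ, φ (m ^ j) 1 - φ (m ^ j) 0 = (k : ZMod 11) ^ j := fun j => by
      induction j with
      | zero => simp
      | succ j ih =>
        rw [pow_succ', map_mul, Equiv.Perm.mul_apply, Equiv.Perm.mul_apply, haff, haff (φ (m ^ j) 0)]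
        linear_combination (k : ZMod 11) * ih
    have h5 : m ^ 5 = 1 := by rw [← hm]; exact pow_orderOf_eq_one _
    rw [← h1 5, h5]
    simp
  have hdec : ∀ k : ℕ, k < 11 → k ≠ 1 → (k : ZMod 11) ^ 5 = 1 →
      ∃ j : Fin 5, (k : ZMod 11) ^ (j : ℕ) = 3 := by decide +kernel
  obtain ⟨j, hj⟩ := hdec k hk hk1 hk5
  exact ⟨φ, hφ, ⟨π, rfl⟩, s, (s ^ c * m) ^ (j : ℕ), hφs, Equiv.ext fun i => by rw [hpow, hj]; rfl⟩

theorem normal_form' {φ₁ : G →* Equiv.Perm (ZMod 11)} (hφ₁ : Function.Injective φ₁) :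
    ∃ φ : G →* Equiv.Perm (ZMod 11), Function.Injective φ ∧
    (∃ π, φ = (MulAut.conj π).toMonoidHom.comp φ₁) ∧
    ∃ s m t : G, φ s = sigma11 ∧ φ m = mu11 ∧ φ t = tau11 := by
  classical
  obtain ⟨φ, hφ, ⟨π, hπ⟩, s, m, hs, hm⟩ := exists_sigma_mu' hG hφ₁
  have hmo : orderOf m = 5 := by
    rw [← orderOf_injective φ hφ, hm]
    exact orderOf_eq_prime (Equiv.ext (by decide +kernel))
      fun h => absurd (Equiv.ext_iff.1 h 1) (by decide +kernel)
  obtain ⟨hC, hN⟩ := prime_data hG (Or.inl rfl) hmo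
  rw [if_pos rfl] at hN
  obtain ⟨L, hL⟩ := Sylow.exists_subgroup_card_pow_prime
    (G := Subgroup.normalizer ((Subgroup.zpowers m : Subgroup G) : Set G)) 2 (n := 2)
    (by rw [hN]; norm_num)
  have hk : ∀ a : L, ∃ k : {k : Fin 5 // k ≠ 0},
      ((a : _) : G) * m * ((a : _) : G)⁻¹ = m ^ (k.1 : ℕ) := fun a => by
    have hmem := (Subgroup.mem_normalizer_iff.1 a.1.2 m).1 (Subgroup.mem_zpowers m)
    rw [← mem_powers_iff_mem_zpowers, mem_powers_iff_mem_range_orderOf, hmo] at hmem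
    obtain ⟨k, hk, hkm⟩ := Finset.mem_image.1 hmem
    rw [Finset.mem_range] at hk
    refine ⟨⟨⟨k, hk⟩, fun h => ?_⟩, hkm.symm⟩
    rw [Fin.ext_iff] at h
    simp only [Fin.val_zero] at h
    rw [h, pow_zero, eq_comm, conj_eq_one_iff] at hkm
    rw [hkm, orderOf_one] at hmo
    omega
  choose f hf using hk
  have hfi : Function.Injective f := fun a b hab => by
    have he : ((a : _) : G) * m * ((a : _) : G)⁻¹ = ((b : _) : G) * m * ((b : _) : G)⁻¹ := by
      rw [hf, hf, hab]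
    have hcm : (((b⁻¹ * a : L) : _) : G) ∈ Subgroup.centralizer ({m} : Set G) := by
      rw [Subgroup.mem_centralizer_singleton_iff]
      show ((b : _) : G)⁻¹ * ((a : _) : G) * m = m * (((b : _) : G)⁻¹ * ((a : _) : G))
      calc ((b : _) : G)⁻¹ * ((a : _) : G) * m
          = ((b : _) : G)⁻¹ * (((a : _) : G) * m * ((a : _) : G)⁻¹) * ((a : _) : G) := by group
        _ = m * (((b : _) : G)⁻¹ * ((a : _) : G)) := by rw [he]; group
    have h5 := Subgroup.orderOf_dvd_natCard _ hcm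
    have h4 := orderOf_dvd_natCard (b⁻¹ * a : L)
    rw [hC, Subgroup.orderOf_coe, Subgroup.orderOf_coe] at h5
    rw [hL] at h4
    have := Nat.dvd_gcd h5 h4
    exact (inv_mul_eq_one.1 (orderOf_eq_one_iff.1 (Nat.dvd_one.1 (by simpa using this)))).symm
  obtain ⟨a, ha⟩ := ((Nat.bijective_iff_injective_and_card f).2 ⟨hfi, by
    rw [hL, Nat.card_eq_fintype_card]; rfl⟩).2 ⟨2, by decide⟩
  obtain ⟨t, ht⟩ : ∃ t : G, t * m * t⁻¹ = m ^ 2 := ⟨_, by rw [hf a, ha]; rfl⟩
  have hrel : ∀ i, φ t (3 * i) = 9 * φ t i := fun i => by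
    have h := Equiv.ext_iff.1 (congrArg φ (mul_inv_eq_iff_eq_mul.1 ht)) i
    rw [map_mul, map_mul, map_pow, hm, Equiv.Perm.mul_apply, Equiv.Perm.mul_apply] at h
    refine h.trans ?_
    show 3 * (3 * φ t i) = 9 * φ t i
    ring
  have h0 : φ t 0 = 0 := by
    have hz : ∀ x : ZMod 11, x = 9 * x → x = 0 := by decide +kernel
    refine hz _ ?_
    conv_lhs => rw [show (0 : ZMod 11) = 3 * 0 from rfl]
    exact hrel 0
  have ha1 : φ t 1 ≠ 0 := fun h => by
    have := (φ t).injective (h.trans h0.symm)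
    exact absurd this (by decide +kernel)
  have hnorm : ∀ x : ZMod 11, x ≠ 0 → ∃ j : Fin 5, (3 : ZMod 11) ^ (j : ℕ) * x = 1 ∨
      (3 : ZMod 11) ^ (j : ℕ) * x = 2 := by decide +kernel
  obtain ⟨j, hj⟩ := hnorm _ ha1
  have hmj : ∀ (n : ℕ) (i : ZMod 11), φ (m ^ n * t) i = (3 : ZMod 11) ^ n * φ t i := fun n i => by
    induction n with
    | zero => simp
    | succ n ih =>
      rw [pow_succ', mul_assoc, map_mul, hm, Equiv.Perm.mul_apply, ih, pow_succ' (3 : ZMod 11),
        mul_assoc]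
      rfl
  obtain ⟨t₁, ht₁⟩ : ∃ t₁, t₁ = m ^ (j : ℕ) * t := ⟨_, rfl⟩
  have htab : ∀ i, φ t₁ i = tab (φ t₁ 1) (φ t₁ 2) i := by
    refine tab_eq ?_ fun i => ?_
    · rw [ht₁, hmj, h0, mul_zero]
    · rw [ht₁, hmj, hmj, hrel]; ring
  obtain ⟨a₁, hA⟩ : ∃ a₁, a₁ = φ t₁ 1 := ⟨_, rfl⟩
  obtain ⟨b₁, hB⟩ : ∃ b₁, b₁ = φ t₁ 2 := ⟨_, rfl⟩
  rw [← hA, ← hB] at htab
  have ha12 : a₁ = 1 ∨ a₁ = 2 := by rw [hA, ht₁, hmj]; exact hj
  have hinj : Function.Injective (tab a₁ b₁) := by
    rw [← funext htab]; exact (φ t₁).injective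
  have hlist : ∀ a b : ZMod 11, (a = 1 ∨ a = 2) → Function.Injective (tab a b) →
      (a = 1 ∧ (b = 2 ∨ b = 6 ∨ b = 7 ∨ b = 8 ∨ b = 10)) ∨
        (a = 2 ∧ (b = 1 ∨ b = 3 ∨ b = 4 ∨ b = 5 ∨ b = 9)) := by decide +kernel
  have hT : ⇑(φ t₁) = tab a₁ b₁ := funext htab
  rcases hlist _ _ ha12 hinj with
    ⟨rfl, rfl | rfl | rfl | rfl | rfl⟩ | ⟨rfl, rfl | rfl | rfl | rfl | rfl⟩
  · exact (no_seven hG hφ (s ^ 1 * m ^ 2 * t₁ ^ 1) 3
      (by simp only [map_mul, map_pow, hs, hm, Equiv.Perm.coe_mul, Equiv.Perm.coe_pow, hT]; decide +kernel)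
      (by simp only [map_mul, map_pow, hs, hm, Equiv.Perm.coe_mul, Equiv.Perm.coe_pow, hT]; decide +kernel)).elim
  · refine ⟨(MulAut.conj neg11).toMonoidHom.comp φ, (MulAut.conj neg11).injective.comp hφ,
      ⟨neg11 * π, by rw [hπ, map_mul]; rfl⟩, s⁻¹, m, m * t₁, ?_, ?_, ?_⟩
    · show neg11 * φ s⁻¹ * neg11⁻¹ = _
      rw [map_inv, hs]
      exact Equiv.ext (by decide +kernel)
    · show neg11 * φ m * neg11⁻¹ = _
      rw [hm]
      exact Equiv.ext (by decide +kernel)
    · show neg11 * φ (m * t₁) * neg11⁻¹ = _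
      rw [map_mul, hm]
      refine Equiv.ext fun i => ?_
      simp only [Equiv.Perm.coe_mul, Function.comp_apply, hT]
      revert i
      decide +kernel
  · exact (no_seven hG hφ (s ^ 1 * m ^ 1 * t₁ ^ 1) 2
      (by simp only [map_mul, map_pow, hs, hm, Equiv.Perm.coe_mul, Equiv.Perm.coe_pow, hT]; decide +kernel)
      (by simp only [map_mul, map_pow, hs, hm, Equiv.Perm.coe_mul, Equiv.Perm.coe_pow, hT]; decide +kernel)).elim
  · exact (no_seven hG hφ (s ^ 1 * m ^ 0 * t₁ ^ 3) 3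
      (by simp only [map_mul, map_pow, hs, hm, Equiv.Perm.coe_mul, Equiv.Perm.coe_pow, hT]; decide +kernel)
      (by simp only [map_mul, map_pow, hs, hm, Equiv.Perm.coe_mul, Equiv.Perm.coe_pow, hT]; decide +kernel)).elim
  · exact ⟨φ, hφ, ⟨π, hπ⟩, s, m, t₁, hs, hm, Equiv.ext fun i => htab i⟩
  · exact (no_seven hG hφ (s ^ 1 * m ^ 0 * t₁ ^ 1) 2
      (by simp only [map_mul, map_pow, hs, hm, Equiv.Perm.coe_mul, Equiv.Perm.coe_pow, hT]; decide +kernel)
      (by simp only [map_mul, map_pow, hs, hm, Equiv.Perm.coe_mul, Equiv.Perm.coe_pow, hT]; decide +kernel)).elim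
  · exact (no_seven hG hφ (s ^ 1 * m ^ 0 * t₁ ^ 1 * (s ^ 1 * m ^ 1 * t₁ ^ 1)) 3
      (by simp only [map_mul, map_pow, hs, hm, Equiv.Perm.coe_mul, Equiv.Perm.coe_pow, hT]; decide +kernel)
      (by simp only [map_mul, map_pow, hs, hm, Equiv.Perm.coe_mul, Equiv.Perm.coe_pow, hT]; decide +kernel)).elim
  · exact (no_seven hG hφ (s ^ 1 * m ^ 1 * t₁ ^ 3) 4
      (by simp only [map_mul, map_pow, hs, hm, Equiv.Perm.coe_mul, Equiv.Perm.coe_pow, hT]; decide +kernel)
      (by simp only [map_mul, map_pow, hs, hm, Equiv.Perm.coe_mul, Equiv.Perm.coe_pow, hT]; decide +kernel)).elim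
  · exact (no_seven hG hφ (s ^ 1 * m ^ 1 * t₁ ^ 1) 4
      (by simp only [map_mul, map_pow, hs, hm, Equiv.Perm.coe_mul, Equiv.Perm.coe_pow, hT]; decide +kernel)
      (by simp only [map_mul, map_pow, hs, hm, Equiv.Perm.coe_mul, Equiv.Perm.coe_pow, hT]; decide +kernel)).elim
  · exact (no_seven hG hφ (s ^ 1 * m ^ 0 * t₁ ^ 3) 2
      (by simp only [map_mul, map_pow, hs, hm, Equiv.Perm.coe_mul, Equiv.Perm.coe_pow, hT]; decide +kernel)
      (by simp only [map_mul, map_pow, hs, hm, Equiv.Perm.coe_mul, Equiv.Perm.coe_pow, hT]; decide +kernel)).elim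

theorem range_eq' {φ₁ : G →* Equiv.Perm (ZMod 11)} (hφ₁ : Function.Injective φ₁) :
    ∃ φ : G →* Equiv.Perm (ZMod 11), Function.Injective φ ∧
    (∃ π, φ = (MulAut.conj π).toMonoidHom.comp φ₁) ∧
    φ.range = Subgroup.closure {sigma11, mu11, tau11} := by
  classical
  obtain ⟨φ, hφ, hπ, s, m, t, hs, hm, ht⟩ := normal_form' hG hφ₁
  refine ⟨φ, hφ, hπ, ?_⟩
  obtain ⟨H, hH⟩ : ∃ H : Subgroup G, H = Subgroup.closure {s, m, t} := ⟨_, rfl⟩
  suffices htop : H = ⊤ by
    rw [MonoidHom.range_eq_map, ← htop, hH, MonoidHom.map_closure, Set.image_insert_eq,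
      Set.image_insert_eq, Set.image_singleton, hs, hm, ht]
  have hsH : s ∈ H := hH ▸ Subgroup.subset_closure (by simp)
  have hmH : m ∈ H := hH ▸ Subgroup.subset_closure (by simp)
  have htH : t ∈ H := hH ▸ Subgroup.subset_closure (by simp)
  have hso : orderOf s = 11 := by
    rw [← orderOf_injective φ hφ, hs]
    exact orderOf_eq_prime (Equiv.ext (by decide +kernel))
      fun h => absurd (Equiv.ext_iff.1 h 0) (by decide +kernel)
  have hmo : orderOf m = 5 := by
    rw [← orderOf_injective φ hφ, hm]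
    exact orderOf_eq_prime (Equiv.ext (by decide +kernel))
      fun h => absurd (Equiv.ext_iff.1 h 1) (by decide +kernel)
  have hto : orderOf t = 4 := by
    rw [← orderOf_injective φ hφ, ht]
    exact orderOf_eq_prime_pow (p := 2) (n := 1)
      (fun h => absurd (Equiv.ext_iff.1 h 2) (by decide +kernel))
      (Equiv.ext (by decide +kernel))
  have hms : m ∈ Subgroup.normalizer ((Subgroup.zpowers s : Subgroup G) : Set G) := by
    have he : m * s * m⁻¹ = s ^ 3 := hφ (by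
      rw [map_mul, map_mul, map_inv, map_pow, hs, hm]; exact Equiv.ext (by decide +kernel))
    exact mem_normalizer_zpowers (by rw [he]; exact pow_mem (Subgroup.mem_zpowers s) 3)
  have htm : t ∈ Subgroup.normalizer ((Subgroup.zpowers m : Subgroup G) : Set G) := by
    have he : t * m * t⁻¹ = m ^ 2 := hφ (by
      rw [map_mul, map_mul, map_inv, map_pow, hm, ht]; exact Equiv.ext (by decide +kernel))
    exact mem_normalizer_zpowers (by rw [he]; exact pow_mem (Subgroup.mem_zpowers m) 2)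
  -- the two Sylow normalizers lie in `H`
  have hN : ∀ (p : ℕ) [Fact p.Prime], p = 5 ∨ p = 11 → ∀ g y : G, orderOf g = p → g ∈ H →
      y ∈ H → y ∈ Subgroup.normalizer ((Subgroup.zpowers g : Subgroup G) : Set G) →
      orderOf y = (if p = 5 then 4 else 5) →
      Subgroup.normalizer ((Subgroup.zpowers g : Subgroup G) : Set G) ≤ H := by
    intro p _ hp g y hg hgH hyH hy hyo
    refine inf_eq_left.1 (Subgroup.eq_of_le_of_card_ge inf_le_left ?_)
    have h1 := Subgroup.orderOf_dvd_natCard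
      (Subgroup.normalizer ((Subgroup.zpowers g : Subgroup G) : Set G) ⊓ H)
      ⟨Subgroup.le_normalizer (Subgroup.mem_zpowers g), hgH⟩
    have h2 := Subgroup.orderOf_dvd_natCard
      (Subgroup.normalizer ((Subgroup.zpowers g : Subgroup G) : Set G) ⊓ H) ⟨hy, hyH⟩
    rw [hg] at h1
    rw [hyo] at h2
    rw [(prime_data hG hp hg).2]
    refine Nat.le_of_dvd Nat.card_pos ?_
    rcases hp with rfl | rfl
    · simpa using Nat.Coprime.mul_dvd_of_dvd_of_dvd (show Nat.Coprime 5 4 by norm_num) h1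
        (by simpa using h2)
    · simpa using Nat.Coprime.mul_dvd_of_dvd_of_dvd (show Nat.Coprime 11 5 by norm_num) h1
        (by simpa using h2)
  have hdata : ∀ (p : ℕ) [Fact p.Prime], (p = 5 ∨ p = 11) → ∀ g : G, orderOf g = p → g ∈ H →
      Subgroup.normalizer ((Subgroup.zpowers g : Subgroup G) : Set G) ≤ H →
      ∃ n, n % p = 1 ∧ Nat.card H = (if p = 5 then 20 else 55) * n := by
    intro p _ hp g hg hgH hNH
    have hle : Subgroup.zpowers g ≤ H := Subgroup.zpowers_le.2 hgH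
    obtain ⟨Q, hQ⟩ := (IsPGroup.of_card (p := p) (n := 1) (by
      rw [Nat.card_congr (Subgroup.subgroupOfEquivOfLe hle).toEquiv, Nat.card_zpowers, hg, pow_one]) :
      IsPGroup p ((Subgroup.zpowers g).subgroupOf H)).exists_le_sylow
    have hQc : Nat.card (Q : Subgroup H) ≤ p := by
      obtain ⟨n, hn⟩ := Q.isPGroup'.exists_card_eq
      have hd : p ^ n ∣ 7920 := by
        rw [← hn, ← hG]
        exact (Subgroup.card_subgroup_dvd_card _).trans (Subgroup.card_subgroup_dvd_card H)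
      rw [hn]
      match n with
      | 0 => simpa using (Fact.out : p.Prime).one_lt.le
      | 1 => simp
      | n + 2 =>
        exfalso
        have := (pow_dvd_pow p (Nat.le_add_left 2 n)).trans hd
        rcases hp with rfl | rfl <;> norm_num at this
    have hQe : (Q : Subgroup H) = (Subgroup.zpowers g).subgroupOf H :=
      (Subgroup.eq_of_le_of_card_ge hQ (by
        rw [Nat.card_congr (Subgroup.subgroupOfEquivOfLe hle).toEquiv, Nat.card_zpowers, hg]
        exact hQc)).symm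
    refine ⟨Nat.card (Sylow p H), by
      rw [card_sylow_modEq_one p H]; exact Nat.one_mod_eq_one.2 (Fact.out : p.Prime).ne_one, ?_⟩
    have h := Subgroup.card_mul_index
      (Subgroup.normalizer ((Q : Subgroup H) : Set H))
    have hi : (Subgroup.normalizer ((Q : Subgroup H) : Set H)).index = Nat.card (Sylow p H) :=
      (Sylow.card_eq_index_normalizer Q).symm
    rw [hi] at h
    rw [← h]
    congr 1
    rw [← (prime_data hG hp hg).2, hQe, ← Subgroup.subgroupOf_normalizer_eq hle,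
      Nat.card_congr (Subgroup.subgroupOfEquivOfLe hNH).toEquiv]
  obtain ⟨a, ha, ha'⟩ := hdata 11 (Or.inr rfl) s hso hsH
    (hN 11 (Or.inr rfl) s m hso hsH hmH hms (by simpa using hmo))
  obtain ⟨b, hb, hb'⟩ := hdata 5 (Or.inl rfl) m hmo hmH
    (hN 5 (Or.inl rfl) m t hmo hmH htH htm (by simpa using hto))
  rw [if_neg (by norm_num)] at ha'
  rw [if_pos rfl] at hb'
  refine Subgroup.eq_top_of_le_card _ ?_
  rw [hG]
  have hd : Nat.card H ∣ 7920 := hG ▸ Subgroup.card_subgroup_dvd_card H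
  have ha144 : a ∣ 144 := by
    refine Nat.dvd_of_mul_dvd_mul_left (k := 55) (by norm_num) ?_
    rw [← ha']; exact hd
  have hmain : ∀ a ∈ Nat.divisors 144, a % 11 = 1 → (55 * a) % 20 = 0 →
      55 * a / 20 % 5 = 1 → 7920 ≤ 55 * a := by decide +kernel
  rw [ha']
  refine hmain a (Nat.mem_divisors.2 ⟨ha144, by norm_num⟩) ha ?_ ?_
  · rw [← ha', hb']; exact Nat.mul_mod_right 20 b
  · rw [← ha', hb', Nat.mul_div_cancel_left b (by norm_num)]; exact hb

end Cfsg.Agent.Fg24.M12
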