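import Cfsg.Agent.Fg24.M12.Index
import Cfsg.Agent.Fg24.M12.Point
import Cfsg.Agent.Fg24.M11.Nse

/-!
# The simple groups of order 95040 are isomorphic to each other

The action on the cosets of a subgroup of index twelve embeds the group in the symmetric group on
`Option (ZMod 11)`, the stabilizer of `none` being the Mathieu group of degree eleven in standard
form. The involution centralizing `i ↦ 3 i` is then one of six permutations, only one of which
does not give elements of order seven.
-/

set_option autoImplicit false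

namespace Cfsg.Agent.Fg24.M12

open Cfsg.Agent Cfsg.Agent.Fg24.M11

universe u

/-- The extension of a permutation fixing the point at infinity. -/
def up (e : Equiv.Perm (ZMod 11)) : Equiv.Perm (Option (ZMod 11)) := Equiv.optionCongr e

theorem up_some (e : Equiv.Perm (ZMod 11)) (i : ZMod 11) : up e (some i) = some (e i) := rfl

theorem up_none (e : Equiv.Perm (ZMod 11)) : up e none = none := rfl

/-- The table of a map commuting with `i ↦ 3 i`. -/
def wtab (a b : ZMod 11) : ZMod 11 → ZMod 11 :=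
  vec ![0, a, b, 3 * a, 4 * a, 5 * a, 3 * b, 9 * b, 4 * b, 9 * a, 5 * b]

theorem wtab_eq {f : ZMod 11 → ZMod 11} (h0 : f 0 = 0) (h : ∀ i, f (3 * i) = 3 * f i) :
    ∀ i, f i = wtab (f 1) (f 2) i := by
  have h3 : f 3 = 3 * f 1 := h 1
  have h9 : f 9 = 3 * f 3 := h 3
  have h5 : f 5 = 3 * f 9 := h 9
  have h4 : f 4 = 3 * f 5 := h 5
  have h6 : f 6 = 3 * f 2 := h 2
  have h7 : f 7 = 3 * f 6 := h 6
  have h10 : f 10 = 3 * f 7 := h 7
  have h8 : f 8 = 3 * f 10 := h 10
  rw [h3] at h9
  rw [h9] at h5
  rw [h5] at h4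
  rw [h6] at h7
  rw [h7] at h10
  rw [h10] at h8
  have hall : ∀ a b : ZMod 11, ∀ i : ZMod 11, vec (![0, a, b, 3 * a, 3 * (3 * (3 * (3 * a))),
      3 * (3 * (3 * a)), 3 * b, 3 * (3 * b), 3 * (3 * (3 * (3 * b))), 3 * (3 * a),
      3 * (3 * (3 * b))]) i = wtab a b i := by decide +kernel
  intro i
  rw [← hall]
  fin_cases i
  exacts [h0, rfl, rfl, h3, h4, h5, h6, h7, h8, h9, h10]

/-- The shape of the involution exchanging the two fixed points of `i ↦ 3 i`. -/
def wfun (a b : ZMod 11) : Option (ZMod 11) → Option (ZMod 11)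
  | none => some 0
  | some i => if i = 0 then none else some (wtab a b i)

theorem wfun_cases : ∀ a b : ZMod 11, (∀ o, wfun a b (wfun a b o) = o) →
    a ≠ 0 → b ≠ 0 →
    (a = 1 ∧ b = 2) ∨ (a = 2 ∧ b = 1) ∨ (a = 6 ∧ b = 4) ∨ (a = 7 ∧ b = 5) ∨ (a = 8 ∧ b = 3) ∨
      (a = 10 ∧ b = 9) := by decide +kernel

/-- The fourth generator. -/
def w12 : Equiv.Perm (Option (ZMod 11)) :=
  ⟨wfun 7 5, wfun 7 5, by unfold Function.LeftInverse; decide +kernel,
    by unfold Function.RightInverse Function.LeftInverse; decide +kernel⟩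

local instance fact_five_ident : Fact (Nat.Prime 5) := ⟨by norm_num⟩

local instance fact_eleven_ident : Fact (Nat.Prime 11) := ⟨by norm_num⟩

variable {G : Type u} [Group G] [Fintype G] [IsSimpleGroup G] (hG : Nat.card G = 95040)
include hG

/-- An embedding in degree twelve with the stabilizer of the point at infinity of order 7920. -/
theorem exists_twelve : ∃ φ : G →* Equiv.Perm (Option (ZMod 11)), Function.Injective φ ∧
    ∃ H : Subgroup G, Nat.card H = 7920 ∧ ∀ g, g ∈ H ↔ φ g none = none := by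
  classical
  obtain ⟨H, hH⟩ := exists_index_twelve hG
  have hcard : Nat.card H = 7920 := by
    have h := H.card_mul_index
    rw [hH, hG] at h
    omega
  let base : G ⧸ H := ((1 : G) : G ⧸ H)
  have h12 : Fintype.card (G ⧸ H) = 12 := by
    rw [← Nat.card_eq_fintype_card]; exact hH
  let e' : {x : G ⧸ H // x ≠ base} ≃ ZMod 11 := Fintype.equivOfCardEq (by
    rw [Fintype.card_subtype_compl, Fintype.card_subtype_eq, h12, ZMod.card])
  let e : G ⧸ H ≃ Option (ZMod 11) :=
    (Equiv.optionSubtypeNe base).symm.trans (Equiv.optionCongr e')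
  let φ : G →* Equiv.Perm (Option (ZMod 11)) :=
    e.permCongrHom.toMonoidHom.comp (MulAction.toPermHom G (G ⧸ H))
  have hφ : ∀ g x, φ g x = e (g • e.symm x) := fun g x => rfl
  have hbase : e base = none := by simp [e]
  have hb : e.symm none = base := by rw [← hbase, Equiv.symm_apply_apply]
  have hmem : ∀ g, g ∈ H ↔ φ g none = none := fun g => by
    rw [hφ, hb, ← hbase, e.apply_eq_iff_eq]
    show g ∈ H ↔ ((g * 1 : G) : G ⧸ H) = ((1 : G) : G ⧸ H)
    rw [mul_one, QuotientGroup.eq, mul_one, inv_mem_iff]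
  refine ⟨φ, ?_, H, hcard, hmem⟩
  rw [← MonoidHom.ker_eq_bot_iff]
  refine (IsSimpleGroup.eq_bot_or_eq_top_of_normal _ inferInstance).resolve_right fun htop => ?_
  have : H = ⊤ := eq_top_iff.2 fun g _ => (hmem g).2 (by
    rw [MonoidHom.mem_ker.1 (htop ▸ Subgroup.mem_top g : g ∈ φ.ker)]; rfl)
  rw [this, Subgroup.index_top] at hH
  omega

omit [IsSimpleGroup G] in
/-- No element has order divisible by seven. -/
theorem no_seven' {φ : G →* Equiv.Perm (Option (ZMod 11))} (hφ : Function.Injective φ) (x : G)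
    (o : ℕ) (h1 : ∀ i, (φ x)^[7 * o] i = i) (h2 : ∃ i, (φ x)^[o] i ≠ i) : False := by
  haveI : Fact (Nat.Prime 7) := ⟨by norm_num⟩
  have h7 : orderOf (x ^ o) = 7 := by
    refine orderOf_eq_prime ?_ fun h => ?_
    · refine hφ (Equiv.ext fun i => ?_)
      rw [← pow_mul, mul_comm, map_pow, map_one, Equiv.Perm.coe_pow]
      exact h1 i
    · obtain ⟨i, hi⟩ := h2
      refine hi ?_
      rw [← Equiv.Perm.coe_pow, ← map_pow, h, map_one]
      rfl
  have := orderOf_dvd_natCard (x ^ o)
  rw [h7, hG] at this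
  norm_num at this

/-- The point stabilizer is simple. -/
theorem stab_simple {φ : G →* Equiv.Perm (Option (ZMod 11))} (hφ : Function.Injective φ)
    {H : Subgroup G} (hH : Nat.card H = 7920) (hmem : ∀ g, g ∈ H ↔ φ g none = none) :
    IsSimpleGroup H := by
  classical
  haveI h11 : Fact (Nat.Prime 11) := ⟨by norm_num⟩
  have data : ∀ g : H, orderOf g = 11 →
      Nat.card (Subgroup.centralizer ({g} : Set H)) = 11 ∧
        Nat.card (Subgroup.normalizer ((Subgroup.zpowers g : Subgroup H) : Set H)) = 55 := by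
    intro g hg
    have hgo : orderOf (g : G) = 11 := by rw [Subgroup.orderOf_coe, hg]
    obtain ⟨P, hP⟩ := (IsPGroup.of_card (p := 11) (n := 1) (by rw [Nat.card_zpowers, hgo, pow_one]) :
      IsPGroup 11 (Subgroup.zpowers (g : G))).exists_le_sylow
    obtain ⟨hS, hC, -⟩ := eleven hG P
    have hg1 : (g : G) ≠ 1 := fun e => by rw [e, orderOf_one] at hgo; omega
    have hgP : (g : G) ∈ (P : Subgroup G) := hP (Subgroup.mem_zpowers _)
    have hPz : Subgroup.zpowers (g : G) = (P : Subgroup G) := hS.zpowers_eq hgP hg1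
    refine ⟨?_, ?_⟩
    · refine Nat.dvd_antisymm ?_ ?_
      · rw [← Subgroup.card_map_of_injective H.subtype_injective, ← hC,
          ← hS.centralizer_eq hgP hg1]
        refine Subgroup.card_dvd_of_le ?_
        rintro _ ⟨a, ha, rfl⟩
        rw [SetLike.mem_coe, Subgroup.mem_centralizer_singleton_iff] at ha
        rw [Subgroup.mem_centralizer_singleton_iff]
        exact congrArg Subtype.val ha
      · rw [← hg]
        exact Subgroup.orderOf_dvd_natCard _ (Subgroup.mem_centralizer_singleton_iff.2 rfl)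
    · -- the only fixed point of an element of order eleven
      have ho : orderOf (φ (g : G)) = 11 := by rw [orderOf_injective φ hφ, hgo]
      have hc : (φ (g : G)).IsCycle := Equiv.Perm.isCycle_of_prime_order' (by rw [ho]; norm_num)
        (by rw [ho, Fintype.card_option, ZMod.card]; norm_num)
      have hg0 : φ (g : G) none = none := (hmem _).1 g.2
      have hsupp : (φ (g : G)).support = Finset.univ.erase none := by
        refine Finset.eq_of_subset_of_card_le
          (fun x hx => Finset.mem_erase.2 ⟨?_, Finset.mem_univ x⟩)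
          (by rw [← hc.orderOf, ho, Finset.card_erase_of_mem (Finset.mem_univ _), Finset.card_univ,
            Fintype.card_option, ZMod.card])
        rintro rfl
        exact (Equiv.Perm.mem_support.1 hx) hg0
      have hNH : Subgroup.normalizer ((P : Subgroup G) : Set G) ≤ H := by
        intro n hn
        refine (hmem n).2 ?_
        by_contra hne
        have hh : n⁻¹ * (g : G) * n ∈ (P : Subgroup G) :=
          (Subgroup.mem_normalizer_iff''.1 hn (g : G)).1 hgP
        rw [← hPz] at hh
        obtain ⟨i, hi⟩ := Subgroup.mem_zpowers_iff.1 hh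
        refine (Equiv.Perm.mem_support.1 (hsupp ▸ Finset.mem_erase.2 ⟨hne, Finset.mem_univ _⟩ :
          φ n none ∈ (φ (g : G)).support)) ?_
        have hfix : φ ((g : G) ^ i) none = none := (hmem _).1 (zpow_mem g.2 i)
        calc φ (g : G) (φ n none) = φ n (φ (n⁻¹ * (g : G) * n) none) := by
              rw [← Equiv.Perm.mul_apply, ← Equiv.Perm.mul_apply, ← map_mul, ← map_mul,
                show n * (n⁻¹ * (g : G) * n) = (g : G) * n by group]
          _ = φ n none := by rw [← hi, hfix]
      have hle : Subgroup.zpowers (g : G) ≤ H := Subgroup.zpowers_le.2 g.2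
      have hz : (Subgroup.zpowers g : Subgroup H) = (Subgroup.zpowers (g : G)).subgroupOf H := by
        rw [show (g : G) = H.subtype g from rfl, ← MonoidHom.map_zpowers]
        exact (Subgroup.comap_map_eq_self_of_injective H.subtype_injective _).symm
      rw [hz, ← Subgroup.subgroupOf_normalizer_eq hle, hPz,
        Nat.card_congr (Subgroup.subgroupOfEquivOfLe hNH).toEquiv]
      exact hS.card_normalizer.trans (by rw [hC])
  obtain ⟨g, hg⟩ := exists_prime_orderOf_dvd_card' (G := H) 11 (by rw [hH]; norm_num)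
  refine simple_of_eleven hH ?_ fun x hx => (data x hx).1
  have h := card_normalizer_zpowers hH (Or.inr rfl) hg
  rw [(data g hg).2] at h
  omega

/-- The embedding in normal form. -/
theorem normal_twelve : ∃ φ : G →* Equiv.Perm (Option (ZMod 11)), Function.Injective φ ∧
    φ.range = Subgroup.closure {up sigma11, up mu11, up tau11, w12} := by
  classical
  obtain ⟨φ₀, hφ₀, H, hH, hmem⟩ := exists_twelve hG
  haveI := stab_simple hG hφ₀ hH hmem
  -- the action on the other points
  have hfix : ∀ (h : H) (i : ZMod 11), ∃ j, φ₀ (h : G) (some i) = some j := fun h i => by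
    rcases hj : φ₀ (h : G) (some i) with _ | j
    · exact absurd ((φ₀ (h : G)).injective (hj.trans ((hmem _).1 h.2).symm)) (by simp)
    · exact ⟨j, rfl⟩
  have hr : ∀ (h : H) (i : ZMod 11), some (Equiv.removeNone (φ₀ (h : G)) i) = φ₀ (h : G) (some i) :=
    fun h i => Equiv.removeNone_some _ (hfix h i)
  let φ₁ : H →* Equiv.Perm (ZMod 11) :=
    { toFun := fun h => Equiv.removeNone (φ₀ (h : G))
      map_one' := Equiv.ext fun i => Option.some_injective _ (by rw [hr]; simp)
      map_mul' := fun a b => Equiv.ext fun i => Option.some_injective _ (by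
        rw [hr, Equiv.Perm.mul_apply, hr, hr, Subgroup.coe_mul, map_mul, Equiv.Perm.mul_apply]) }
  have hφ₁ : Function.Injective φ₁ := fun a b hab => Subtype.ext (hφ₀ (Equiv.ext fun o => by
    cases o with
    | none => rw [(hmem _).1 a.2, (hmem _).1 b.2]
    | some i => rw [← hr, ← hr]; exact congrArg some (Equiv.ext_iff.1 hab i)))
  obtain ⟨ψ, hψ, ⟨π, hπ⟩, hψr⟩ := range_eq' hH hφ₁
  let φ : G →* Equiv.Perm (Option (ZMod 11)) := (MulAut.conj (up π)).toMonoidHom.comp φ₀
  have hφ : Function.Injective φ := (MulAut.conj (up π)).injective.comp hφ₀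
  have hπn : (up π)⁻¹ none = none := by
    rw [Equiv.Perm.inv_def, Equiv.symm_apply_eq]; rfl
  have hmem' : ∀ g, g ∈ H ↔ φ g none = none := fun g => by
    rw [hmem g]
    show _ ↔ up π (φ₀ g ((up π)⁻¹ none)) = none
    rw [hπn]
    conv_rhs => rhs; rw [← up_none π]
    exact (up π).apply_eq_iff_eq.symm
  have hup : ∀ h : H, φ (h : G) = up (ψ h) := fun h => Equiv.ext fun o => by
    show up π (φ₀ (h : G) ((up π)⁻¹ o)) = _
    cases o with
    | none => rw [hπn, (hmem _).1 h.2]; rfl
    | some i =>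
      have : (up π)⁻¹ (some i) = some (π⁻¹ i) := by
        rw [Equiv.Perm.inv_def, Equiv.symm_apply_eq, up_some]; simp
      rw [this, ← hr h, hπ]
      rfl
  have hmk : ∀ e ∈ ψ.range, ∃ g : H, φ (g : G) = up e := by
    rintro _ ⟨h, rfl⟩; exact ⟨h, hup h⟩
  obtain ⟨s, hs⟩ := hmk sigma11 (hψr ▸ Subgroup.subset_closure (by simp))
  obtain ⟨m, hm⟩ := hmk mu11 (hψr ▸ Subgroup.subset_closure (by simp))
  obtain ⟨t, ht⟩ := hmk tau11 (hψr ▸ Subgroup.subset_closure (by simp))
  have hmo : orderOf m = 5 := by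
    rw [← Subgroup.orderOf_coe, ← orderOf_injective φ hφ, hm]
    exact orderOf_eq_prime (Equiv.ext (by decide +kernel))
      fun h => absurd (Equiv.ext_iff.1 h (some 1)) (by decide +kernel)
  -- the involution centralizing `m`
  obtain ⟨C⟩ := exists_ctx hG
  have hmG : orderOf (m : G) = 5 := by rw [Subgroup.orderOf_coe, hmo]
  obtain ⟨Q, hQ⟩ := (IsPGroup.of_card (p := 5) (n := 1) (by rw [Nat.card_zpowers, hmG, pow_one]) :
    IsPGroup 5 (Subgroup.zpowers (m : G))).exists_le_sylow
  obtain ⟨hS, hC, -⟩ := five C Q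
  obtain ⟨⟨w, hwC⟩, hw'⟩ := exists_prime_orderOf_dvd_card'
    (G := Subgroup.centralizer ({(m : G)} : Set G)) 2 (by
      rw [hS.centralizer_eq (hQ (Subgroup.mem_zpowers _))
        (fun e => by rw [e, orderOf_one] at hmG; omega), hC]; norm_num)
  have hw : orderOf w = 2 := by rw [← hw', ← Subgroup.orderOf_coe]
  have hwm : w * m = m * w := Subgroup.mem_centralizer_singleton_iff.1 hwC
  have hwH : φ w none ≠ none := fun h => by
    have hwH' := (hmem' w).2 h
    have h1 := (prime_data hH (Or.inl rfl) hmo).1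
    have h2 := Subgroup.orderOf_dvd_natCard (Subgroup.centralizer ({m} : Set H))
      (Subgroup.mem_centralizer_singleton_iff.2 (Subtype.ext hwm) :
        (⟨w, hwH'⟩ : H) ∈ _)
    rw [Subgroup.orderOf_mk, hw, h1] at h2
    norm_num at h2
  have hcomm : ∀ o, φ w (up mu11 o) = up mu11 (φ w o) := fun o => by
    rw [← hm, ← Equiv.Perm.mul_apply, ← map_mul, hwm, map_mul, Equiv.Perm.mul_apply]
  have hinv : ∀ o, φ w (φ w o) = o := fun o => by
    rw [← Equiv.Perm.mul_apply, ← map_mul, ← pow_two, ← hw, pow_orderOf_eq_one, map_one]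
    rfl
  have hmufix : ∀ o, up mu11 o = o → o = none ∨ o = some 0 := by decide +kernel
  have hwn : φ w none = some 0 :=
    (hmufix _ (by rw [← hcomm, up_none])).resolve_left hwH
  have hw0 : φ w (some 0) = none := by rw [← hwn, hinv]
  have hsome : ∀ i : ZMod 11, i ≠ 0 → ∃ j, j ≠ 0 ∧ φ w (some i) = some j := fun i hi => by
    rcases hj : φ w (some i) with _ | j
    · exact absurd ((φ w).injective (hj.trans hw0.symm)) (by simpa using hi)
    · refine ⟨j, fun e => ?_, rfl⟩
      rw [e, ← hwn] at hj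
      exact absurd ((φ w).injective hj) (by simp)
  obtain ⟨f, hf⟩ : ∃ f : ZMod 11 → ZMod 11, ∀ i, f i = (φ w (some i)).getD 0 := ⟨_, fun i => rfl⟩
  have htab : ∀ i, f i = wtab (f 1) (f 2) i := by
    refine wtab_eq (by rw [hf, hw0]; rfl) fun i => ?_
    rw [hf, hf, show (some (3 * i) : Option (ZMod 11)) = up mu11 (some i) from rfl, hcomm]
    rcases φ w (some i) with _ | j
    · show (0 : ZMod 11) = 3 * 0
      simp
    · rfl
  have hW : ⇑(φ w) = wfun (f 1) (f 2) := funext fun o => by
    cases o with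
    | none => exact hwn
    | some i =>
      show φ w (some i) = if i = 0 then none else _
      split_ifs with hi
      · rw [hi, hw0]
      · obtain ⟨j, -, hj⟩ := hsome i hi
        rw [hj, ← htab, hf, hj]
        rfl
  have hne : ∀ i : ZMod 11, i ≠ 0 → f i ≠ 0 := fun i hi => by
    obtain ⟨j, hj0, hj⟩ := hsome i hi
    rw [hf, hj]; exact hj0
  have hcase := wfun_cases (f 1) (f 2) (fun o => by rw [← hW]; exact hinv o) (hne 1 (by decide))
    (hne 2 (by decide))
  have kill : ∀ (i j k o : ℕ), (∀ x, (φ ((s : G) ^ i * (m : G) ^ j * (t : G) ^ k * w))^[7 * o] x = x) →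
      (∃ x, (φ ((s : G) ^ i * (m : G) ^ j * (t : G) ^ k * w))^[o] x ≠ x) → False :=
    fun i j k o h1 h2 => no_seven' hG hφ _ o h1 h2
  rcases hcase with ⟨ha, hb⟩ | ⟨ha, hb⟩ | ⟨ha, hb⟩ | ⟨ha, hb⟩ | ⟨ha, hb⟩ | ⟨ha, hb⟩ <;>
    rw [ha, hb] at hW
  · exact (kill 1 1 2 6
      (by simp only [map_mul, map_pow, hs, hm, ht, Equiv.Perm.coe_mul, Equiv.Perm.coe_pow, hW]; decide +kernel)
      (by simp only [map_mul, map_pow, hs, hm, ht, Equiv.Perm.coe_mul, Equiv.Perm.coe_pow, hW]; decide +kernel)).elim
  · exact (kill 1 0 1 3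
      (by simp only [map_mul, map_pow, hs, hm, ht, Equiv.Perm.coe_mul, Equiv.Perm.coe_pow, hW]; decide +kernel)
      (by simp only [map_mul, map_pow, hs, hm, ht, Equiv.Perm.coe_mul, Equiv.Perm.coe_pow, hW]; decide +kernel)).elim
  · exact (kill 2 1 2 3
      (by simp only [map_mul, map_pow, hs, hm, ht, Equiv.Perm.coe_mul, Equiv.Perm.coe_pow, hW]; decide +kernel)
      (by simp only [map_mul, map_pow, hs, hm, ht, Equiv.Perm.coe_mul, Equiv.Perm.coe_pow, hW]; decide +kernel)).elim
  swap
  · exact (kill 1 0 3 3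
      (by simp only [map_mul, map_pow, hs, hm, ht, Equiv.Perm.coe_mul, Equiv.Perm.coe_pow, hW]; decide +kernel)
      (by simp only [map_mul, map_pow, hs, hm, ht, Equiv.Perm.coe_mul, Equiv.Perm.coe_pow, hW]; decide +kernel)).elim
  swap
  · exact (kill 1 0 2 3
      (by simp only [map_mul, map_pow, hs, hm, ht, Equiv.Perm.coe_mul, Equiv.Perm.coe_pow, hW]; decide +kernel)
      (by simp only [map_mul, map_pow, hs, hm, ht, Equiv.Perm.coe_mul, Equiv.Perm.coe_pow, hW]; decide +kernel)).elim
  have hwe : φ w = w12 := Equiv.ext fun o => by rw [hW]; rfl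
  refine ⟨φ, hφ, le_antisymm ?_ ?_⟩
  · rintro _ ⟨g, rfl⟩
    have hH' : ∀ h : H, φ (h : G) ∈ Subgroup.closure {up sigma11, up mu11, up tau11, w12} := by
      intro h
      have hle : ψ.range ≤ (Subgroup.closure {up sigma11, up mu11, up tau11, w12}).comap
          ({ toFun := up
             map_one' := Equiv.ext fun o => by cases o <;> rfl
             map_mul' := fun a b => Equiv.ext fun o => by cases o <;> rfl } :
            Equiv.Perm (ZMod 11) →* Equiv.Perm (Option (ZMod 11))) := by
        rw [hψr, Subgroup.closure_le]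
        rintro _ (rfl | rfl | rfl) <;> exact Subgroup.subset_closure (by simp)
      rw [hup h]
      exact hle ⟨h, rfl⟩
    by_cases hg : φ g none = none
    · exact hH' ⟨g, (hmem' g).2 hg⟩
    · obtain ⟨i, hi⟩ := Option.ne_none_iff_exists'.1 hg
      obtain ⟨k, hk⟩ : ∃ k, k = (s : G) ^ i.val * w := ⟨_, rfl⟩
      have hsi : ∀ n : ℕ, φ ((s : G) ^ n) (some 0) = some (n : ZMod 11) := fun n => by
        induction n with
        | zero => simp
        | succ n ih =>
          rw [pow_succ', map_mul, Equiv.Perm.mul_apply, ih, hs, Nat.cast_succ]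
          rfl
      have hkn : φ k none = φ g none := by
        rw [hk, map_mul, Equiv.Perm.mul_apply, hwn, hsi, ZMod.natCast_zmod_val, hi]
      have hkg : k⁻¹ * g ∈ H := (hmem' _).2 (by
        rw [map_mul, Equiv.Perm.mul_apply, ← hkn, ← Equiv.Perm.mul_apply, ← map_mul,
          inv_mul_cancel, map_one]; rfl)
      have hg' : φ g = φ ((s : G)) ^ i.val * φ w * φ ((⟨k⁻¹ * g, hkg⟩ : H) : G) := by
        rw [← map_pow, ← map_mul, ← map_mul]
        congr 1
        simp [hk, mul_assoc]
      rw [hg', hs, hwe]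
      exact mul_mem (mul_mem (pow_mem (Subgroup.subset_closure (by simp)) _)
        (Subgroup.subset_closure (by simp))) (hH' _)
  · rw [Subgroup.closure_le]
    rintro _ (rfl | rfl | rfl | rfl)
    exacts [⟨_, hs⟩, ⟨_, hm⟩, ⟨_, ht⟩, ⟨_, hwe⟩]

omit hG in
/-- Any two simple groups of order 95040 are isomorphic. -/
theorem unique_95040 {K : Type*} [Group K] [Fintype K] [IsSimpleGroup K] (hG : Nat.card G = 95040)
    (hK : Nat.card K = 95040) : Nonempty (G ≃* K) := by
  obtain ⟨φ, hφ, hφr⟩ := normal_twelve hG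
  obtain ⟨ψ, hψ, hψr⟩ := normal_twelve hK
  exact ⟨((MonoidHom.ofInjective hφ).trans (MulEquiv.subgroupCongr (hφr.trans hψr.symm))).trans
    (MonoidHom.ofInjective hψ).symm⟩

end Cfsg.Agent.Fg24.M12
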