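import Mathlib

/-!
# Finite searches for the principal 11-block of a simple group of order 95040

A block is given by four signed degrees `D`; the exceptional signed degree is `-(1 + ΣD)`.
-/

set_option autoImplicit false

namespace Cfsg.Agent.Fg24.M12

/-- The sign. -/
def sgn (d : ℤ) : ℤ := if 0 < d then 1 else -1

/-- The signed degrees. -/
def signedDeg : List ℤ := [-120, -54, -32, -10, 12, 45, 144]

/-- The exceptional signed degree. -/
def excDeg (D : List ℤ) : ℤ := -(1 + D.sum)

/-- The signed sum of values. -/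
def sgnSum (D vs : List ℤ) : ℤ := 1 + (List.zipWith (fun d v => sgn d * v) D vs).sum

/-- The value of the exceptional characters. -/
def excVal (D vs : List ℤ) : ℤ := -sgn (excDeg D) * sgnSum D vs

/-- The cleared class multiplication sum at an element of order eleven. -/
def form (D v w : List ℤ) : ℤ :=
  8640 + (List.zipWith (fun d x => x * (8640 / d)) D (List.zipWith (· * ·) v w)).sum +
    sgnSum D v * sgnSum D w * (8640 / excDeg D)

/-- The squares of the block. -/
def blockSq (D : List ℤ) : ℤ := 1 + (D.map fun d => d * d).sum + 2 * excDeg D * excDeg D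

/-- A possible block. -/
def IsPat (D : List ℤ) : Bool :=
  decide (excDeg D ≠ 0) && decide ((8640 : ℤ) % excDeg D = 0) && decide (blockSq D ≤ 95040)

/-- A possible block with self-centralizing Sylow subgroup. -/
def IsPat' (D : List ℤ) : Bool := IsPat D && decide ((95040 - blockSq D) % 121 = 0)

/-- All tuples with one entry from each candidate list and bounded squares. -/
def search (cand : ℤ → List ℤ) : List ℤ → ℤ → List (List ℤ)
  | [], b => if 0 ≤ b then [[]] else []
  | d :: D, b => (cand d).flatMap fun v =>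
      if v * v ≤ b then (search cand D (b - v * v)).map (v :: ·) else []

theorem sum_sq_nonneg (l : List ℤ) : 0 ≤ (l.map fun v => v * v).sum := by
  induction l with
  | nil => simp
  | cons a l ih =>
    simp only [List.map_cons, List.sum_cons]
    exact add_nonneg (mul_self_nonneg a) ih

theorem mem_search {cand : ℤ → List ℤ} {D vs : List ℤ} {b : ℤ}
    (h : List.Forall₂ (fun d v => v ∈ cand d) D vs) (hb : (vs.map fun v => v * v).sum ≤ b) :
    vs ∈ search cand D b := by
  induction h generalizing b with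
  | nil => simpa [search] using hb
  | @cons d v D vs hv h ih =>
    simp only [List.map_cons, List.sum_cons] at hb
    have hvb : v * v ≤ b := by
      have := sum_sq_nonneg vs
      linarith
    simp only [search, List.mem_flatMap]
    exact ⟨v, hv, by rw [if_pos hvb]; exact List.mem_map.2 ⟨vs, ih (by linarith), rfl⟩⟩

/-- The total of the squares of a column on the block. -/
def colSq (D vs : List ℤ) : ℤ :=
  1 + (vs.map fun v => v * v).sum + 2 * sgnSum D vs * sgnSum D vs

/-- The candidates at an involution with centralizer of order `c`. -/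
def candW (c : ℕ) (d : ℤ) : List ℤ :=
  ((List.range ((2 * d.natAbs - 1) / 4)).map fun k => (d.natAbs : ℤ) - 4 * ((k : ℕ) + 1 : ℕ)).filter
    fun v => decide (v * v ≤ (c : ℤ)) && decide (((95040 / c : ℕ) : ℤ) * v % (d.natAbs : ℤ) = 0)

/-- The exceptional part at an involution. -/
def okW (c : ℕ) (D vs : List ℤ) : Bool :=
  decide (colSq D vs ≤ (c : ℤ)) && decide ((excVal D vs).natAbs < (excDeg D).natAbs) &&
    decide (((95040 / c : ℕ) : ℤ) * excVal D vs % excDeg D = 0) &&
    decide ((((excDeg D).natAbs : ℤ) - excVal D vs) % 4 = 0) && decide (form D vs vs = 0)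

/-- The columns at involutions. -/
def solsW (c : ℕ) (D : List ℤ) : List (List ℤ) :=
  (search (candW c) D ((c : ℤ) - 1)).filter fun vs => okW c D vs

/-- The candidates at an element of order five with centralizer of order `c`. -/
def candT (c : ℕ) (d : ℤ) : List ℤ :=
  if d % 5 = 0 then [0] else
    ((List.range (d.natAbs / 4 + d.natAbs / 5 + 2)).map fun k =>
      (d.natAbs : ℤ) - 5 * ((k : ℕ) : ℤ)).filter fun v => decide (0 ≤ (d.natAbs : ℤ) + 4 * v) &&
        decide (v * v ≤ (c : ℤ)) && decide (((95040 / c : ℕ) : ℤ) * v % (d.natAbs : ℤ) = 0)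

/-- The exceptional part at an element of order five. -/
def okT (c : ℕ) (D vs : List ℤ) : Bool :=
  decide (colSq D vs ≤ (c : ℤ)) &&
    decide (((95040 / c : ℕ) : ℤ) * excVal D vs % excDeg D = 0) &&
    (if excDeg D % 5 = 0 then decide (excVal D vs = 0) else
      decide ((((excDeg D).natAbs : ℤ) - excVal D vs) % 5 = 0) &&
        decide (0 ≤ ((excDeg D).natAbs : ℤ) + 4 * excVal D vs)) &&
    decide (0 ≤ form D vs vs) && decide (form D vs vs % ((c : ℤ) * c) = 0)

/-- The columns at elements of order five. -/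
def solsT (c : ℕ) (D : List ℤ) : List (List ℤ) :=
  (search (candT c) D ((c : ℤ) - 1)).filter fun vs => okT c D vs

/-- The candidates at an involution centralizing the Sylow 11-subgroup. -/
def candC (c : ℕ) (d : ℤ) : List ℤ :=
  ((List.range (d.natAbs / 11)).map fun k => (d.natAbs : ℤ) - 22 * ((k : ℕ) + 1 : ℕ)).filter
    fun v => decide (v * v ≤ (c : ℤ)) && decide (((95040 / c : ℕ) : ℤ) * v % (d.natAbs : ℤ) = 0)

/-- The exceptional part at an involution centralizing the Sylow 11-subgroup. -/
def okC (c : ℕ) (D vs : List ℤ) : Bool :=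
  decide (colSq D vs ≤ (c : ℤ)) && decide ((excVal D vs).natAbs < (excDeg D).natAbs) &&
    decide (((95040 / c : ℕ) : ℤ) * excVal D vs % excDeg D = 0) &&
    decide ((((excDeg D).natAbs : ℤ) - excVal D vs) % 2 = 0)

/-- The orders of centralizers of central involutions. -/
def cents0 : List ℕ := [64, 192, 320, 576, 960, 1728, 2880, 8640]

/-- The orders of centralizers of involutions commuting with elements of order five. -/
def cents5 : List ℕ :=
  [10, 20, 30, 40, 60, 80, 90, 120, 160, 180, 240, 270, 320, 360, 480, 540, 720, 960, 1080, 1440,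
    2160, 2880, 4320, 8640]

/-- The orders of centralizers of involutions commuting with elements of orders five and eleven. -/
def cents55 : List ℕ :=
  [110, 220, 330, 440, 660, 880, 990, 1320, 1760, 1980, 2640, 2970, 3520, 3960, 5280, 5940, 7920,
    10560, 11880, 15840, 23760, 31680, 47520, 95040]

theorem cents0_aux : ∀ j ∈ Nat.divisors 135, 64 * j ∈ cents0 := by decide +kernel

theorem cents5_aux : ∀ j ∈ Nat.divisors 864, 10 * j ∈ cents5 := by decide +kernel

theorem cents55_aux : ∀ j ∈ Nat.divisors 864, 110 * j ∈ cents55 := by decide +kernel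

theorem cents0_spec {c : ℕ} (hc : c ∣ 8640) (h : 64 ∣ c) : c ∈ cents0 := by
  obtain ⟨j, rfl⟩ := h
  exact cents0_aux j (Nat.mem_divisors.2
    ⟨Nat.dvd_of_mul_dvd_mul_left (k := 64) (by norm_num) hc, by norm_num⟩)

theorem cents5_spec {c : ℕ} (hc : c ∣ 8640) (h : 10 ∣ c) : c ∈ cents5 := by
  obtain ⟨j, rfl⟩ := h
  exact cents5_aux j (Nat.mem_divisors.2
    ⟨Nat.dvd_of_mul_dvd_mul_left (k := 10) (by norm_num) hc, by norm_num⟩)

theorem cents55_spec {c : ℕ} (hc : c ∣ 95040) (h : 110 ∣ c) : c ∈ cents55 := by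
  obtain ⟨j, rfl⟩ := h
  exact cents55_aux j (Nat.mem_divisors.2
    ⟨Nat.dvd_of_mul_dvd_mul_left (k := 110) (by norm_num) hc, by norm_num⟩)

/-- The block of the group M12. -/
def patM12 : List ℤ := [-120, -54, 45, 144]

theorem block_only : ∀ a ∈ signedDeg, ∀ b ∈ signedDeg, a ≤ b → ∀ c ∈ signedDeg, b ≤ c →
    ∀ d ∈ signedDeg, c ≤ d → IsPat' [a, b, c, d] = true →
    cents0.any (fun k => !(solsW k [a, b, c, d]).isEmpty) = true →
    cents5.any (fun k => !(solsW k [a, b, c, d]).isEmpty) = true → [a, b, c, d] = patM12 := by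
  decide +kernel

theorem no_twenty_seven : ∀ a ∈ signedDeg, ∀ b ∈ signedDeg, a ≤ b → ∀ c ∈ signedDeg, b ≤ c →
    ∀ d ∈ signedDeg, c ≤ d → IsPat' [a, b, c, d] = true →
    solsT 135 [a, b, c, d] = [] := by
  decide +kernel

theorem twelves : ∀ a ∈ signedDeg, ∀ b ∈ signedDeg, a ≤ b → ∀ c ∈ signedDeg, b ≤ c →
    ∀ d ∈ signedDeg, c ≤ d → IsPat' [a, b, c, d] = true →
    (2 ≤ [a, b, c, d].count 12 + if (excDeg [a, b, c, d]).natAbs = 12 then 2 else 0) →
    cents0.any (fun k => !(solsW k [a, b, c, d]).isEmpty) = true →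
    [a, b, c, d].count 12 = 2 ∧ (∀ x ∈ [a, b, c, d], x ≠ 12 → x % 5 = 0) ∧
      excDeg [a, b, c, d] % 5 = 0 := by
  decide +kernel

theorem no_twelve_center : ∀ a ∈ signedDeg, ∀ b ∈ signedDeg, a ≤ b → ∀ c ∈ signedDeg, b ≤ c →
    ∀ d ∈ signedDeg, c ≤ d → IsPat [a, b, c, d] = true → ∀ k ∈ cents55,
    ((search (candC k) [a, b, c, d] ((k : ℤ) - 1)).filter fun vs => okC k [a, b, c, d] vs) = [] := by
  decide +kernel

theorem m12_five : ∀ k ∈ cents5, ∀ vs ∈ solsW k patM12,
    ((k = 120 ∨ k = 240) ∧ (vs = [0, 6, 5, 4] ∨ vs = [0, 6, 5, -4])) ∨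
      (k = 1440 ∧ vs = [0, 18, -15, 24]) := by
  decide +kernel

theorem m12_central : ∀ k ∈ cents0, ∀ vs ∈ solsW k patM12, k = 192 := by decide +kernel

theorem m12_t : (∀ k ∈ [12, 72, 432], solsT (5 * k) patM12 = []) ∧
    solsT 10 patM12 = [[0, -1, 0, -1]] := by
  decide +kernel

end Cfsg.Agent.Fg24.M12
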