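import Cfsg.Agent.S4429
import Cfsg.Agent.ConstFour.Eigen
import Cfsg.Agent.BlockThms.DefectZero

/-!
# Simple groups of order 95040: generalities
-/

set_option autoImplicit false

namespace Cfsg.Agent.Fg24.M12

open scoped ComplexConjugate
open Cfsg.Agent Cfsg.Agent.Blocks

universe u

variable {G : Type u} [Group G] [Fintype G]

/-- The degree. -/
noncomputable abbrev dg (χ : Cfsg.IrrCharacter G) : ℕ := Cfsg.charDegree (χ : G → ℂ)

theorem value_one (χ : Cfsg.IrrCharacter G) : (χ : G → ℂ) 1 = (dg χ : ℂ) :=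
  (charDegree_cast (Char.IsIrr.isCharacter χ.2)).symm

theorem dg_triv : dg (triv G : Cfsg.IrrCharacter G) = 1 :=
  charDegree_eq (by show (1 : ℂ) = _; simp)

theorem triv_apply (g : G) : ((triv G : Cfsg.IrrCharacter G) : G → ℂ) g = 1 := rfl

theorem triv_coe : ((triv G : Cfsg.IrrCharacter G) : G → ℂ) = fun _ => 1 := rfl

theorem ne_triv {χ : Cfsg.IrrCharacter G} (h : dg χ ≠ 1) : (χ : G → ℂ) ≠ fun _ => 1 := fun e => by
  refine h ?_
  rw [show χ = triv G from Subtype.ext e, dg_triv]

/-- An integer value divides the size of the class times the degree. -/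
theorem dvd_index (χ : Cfsg.IrrCharacter G) (g : G) {v : ℤ} (hv : (χ : G → ℂ) g = v) :
    (dg χ : ℤ) ∣ ((Subgroup.centralizer ({g} : Set G)).index : ℤ) * v := by
  classical
  obtain ⟨c, hc, he⟩ := CharArith.isIntegral_classSum χ.2 g
  rw [← Fintype.card_subtype, ← Nat.card_eq_fintype_card, Char.card_isConj_eq_index, value_one,
    hv] at he
  have hd0 : (dg χ : ℂ) ≠ 0 := by
    rw [← value_one]; exact Char.IsIrr.one_ne_zero χ.2
  have hq : c = ((((Subgroup.centralizer ({g} : Set G)).index : ℚ) * (v : ℚ) / (dg χ : ℚ) : ℚ) : ℂ) := by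
    rw [eq_comm]
    push_cast
    rw [div_eq_iff hd0, mul_comm c, he]
  rw [hq] at hc
  obtain ⟨i, hi⟩ := Char.exists_int_of_isIntegral_rat hc
  refine ⟨i, ?_⟩
  have hd0' : (dg χ : ℚ) ≠ 0 := by exact_mod_cast hd0
  rw [eq_div_iff hd0'] at hi
  have hi' : i * (dg χ : ℤ) = ((Subgroup.centralizer ({g} : Set G)).index : ℤ) * v := by
    exact_mod_cast hi
  rw [← hi', mul_comm]

/-- The second orthogonality relation between nonconjugate elements. -/
theorem orth_ne {g h : G} (hgh : ¬ IsConj g h) :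
    ∑ χ : Cfsg.IrrCharacter G, (χ : G → ℂ) g * conj ((χ : G → ℂ) h) = 0 := by
  rw [Char.second_orthogonality, if_neg hgh]

/-- The second orthogonality relation at one element. -/
theorem orth_self (g : G) :
    ∑ χ : Cfsg.IrrCharacter G, (χ : G → ℂ) g * conj ((χ : G → ℂ) g) =
      (Nat.card (Subgroup.centralizer ({g} : Set G)) : ℂ) := by
  rw [Char.second_orthogonality, if_pos (IsConj.refl g)]

variable [IsSimpleGroup G] (hG : Nat.card G = 95040)
include hG

theorem not_comm : ¬ IsMulCommutative G := fun hc => by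
  let : CommGroup G := { (inferInstance : Group G) with mul_comm := hc.is_comm.comm }
  have := IsSimpleGroup.prime_card (α := G)
  rw [hG] at this
  norm_num at this

theorem noLinear : ConstFour.NoLinear G := fun f => MonoidHom.ext fun g => by
  rw [Char.hom_commutator_eq_one f (S4429.perfect (not_comm hG) ▸ Subgroup.mem_top g)]
  rfl

theorem sum_sq : ∑ χ : Cfsg.IrrCharacter G, (dg χ : ℤ) ^ 2 = 95040 := by
  have h3 := Char.sum_sq_degree (G := G)
  simp only [value_one, hG] at h3
  exact_mod_cast h3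

theorem deg_facts (χ : Cfsg.IrrCharacter G) : dg χ ∣ 95040 ∧ dg χ < 309 ∧ 0 < dg χ := by
  refine ⟨?_, ?_, charDegree_pos χ.2⟩
  · rw [← hG]
    exact Char.IsIrr.degree_dvd_card χ.2 (value_one χ)
  · have h := Finset.single_le_sum (f := fun ψ : Cfsg.IrrCharacter G => (dg ψ : ℤ) ^ 2)
      (fun _ _ => sq_nonneg _) (Finset.mem_univ χ)
    rw [sum_sq hG] at h
    by_contra hlt
    push Not at hlt
    have : (309 : ℤ) ≤ (dg χ : ℤ) := by exact_mod_cast hlt
    nlinarith

theorem dg_one {χ : Cfsg.IrrCharacter G} (h : dg χ = 1) : χ = triv G :=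
  Subtype.ext (S4429.deg_one (not_comm hG) (Char.IsIrr.isCharacter χ.2)
    (by rw [value_one, h, Nat.cast_one]))

theorem card_sylow (p : ℕ) [Fact p.Prime] (hp : p = 5 ∨ p = 11) (P : Sylow p G) :
    Nat.card (P : Subgroup G) = p := by
  rw [P.card_eq_multiplicity, hG]
  have h : (95040 : ℕ).factorization p = 1 := by
    rcases hp with rfl | rfl
    · rw [show (95040 : ℕ) = 5 * 19008 by norm_num, Nat.factorization_mul (by norm_num) (by norm_num),
        Finsupp.add_apply, Nat.Prime.factorization_self (by norm_num),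
        Nat.factorization_eq_zero_of_not_dvd (by norm_num)]
    · rw [show (95040 : ℕ) = 11 * 8640 by norm_num, Nat.factorization_mul (by norm_num) (by norm_num),
        Finsupp.add_apply, Nat.Prime.factorization_self (by norm_num),
        Nat.factorization_eq_zero_of_not_dvd (by norm_num)]
  rw [h, pow_one]

/-- The count of the Sylow subgroups of order `p` through the normalizer. -/
theorem normalizer_count {p : ℕ} [Fact p.Prime] {P : Sylow p G} {e : ℕ}
    (hS : BlockThms.OrderP.Setup P e) :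
    ∃ K : Subgroup G, K ≤ Subgroup.centralizer (P : Set G) ∧
      Nat.card (Subgroup.centralizer (P : Set G)) = p * Nat.card K ∧
      Nat.card (Sylow p G) * (e * Nat.card K) * p = 95040 := by
  obtain ⟨K, hKC, -, -, -, hCK, -⟩ := hS.exists_complement
  refine ⟨K, hKC, hCK, ?_⟩
  have hN := hS.card_normalizer
  have hidx := Sylow.card_eq_index_normalizer P
  have hmul := Subgroup.card_mul_index (Subgroup.normalizer ((P : Subgroup G) : Set G))
  rw [show (Subgroup.normalizer ((P : Subgroup G) : Set G)).index = Nat.card (Sylow p G) from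
    hidx.symm, hG, show Nat.card (Subgroup.normalizer ((P : Subgroup G) : Set G)) =
      e * Nat.card (Subgroup.centralizer (P : Set G)) from hN, hCK] at hmul
  rw [← hmul]
  ring

theorem triv_data {p : ℕ} [Fact p.Prime] (hp : 2 < p) {e : ℕ}
    {M : Ideal Cfsg.AlgInt} (hM : Cfsg.IsPModular p M)
    (X Y : Finset (Cfsg.IrrCharacter G)) (a : Cfsg.IrrCharacter G → ℤ) (s : ℤ)
    (hmem : ∀ χ, χ ∈ Cfsg.principalBlock M G ↔ χ ∈ X ∨ χ ∈ Y) (hne : ¬ ((1 : ℤ) ≡ -((e : ℤ) * s) [ZMOD p]))
    (hX : ∀ χ ∈ X, (a χ = 1 ∨ a χ = -1) ∧ (dg χ : ℤ) ≡ a χ [ZMOD p])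
    (hY : ∀ θ ∈ Y, (dg θ : ℤ) ≡ -((e : ℤ) * s) [ZMOD p]) :
    triv G ∈ X ∧ a (triv G) = 1 := by
  have htX : triv G ∈ X := by
    refine ((hmem _).1 (triv_mem_principalBlock hM)).resolve_right fun ht => ?_
    have h1 := hY _ ht
    rw [dg_triv] at h1
    exact hne (by exact_mod_cast h1)
  refine ⟨htX, ?_⟩
  have h1 := (hX _ htX).2
  rw [dg_triv] at h1
  rcases (hX _ htX).1 with h2 | h2
  · exact h2
  · exfalso
    rw [h2] at h1
    have h3 : (p : ℤ) ∣ 2 := by simpa using Int.modEq_iff_dvd.1 h1.symm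
    have := Int.le_of_dvd (by norm_num) h3
    omega

theorem card_centralizer_mul_index (g : G) :
    Nat.card (Subgroup.centralizer ({g} : Set G)) *
      (Subgroup.centralizer ({g} : Set G)).index = 95040 := by
  rw [Subgroup.card_mul_index, hG]

theorem index_eq (g : G) : (Subgroup.centralizer ({g} : Set G)).index =
    95040 / Nat.card (Subgroup.centralizer ({g} : Set G)) :=
  (Nat.div_eq_of_eq_mul_left Nat.card_pos (by
    rw [mul_comm, card_centralizer_mul_index hG g])).symm

/-- The values at an involution. -/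
theorem inv_value (χ : Cfsg.IrrCharacter G) (hχ : dg χ ≠ 1) {h : G} (hh : orderOf h = 2) :
    ∃ v : ℤ, ∃ k : ℕ, (χ : G → ℂ) h = v ∧ v = (dg χ : ℤ) - 4 * k ∧ 0 < k ∧
      v.natAbs < dg χ ∧
      (((95040 / Nat.card (Subgroup.centralizer ({h} : Set G)) : ℕ) : ℤ) * v % (dg χ : ℤ) = 0) := by
  obtain ⟨v, hv, -, hlo, hhi, hdvd, hne⟩ := S4429.inv_value (not_comm hG) χ hh
  obtain ⟨h1, h2⟩ := hne (ne_triv hχ)
  obtain ⟨k, hk⟩ := ConstFour.four_dvd (noLinear hG) (Char.IsIrr.isCharacter χ.2) (u := h)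
    (by rw [← sq, ← hh, pow_orderOf_eq_one])
  rw [value_one, hv] at hk
  have hk' : (dg χ : ℤ) = v + 4 * k := by exact_mod_cast hk
  simp only [dg] at hk' ⊢
  refine ⟨v, k, hv, by linarith, ?_, ?_, ?_⟩
  · rcases Nat.eq_zero_or_pos k with rfl | h3
    · simp at hk'; exact absurd hk'.symm h1
    · exact h3
  · omega
  · rw [← index_eq hG]
    exact Int.emod_eq_zero_of_dvd hdvd

end Cfsg.Agent.Fg24.M12
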