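import Cfsg.Agent.Fg24.M12.Arith
import Cfsg.Agent.Fg24.M12.Basic

/-!
# The principal 11-block with an automizer of order five
-/

set_option autoImplicit false

namespace Cfsg.Agent.Fg24.M12

open scoped ComplexConjugate
open Cfsg.Agent Cfsg.Agent.Blocks

universe u

variable {G : Type u} [Group G] [Fintype G]

/-- The degree with the sign of its residue modulo eleven. -/
noncomputable def sd (χ : Cfsg.IrrCharacter G) : ℤ :=
  if dg χ % 11 = 1 then (dg χ : ℤ) else -(dg χ : ℤ)

theorem sd_natAbs (χ : Cfsg.IrrCharacter G) : (sd χ).natAbs = dg χ := by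
  rw [sd]; split_ifs <;> simp

theorem sgn_sd (χ : Cfsg.IrrCharacter G) : sgn (sd χ) = if dg χ % 11 = 1 then 1 else -1 := by
  have h0 : 0 < dg χ := charDegree_pos χ.2
  rw [sd, sgn]
  by_cases h : dg χ % 11 = 1
  · rw [if_pos h, if_pos h, if_pos (by exact_mod_cast h0)]
  · rw [if_neg h, if_neg h, if_neg (by omega)]

theorem sd_eq (χ : Cfsg.IrrCharacter G) : sd χ = sgn (sd χ) * dg χ := by
  rw [sgn_sd, sd]; split_ifs <;> ring

/-- Four characters and the two exceptional ones. -/
structure Blk (P : Sylow 11 G) (M : Ideal Cfsg.AlgInt) where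
  x : Fin 4 → Cfsg.IrrCharacter G
  y : Fin 2 → Cfsg.IrrCharacter G
  x_inj : Function.Injective x
  y_inj : Function.Injective y
  x_ne : ∀ i, x i ≠ triv G
  y_ne : ∀ j, y j ≠ triv G
  xy_ne : ∀ i j, x i ≠ y j
  sorted : sd (x 0) ≤ sd (x 1) ∧ sd (x 1) ≤ sd (x 2) ∧ sd (x 2) ≤ sd (x 3)
  mem : ∀ i, sd (x i) ∈ signedDeg
  ne0 : excDeg [sd (x 0), sd (x 1), sd (x 2), sd (x 3)] ≠ 0
  deg_y : ∀ j, dg (y j) = (excDeg [sd (x 0), sd (x 1), sd (x 2), sd (x 3)]).natAbs
  dvd_y : (excDeg [sd (x 0), sd (x 1), sd (x 2), sd (x 3)]).natAbs ∣ 8640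
  cover : ∀ χ, χ ∈ Cfsg.principalBlock M G ↔ χ = triv G ∨ (∃ i, x i = χ) ∨ ∃ j, y j = χ
  at_p : ∀ i, ∀ z ∈ (P : Subgroup G), z ≠ 1 → ∀ k ∈ Subgroup.centralizer (P : Set G),
    ¬ 11 ∣ orderOf k → (x i : G → ℂ) (z * k) = (sgn (sd (x i)) : ℂ)
  rel : ∀ j, ∀ g : G, ¬ 11 ∣ orderOf g →
    (sgn (excDeg [sd (x 0), sd (x 1), sd (x 2), sd (x 3)]) : ℂ) * (y j : G → ℂ) g +
      (1 + ∑ i, (sgn (sd (x i)) : ℂ) * (x i : G → ℂ) g) = 0

variable {P : Sylow 11 G} {M : Ideal Cfsg.AlgInt}

/-- The signed degrees of a block. -/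
noncomputable def Blk.D (B : Blk P M) : List ℤ :=
  [sd (B.x 0), sd (B.x 1), sd (B.x 2), sd (B.x 3)]

/-- Four values as a list. -/
def four (v : Fin 4 → ℤ) : List ℤ := [v 0, v 1, v 2, v 3]

theorem sgn_mul_self (d : ℤ) : sgn d * sgn d = 1 := by
  rw [sgn]; split_ifs <;> norm_num

theorem Blk.sgnSum_eq (B : Blk P M) (v : Fin 4 → ℤ) :
    sgnSum B.D (four v) = 1 + ∑ i, sgn (sd (B.x i)) * v i := by
  simp only [sgnSum, Blk.D, four, List.zipWith, List.sum_cons, List.sum_nil, Fin.sum_univ_four]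
  ring

/-- The exceptional value from the others. -/
theorem Blk.y_value (B : Blk P M) (j : Fin 2) {g : G} (hg : ¬ 11 ∣ orderOf g) {v : Fin 4 → ℤ}
    (hv : ∀ i, (B.x i : G → ℂ) g = v i) :
    (B.y j : G → ℂ) g = (excVal B.D (four v) : ℤ) := by
  have h := B.rel j g hg
  simp only [hv] at h
  have h1 : ((sgn (excDeg B.D) * sgn (excDeg B.D) : ℤ) : ℂ) = 1 := by
    rw [sgn_mul_self, Int.cast_one]
  rw [excVal, B.sgnSum_eq]
  push_cast at h h1 ⊢
  simp only [Blk.D] at h1 ⊢
  linear_combination (sgn (excDeg [sd (B.x 0), sd (B.x 1), sd (B.x 2), sd (B.x 3)]) : ℂ) * h -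
    (B.y j : G → ℂ) g * h1

open scoped Classical in
/-- The seven members. -/
noncomputable def Blk.members (B : Blk P M) : Finset (Cfsg.IrrCharacter G) :=
  insert (triv G) ((Finset.univ.image B.x) ∪ (Finset.univ.image B.y))

theorem Blk.mem_members (B : Blk P M) (χ : Cfsg.IrrCharacter G) :
    χ ∈ B.members ↔ χ ∈ Cfsg.principalBlock M G := by
  classical
  rw [B.cover, Blk.members]
  simp

theorem Blk.sum_members {β : Type*} [AddCommMonoid β] (B : Blk P M) (f : Cfsg.IrrCharacter G → β) :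
    ∑ χ ∈ B.members, f χ = f (triv G) + ((∑ i, f (B.x i)) + ∑ j, f (B.y j)) := by
  classical
  rw [Blk.members, Finset.sum_insert, Finset.sum_union, Finset.sum_image, Finset.sum_image]
  · exact fun a _ b _ h => B.y_inj h
  · exact fun a _ b _ h => B.x_inj h
  · rw [Finset.disjoint_left]
    simp only [Finset.mem_image, Finset.mem_univ, true_and]
    rintro _ ⟨i, rfl⟩ ⟨j, hj⟩
    exact B.xy_ne i j hj.symm
  · simp only [Finset.mem_union, Finset.mem_image, Finset.mem_univ, true_and, not_or, not_exists]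
    exact ⟨B.x_ne, B.y_ne⟩

theorem Blk.y_sq (B : Blk P M) {v : Fin 4 → ℤ} :
    excVal B.D (four v) * excVal B.D (four v) = sgnSum B.D (four v) * sgnSum B.D (four v) := by
  rw [excVal]
  linear_combination (sgnSum B.D (four v) * sgnSum B.D (four v)) * sgn_mul_self (excDeg B.D)

/-- The squares of a column on the block are at most the centralizer. -/
theorem Blk.colSq_le (B : Blk P M) {g : G} (hg : ¬ 11 ∣ orderOf g) {v : Fin 4 → ℤ}
    (hv : ∀ i, (B.x i : G → ℂ) g = v i) :
    colSq B.D (four v) ≤ (Nat.card (Subgroup.centralizer ({g} : Set G)) : ℤ) := by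
  classical
  have h2 := orth_self g
  simp only [Complex.mul_conj'] at h2
  have h1 : (∑ χ : Cfsg.IrrCharacter G, ‖(χ : G → ℂ) g‖ ^ 2 : ℝ) =
      (Nat.card (Subgroup.centralizer ({g} : Set G)) : ℝ) := by exact_mod_cast h2
  have hn : ∀ (χ : Cfsg.IrrCharacter G) (k : ℤ), (χ : G → ℂ) g = k →
      ‖(χ : G → ℂ) g‖ ^ 2 = ((k * k : ℤ) : ℝ) := fun χ k hk => by
    rw [hk, show ((k : ℤ) : ℂ) = ((k : ℝ) : ℂ) from (Complex.ofReal_intCast _).symm,
      Complex.norm_real, Real.norm_eq_abs, sq_abs]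
    push_cast; ring
  have h3 := Finset.sum_le_univ_sum_of_nonneg (s := B.members)
    (f := fun χ : Cfsg.IrrCharacter G => ‖(χ : G → ℂ) g‖ ^ 2) fun χ => sq_nonneg _
  rw [B.sum_members, h1, hn _ 1 (by simp [triv_apply]),
    Finset.sum_congr rfl (g := fun i => ((v i * v i : ℤ) : ℝ)) fun i _ => hn _ _ (hv i),
    Finset.sum_congr rfl (g := fun _ => ((excVal B.D (four v) * excVal B.D (four v) : ℤ) : ℝ))
      fun j _ => hn _ _ (B.y_value j hg hv)] at h3
  rw [B.y_sq] at h3
  simp only [Fin.sum_univ_four, Fin.sum_univ_two] at h3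
  have h4 : ((colSq B.D (four v) : ℤ) : ℝ) ≤
      (Nat.card (Subgroup.centralizer ({g} : Set G)) : ℝ) := by
    refine le_trans (le_of_eq ?_) h3
    simp only [colSq, four, List.map_cons, List.map_nil, List.sum_cons, List.sum_nil]
    push_cast
    ring
  exact_mod_cast h4

/-- The degrees of the block. -/
theorem Blk.dg_x (B : Blk P M) (i : Fin 4) : dg (B.x i) = (sd (B.x i)).natAbs := (sd_natAbs _).symm

theorem Blk.sum_sq_members (B : Blk P M) :
    ∑ χ ∈ B.members, (dg χ : ℤ) ^ 2 = blockSq B.D := by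
  rw [B.sum_members]
  have hx : ∀ i, (dg (B.x i) : ℤ) ^ 2 = sd (B.x i) * sd (B.x i) := fun i => by
    rw [B.dg_x, Int.natAbs_sq, sq]
  have hy : ∀ j, (dg (B.y j) : ℤ) ^ 2 = excDeg B.D * excDeg B.D := fun j => by
    rw [B.deg_y, Int.natAbs_sq, sq]; rfl
  simp only [hx, hy, dg_triv, Fin.sum_univ_four, Fin.sum_univ_two, blockSq, Blk.D, List.map_cons,
    List.map_nil, List.sum_cons, List.sum_nil]
  push_cast
  ring

section Simple

variable [IsSimpleGroup G] (hG : Nat.card G = 95040)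
include hG

theorem Blk.isPat (B : Blk P M) : IsPat B.D = true := by
  classical
  simp only [IsPat, Bool.and_eq_true, decide_eq_true_eq]
  refine ⟨⟨B.ne0, ?_⟩, ?_⟩
  · exact Int.emod_eq_zero_of_dvd (Int.natAbs_dvd.1 (Int.natCast_dvd_natCast.2 B.dvd_y))
  · rw [← B.sum_sq_members, ← sum_sq hG]
    exact Finset.sum_le_univ_sum_of_nonneg fun χ => sq_nonneg _

omit hG in
set_option synthInstance.maxSize 4000 in
theorem degree_list : ∀ d : ℕ, d < 309 → d ∣ 8640 → (d % 11 = 1 ∨ d % 11 = 10) → d ≠ 1 →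
    (if d % 11 = 1 then (d : ℤ) else -(d : ℤ)) ∈ signedDeg := by
  decide +kernel

/-- The principal block for an automizer of order five. -/
theorem exists_blk [Fact (Nat.Prime 11)] (hS : BlockThms.OrderP.Setup P 5)
    (hM : Cfsg.IsPModular 11 M) : Nonempty (Blk P M) := by
  classical
  obtain ⟨X, Y, a, s, hdisj, hXc, hYc, hmem, hs, hX, hY, -, hrel⟩ := hS.principal_structure hM
  obtain ⟨htX, hta⟩ := triv_data hG (by norm_num) hM X Y a s hmem
    (by rcases hs with rfl | rfl <;> decide) (fun χ hχ => ⟨(hX χ hχ).1, (hX χ hχ).2.1⟩) hY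
  have h8640 : ∀ χ : Cfsg.IrrCharacter G, χ ∈ Cfsg.principalBlock M G → dg χ ∣ 8640 := fun χ hχ =>
    (((Fact.out : Nat.Prime 11).coprime_iff_not_dvd.2
      (hS.not_dvd_degree hM hχ)).symm).dvd_of_dvd_mul_left
      (show _ ∣ 11 * 8640 from (deg_facts hG χ).1)
  have hxd : ∀ χ ∈ X.erase (triv G), sd χ ∈ signedDeg ∧ a χ = sgn (sd χ) := by
    intro χ hχ'
    obtain ⟨hne, hχ⟩ := Finset.mem_erase.1 hχ'
    obtain ⟨ha, hda, -⟩ := hX χ hχ
    have h4 := Int.ModEq.eq hda
    refine ⟨degree_list _ (deg_facts hG χ).2.1 (h8640 χ ((hmem χ).2 (Or.inl hχ))) ?_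
      fun h => hne (dg_one hG h), ?_⟩
    · rcases ha with ha | ha <;> rw [ha] at h4 <;> norm_num at h4 <;> simp only [dg] <;> omega
    · rw [sgn_sd]
      rcases ha with ha | ha <;> rw [ha] at h4 ⊢ <;> norm_num at h4 <;> split_ifs with h <;>
        simp only [dg] at h <;> omega
  obtain ⟨L, hL⟩ : ∃ L, L = (X.erase (triv G)).toList.mergeSort
      (fun p q => decide (sd p ≤ sd q)) := ⟨_, rfl⟩
  have hperm : L.Perm (X.erase (triv G)).toList := hL ▸ List.mergeSort_perm _ _
  have hlen : L.length = 4 := by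
    rw [hperm.length_eq, Finset.length_toList, Finset.card_erase_of_mem htX, hXc]
  have hsort : L.Pairwise (fun p q => decide (sd p ≤ sd q) = true) := by
    rw [hL]
    exact List.pairwise_mergeSort
      (fun a b c h1 h2 => by simp only [decide_eq_true_eq] at *; exact h1.trans h2)
      (fun a b => by simp only [Bool.or_eq_true, decide_eq_true_eq]; exact le_total _ _) _
  have hnd : L.Nodup := hperm.nodup_iff.2 (Finset.nodup_toList _)
  have hLm : ∀ χ, χ ∈ L ↔ χ ∈ X.erase (triv G) := fun χ => by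
    rw [hperm.mem_iff, Finset.mem_toList]
  match L, hlen with
  | [x0, x1, x2, x3], _ =>
    simp only [List.pairwise_cons, List.mem_cons, List.not_mem_nil, or_false, decide_eq_true_eq] at hsort
    simp only [List.nodup_cons, List.mem_cons, List.not_mem_nil, or_false, not_or] at hnd
    let x : Fin 4 → Cfsg.IrrCharacter G := ![x0, x1, x2, x3]
    have hxm : ∀ i, x i ∈ X.erase (triv G) := fun i => (hLm _).1 (by fin_cases i <;> simp [x])
    have hxinj : Function.Injective x := by
      intro i j h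
      fin_cases i <;> fin_cases j <;> simp [x] at h ⊢ <;> simp_all
    have himg : Finset.univ.image x = X.erase (triv G) := Finset.eq_of_subset_of_card_le
      (fun χ hχ => by obtain ⟨i, -, rfl⟩ := Finset.mem_image.1 hχ; exact hxm i)
      (by rw [Finset.card_image_of_injective _ hxinj, Finset.card_erase_of_mem htX, hXc,
        Finset.card_univ, Fintype.card_fin])
    obtain ⟨θ, θ', hne, hYeq⟩ := Finset.card_eq_two.1 (show Y.card = 2 by rw [hYc])
    let y : Fin 2 → Cfsg.IrrCharacter G := ![θ, θ']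
    have hym : ∀ j, y j ∈ Y := fun j => by rw [hYeq]; fin_cases j <;> simp [y]
    have hXsum : ∀ f : Cfsg.IrrCharacter G → ℂ, ∑ χ ∈ X, f χ = f (triv G) + ∑ i, f (x i) :=
      fun f => by rw [← Finset.add_sum_erase _ _ htX, ← himg, Finset.sum_image fun a _ b _ h => hxinj h]
    have hrel' : ∀ j, ∀ g : G, ¬ 11 ∣ orderOf g → (s : ℂ) * (y j : G → ℂ) g +
        (1 + ∑ i, (sgn (sd (x i)) : ℂ) * (x i : G → ℂ) g) = 0 := by
      intro j g hg
      have h := hrel (y j) (hym j) g hg
      rw [hXsum, hta, Int.cast_one, one_mul, triv_apply] at h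
      simp only [fun i => (hxd (x i) (hxm i)).2] at h
      exact h
    have hR : ∀ j, (s : ℤ) * dg (y j) = excDeg [sd (x 0), sd (x 1), sd (x 2), sd (x 3)] := by
      intro j
      have h := hrel' j 1 (by rw [orderOf_one]; norm_num)
      simp only [value_one] at h
      have h' : s * (dg (y j) : ℤ) + (1 + ∑ i, sgn (sd (x i)) * (dg (x i) : ℤ)) = 0 := by
        exact_mod_cast h
      simp only [← sd_eq, Fin.sum_univ_four] at h'
      simp only [excDeg, List.sum_cons, List.sum_nil]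
      linarith
    have hpos : ∀ j, 0 < dg (y j) := fun j => charDegree_pos (y j).2
    have hs' : s = sgn (excDeg [sd (x 0), sd (x 1), sd (x 2), sd (x 3)]) := by
      rw [← hR 0, sgn]
      have := hpos 0
      rcases hs with rfl | rfl
      · rw [if_pos (by omega)]
      · rw [if_neg (by omega)]
    have hdy : ∀ j, dg (y j) = (excDeg [sd (x 0), sd (x 1), sd (x 2), sd (x 3)]).natAbs := fun j => by
      rw [← hR j, Int.natAbs_mul]
      rcases hs with rfl | rfl <;> simp
    have hyd : ∀ j, y j ≠ triv G := fun j e => Finset.disjoint_left.1 hdisj htX (e ▸ hym j)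
    exact ⟨{
      x := x
      y := y
      x_inj := hxinj
      y_inj := fun i j h => by
        fin_cases i <;> fin_cases j <;> simp [y] at h ⊢
        · exact hne h
        · exact hne h.symm
      x_ne := fun i => (Finset.mem_erase.1 (hxm i)).1
      y_ne := hyd
      xy_ne := fun i j e => Finset.disjoint_left.1 hdisj (Finset.mem_erase.1 (hxm i)).2 (e ▸ hym j)
      sorted := ⟨hsort.1 x1 (Or.inl rfl), hsort.2.1 x2 (Or.inl rfl), hsort.2.2.1 x3 rfl⟩
      mem := fun i => (hxd (x i) (hxm i)).1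
      ne0 := fun e => by have := hdy 0; rw [e] at this; exact (hpos 0).ne' this
      deg_y := hdy
      dvd_y := hdy 0 ▸ h8640 _ ((hmem _).2 (Or.inr (hym 0)))
      cover := fun χ => by
        rw [hmem]
        constructor
        · rintro (h | h)
          · by_cases ht : χ = triv G
            · exact Or.inl ht
            · have h' : χ ∈ Finset.univ.image x := himg ▸ Finset.mem_erase.2 ⟨ht, h⟩
              obtain ⟨i, -, hi⟩ := Finset.mem_image.1 h'
              exact Or.inr (Or.inl ⟨i, hi⟩)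
          · rw [hYeq] at h
            simp only [Finset.mem_insert, Finset.mem_singleton] at h
            rcases h with rfl | rfl
            · exact Or.inr (Or.inr ⟨0, rfl⟩)
            · exact Or.inr (Or.inr ⟨1, rfl⟩)
        · rintro (rfl | ⟨i, rfl⟩ | ⟨j, rfl⟩)
          · exact Or.inl htX
          · exact Or.inl (Finset.mem_erase.1 (hxm i)).2
          · exact Or.inr (hym j)
      at_p := fun i z hz hz1 k hk hkp => by
        rw [← (hxd (x i) (hxm i)).2]
        exact (hX (x i) (Finset.mem_erase.1 (hxm i)).2).2.2 z hz hz1 k hk hkp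
      rel := fun j g hg => hs' ▸ hrel' j g hg }⟩

end Simple

end Cfsg.Agent.Fg24.M12
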