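import Cfsg.Agent.Fg24.M12.Eleven
import Cfsg.Agent.S0840

/-!
# The class multiplication at an element of order eleven
-/

set_option autoImplicit false

namespace Cfsg.Agent.Fg24.M12

open scoped ComplexConjugate
open Cfsg.Agent Cfsg.Agent.Blocks

universe u

variable {G : Type u} [Group G] [Fintype G] [IsSimpleGroup G]

/-- A self-centralizing Sylow 11-subgroup with its principal block. -/
structure Ctx (G : Type u) [Group G] [Fintype G] where
  order : Nat.card G = 95040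
  [fact : Fact (Nat.Prime 11)]
  P : Sylow 11 G
  hS : BlockThms.OrderP.Setup P 5
  hC : Nat.card (Subgroup.centralizer (P : Set G)) = 11
  M : Ideal Cfsg.AlgInt
  hM : Cfsg.IsPModular 11 M
  B : Blk P M
  z : G
  hz : z ∈ (P : Subgroup G)
  hzo : orderOf z = 11

theorem exists_ctx (hG : Nat.card G = 95040) : Nonempty (Ctx G) := by
  classical
  haveI : Fact (Nat.Prime 11) := ⟨by norm_num⟩
  obtain ⟨P⟩ : Nonempty (Sylow 11 G) := inferInstance
  obtain ⟨hS, hC, -⟩ := eleven hG P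
  obtain ⟨M, hM⟩ := Blocks.exists_isPModular 11 (Fact.out : Nat.Prime 11)
  obtain ⟨B⟩ := exists_blk hG hS hM
  obtain ⟨z, hz, -, hzo⟩ := hS.exists_gen
  exact ⟨@Ctx.mk G _ _ hG _ P hS hC M hM B z hz hzo⟩

namespace Ctx

variable (C : Ctx G)

omit [IsSimpleGroup G] in
theorem z_ne : C.z ≠ 1 := fun e => by
  have := C.hzo; rw [e, orderOf_one] at this; omega

omit [IsSimpleGroup G] in
theorem cent_z : Subgroup.centralizer ({C.z} : Set G) = (C.P : Subgroup G) := by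
  haveI := C.fact
  rw [C.hS.centralizer_eq C.hz C.z_ne]
  exact (Subgroup.eq_of_le_of_card_ge C.hS.le_centralizer (by rw [C.hC, C.hS.card])).symm

omit [IsSimpleGroup G] in
/-- The centralizer of `z` has no further elements. -/
theorem mem_P_of_commute {x : G} (h : Commute x C.z) : x ∈ (C.P : Subgroup G) :=
  C.cent_z ▸ Subgroup.mem_centralizer_singleton_iff.2 h.eq

omit [IsSimpleGroup G] in
theorem not_commute_of_regular {x : G} (hx : ¬ 11 ∣ orderOf x) (hx1 : x ≠ 1) :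
    ¬ Commute x C.z := fun h => by
  haveI := C.fact
  have h1 := Subgroup.orderOf_dvd_natCard _ (C.mem_P_of_commute h)
  rw [C.hS.card] at h1
  rcases (Nat.dvd_prime (Fact.out : Nat.Prime 11)).1 h1 with h2 | h2
  · exact hx1 (orderOf_eq_one_iff.1 h2)
  · exact hx (h2 ▸ dvd_rfl)

theorem outside {χ : Cfsg.IrrCharacter G} (hχ : χ ∉ C.B.members) :
    11 ∣ dg χ ∧ (χ : G → ℂ) C.z = 0 := by
  haveI := C.fact
  have hd : 11 ∣ dg χ := S4429.dvd_outside C.hS C.hC C.hM fun h => hχ ((C.B.mem_members χ).2 h)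
  refine ⟨hd, BlockThms.eq_zero_of_not_dvd_codegree C.hM χ ?_ ?_⟩
  · intro h
    have hdG : dg χ ∣ Nat.card G := C.order ▸ (deg_facts C.order χ).1
    have h2 : 11 ^ 2 ∣ Nat.card G := by
      rw [sq, ← Nat.mul_div_cancel' hdG]
      exact mul_dvd_mul hd h
    rw [C.order] at h2
    norm_num at h2
  · rw [Cfsg.IsPRegular, C.hzo]
    simp

theorem isPat' : IsPat' C.B.D = true := by
  classical
  simp only [IsPat', Bool.and_eq_true, decide_eq_true_eq]
  refine ⟨C.B.isPat C.order, ?_⟩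
  rw [← C.B.sum_sq_members, ← sum_sq C.order, ← Finset.sum_sdiff (Finset.subset_univ C.B.members),
    add_sub_cancel_right]
  refine Int.emod_eq_zero_of_dvd (Finset.dvd_sum fun χ hχ => ?_)
  obtain ⟨k, hk⟩ := (C.outside (Finset.mem_sdiff.1 hχ).2).1
  exact ⟨(k : ℤ) ^ 2, by rw [hk]; push_cast; ring⟩

omit [IsSimpleGroup G] in
theorem x_at_z (i : Fin 4) : (C.B.x i : G → ℂ) C.z = (sgn (sd (C.B.x i)) : ℂ) := by
  have h := C.B.at_p i C.z C.hz C.z_ne 1 (Subgroup.one_mem _) (by rw [orderOf_one]; norm_num)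
  rwa [mul_one] at h

theorem members_one_or_z {χ : Cfsg.IrrCharacter G} (f : Cfsg.IrrCharacter G → ℂ) (hχ : χ ∉ C.B.members) :
    f χ * conj ((χ : G → ℂ) C.z) = 0 := by
  rw [(C.outside hχ).2, map_zero, mul_zero]

theorem sgn_mul_natAbs (d : ℤ) : sgn d * (d.natAbs : ℤ) = d := by
  rw [sgn]; split_ifs <;> omega

theorem y_at_z : conj ((C.B.y 0 : G → ℂ) C.z) + conj ((C.B.y 1 : G → ℂ) C.z) =
    (sgn (excDeg C.B.D) : ℂ) := by
  classical
  have h := orth_ne (G := G) (g := 1) (h := C.z) fun hc => C.z_ne (isConj_one_right.1 hc)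
  rw [← Finset.sum_subset (Finset.subset_univ C.B.members)
    fun χ _ hχ => C.members_one_or_z (fun χ => (χ : G → ℂ) 1) hχ, C.B.sum_members] at h
  simp only [Fin.sum_univ_four, Fin.sum_univ_two, x_at_z, triv_apply, value_one, map_one,
    map_intCast, one_mul] at h
  have hd : ∀ j, (dg (C.B.y j) : ℤ) = (excDeg C.B.D).natAbs := fun j => by
    rw [C.B.deg_y]; rfl
  have hR : (1 : ℤ) + ((dg (C.B.x 0) : ℤ) * sgn (sd (C.B.x 0)) + dg (C.B.x 1) * sgn (sd (C.B.x 1)) +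
      dg (C.B.x 2) * sgn (sd (C.B.x 2)) + dg (C.B.x 3) * sgn (sd (C.B.x 3))) = -excDeg C.B.D := by
    simp only [mul_comm (dg _ : ℤ), ← sd_eq, excDeg, Blk.D, List.sum_cons, List.sum_nil]
    ring
  have hR' : ((1 : ℤ) : ℂ) + (((dg (C.B.x 0) : ℤ) : ℂ) * (sgn (sd (C.B.x 0)) : ℂ) +
      ((dg (C.B.x 1) : ℤ) : ℂ) * (sgn (sd (C.B.x 1)) : ℂ) +
      ((dg (C.B.x 2) : ℤ) : ℂ) * (sgn (sd (C.B.x 2)) : ℂ) +
      ((dg (C.B.x 3) : ℤ) : ℂ) * (sgn (sd (C.B.x 3)) : ℂ)) = ((-excDeg C.B.D : ℤ) : ℂ) := by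
    rw [← hR]; push_cast; ring
  push_cast at hR'
  have hn : ∀ j, (dg (C.B.y j) : ℂ) = ((excDeg C.B.D).natAbs : ℂ) := fun j => by exact_mod_cast hd j
  rw [hn, hn] at h
  have hs : (sgn (excDeg C.B.D) : ℂ) * ((excDeg C.B.D).natAbs : ℂ) = (excDeg C.B.D : ℂ) := by
    rw [← Int.cast_natCast (excDeg C.B.D).natAbs, ← Int.cast_mul, sgn_mul_natAbs]
  have hne : ((excDeg C.B.D).natAbs : ℂ) ≠ 0 := Nat.cast_ne_zero.2 (Int.natAbs_ne_zero.2 C.B.ne0)
  refine mul_left_cancel₀ hne ?_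
  linear_combination h - hR' - hs

/-- The pairs of conjugates of `g` and `h` with product `z`. -/
noncomputable def pairs (g h : G) : ℕ :=
  Nat.card {p : G × G // IsConj g p.1 ∧ IsConj h p.2 ∧ p.1 * p.2 = C.z}

omit [IsSimpleGroup G] in
theorem dvd_pairs {g h : G} (hg : ¬ 11 ∣ orderOf g) (hg1 : g ≠ 1) : 11 ∣ C.pairs g h := by
  classical
  haveI := C.fact
  have hzz : ∀ s : (C.P : Subgroup G), (s : G) * C.z * (s : G)⁻¹ = C.z := fun s => by
    rw [C.hS.comm s.2 C.hz, mul_inv_cancel_right]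
  letI : MulAction (C.P : Subgroup G) {p : G × G // IsConj g p.1 ∧ IsConj h p.2 ∧ p.1 * p.2 = C.z} :=
    { smul := fun s p => ⟨((s : G) * p.1.1 * (s : G)⁻¹, (s : G) * p.1.2 * (s : G)⁻¹),
        p.2.1.trans (isConj_iff.2 ⟨(s : G), rfl⟩), p.2.2.1.trans (isConj_iff.2 ⟨(s : G), rfl⟩),
        by rw [show (s : G) * p.1.1 * (s : G)⁻¹ * ((s : G) * p.1.2 * (s : G)⁻¹) =
            (s : G) * (p.1.1 * p.1.2) * (s : G)⁻¹ by group, p.2.2.2, hzz]⟩
      one_smul := fun p => Subtype.ext (by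
        show ((((1 : (C.P : Subgroup G)) : G)) * p.1.1 * _, _) = p.1; simp)
      mul_smul := fun s r p => Subtype.ext (Prod.ext
        (by show ((s * r : (C.P : Subgroup G)) : G) * p.1.1 * _ = (s : G) * ((r : G) * p.1.1 * (r : G)⁻¹) * _
            simp [mul_assoc])
        (by show ((s * r : (C.P : Subgroup G)) : G) * p.1.2 * _ = (s : G) * ((r : G) * p.1.2 * (r : G)⁻¹) * _
            simp [mul_assoc])) }
  have hP : IsPGroup 11 (C.P : Subgroup G) := C.P.isPGroup'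
  have hm := hP.card_modEq_card_fixedPoints
    {p : G × G // IsConj g p.1 ∧ IsConj h p.2 ∧ p.1 * p.2 = C.z}
  have h0 : Nat.card (MulAction.fixedPoints (C.P : Subgroup G)
      {p : G × G // IsConj g p.1 ∧ IsConj h p.2 ∧ p.1 * p.2 = C.z}) = 0 := by
    rw [Nat.card_eq_zero]
    refine Or.inl ⟨fun ⟨p, hp⟩ => ?_⟩
    have h1 : C.z * p.1.1 * C.z⁻¹ = p.1.1 :=
      congrArg Prod.fst (congrArg Subtype.val (hp ⟨C.z, C.hz⟩))
    obtain ⟨k, hk⟩ := isConj_iff.1 p.2.1
    refine C.not_commute_of_regular (x := p.1.1) ?_ ?_ (mul_inv_eq_iff_eq_mul.1 h1).symm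
    · rwa [← hk, Blocks.orderOf_conj']
    · intro e
      rw [e] at hk
      exact hg1 (conj_eq_one_iff.1 hk)
  rw [h0] at hm
  exact Nat.modEq_zero_iff_dvd.1 hm

omit [IsSimpleGroup G] in
theorem pairs_invol {g h : G} (hg : orderOf g = 2) (hh : orderOf h = 2) : C.pairs g h = 0 := by
  haveI := C.fact
  rw [pairs, Nat.card_eq_zero]
  refine Or.inl ⟨fun ⟨⟨x, y⟩, hx, hy, hxy⟩ => ?_⟩
  obtain ⟨a, ha⟩ := isConj_iff.1 hx
  obtain ⟨b, hb⟩ := isConj_iff.1 hy
  have hx2 : orderOf x = 2 := by rw [show x = a * g * a⁻¹ from ha.symm, Blocks.orderOf_conj', hg]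
  have hy2 : orderOf y = 2 := by rw [show y = b * h * b⁻¹ from hb.symm, Blocks.orderOf_conj', hh]
  have hxx : x * x = 1 := by rw [← pow_two, ← hx2, pow_orderOf_eq_one]
  have hyy : y * y = 1 := by rw [← pow_two, ← hy2, pow_orderOf_eq_one]
  change x * y = C.z at hxy
  have hinv : x⁻¹ * C.z * x = C.z⁻¹ := by
    rw [← hxy, mul_inv_rev, inv_eq_of_mul_eq_one_right hyy, inv_mul_cancel_left,
      inv_eq_of_mul_eq_one_right hxx]
  have hN := C.hS.mem_normalizer C.hz C.z_ne (c := x) (by rw [hinv]; exact inv_mem C.hz)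
  have hd := Subgroup.orderOf_dvd_natCard _ hN
  rw [C.hS.card_normalizer, C.hC, hx2] at hd
  norm_num at hd

/-- The class multiplication coefficient on the block. -/
theorem coeff (g h : G) : (C.pairs g h : ℂ) * 95040 =
    ((Subgroup.centralizer ({g} : Set G)).index : ℂ) * ((Subgroup.centralizer ({h} : Set G)).index : ℂ) *
      ∑ χ ∈ C.B.members, (χ : G → ℂ) g * (χ : G → ℂ) h * conj ((χ : G → ℂ) C.z) / (χ : G → ℂ) 1 := by
  classical
  rw [pairs, S0840.result g h C.z, finsum_eq_sum_of_fintype, Char.card_isConj_eq_index,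
    Char.card_isConj_eq_index, C.order,
    ← Finset.sum_subset (Finset.subset_univ C.B.members) fun χ _ hχ => by
      rw [(C.outside hχ).2, map_zero, mul_zero, zero_div]]
  push_cast
  ring

/-- The cleared block sum. -/
theorem block_sum {g h : G} {v w : Fin 4 → ℤ} (hg : ¬ 11 ∣ orderOf g) (hh : ¬ 11 ∣ orderOf h)
    (hv : ∀ i, (C.B.x i : G → ℂ) g = v i) (hw : ∀ i, (C.B.x i : G → ℂ) h = w i) :
    8640 * ∑ χ ∈ C.B.members, (χ : G → ℂ) g * (χ : G → ℂ) h * conj ((χ : G → ℂ) C.z) / (χ : G → ℂ) 1 =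
      (form C.B.D (four v) (four w) : ℂ) := by
  classical
  rw [C.B.sum_members]
  simp only [triv_apply, map_one, mul_one, one_mul, div_one, Fin.sum_univ_two, hv, hw,
    C.B.y_value _ hg hv, C.B.y_value _ hh hw, x_at_z, map_intCast, value_one]
  have hdiv : ∀ d : ℤ, d ∣ 8640 → d ≠ 0 → ((8640 / d : ℤ) : ℂ) = 8640 / (d : ℂ) := fun d hd h0 => by
    rw [Int.cast_div hd (by exact_mod_cast h0)]; norm_num
  have hx : ∀ i, sd (C.B.x i) ∣ 8640 ∧ sd (C.B.x i) ≠ 0 := fun i => by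
    have := C.B.mem i
    simp only [signedDeg, List.mem_cons, List.not_mem_nil, or_false] at this
    rcases this with h | h | h | h | h | h | h <;> rw [h] <;> norm_num
  have hR : excDeg C.B.D ∣ 8640 := Int.natAbs_dvd.1 (Int.natCast_dvd_natCast.2 C.B.dvd_y)
  have hterm : ∀ i, 8640 * ((v i : ℂ) * (w i : ℂ) * (sgn (sd (C.B.x i)) : ℂ) / (dg (C.B.x i) : ℂ)) =
      (v i : ℂ) * (w i : ℂ) * ((8640 / sd (C.B.x i) : ℤ) : ℂ) := fun i => by
    rw [hdiv _ (hx i).1 (hx i).2]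
    have h1 : ((sd (C.B.x i) : ℤ) : ℂ) = (sgn (sd (C.B.x i)) : ℂ) * (dg (C.B.x i) : ℂ) := by
      exact_mod_cast sd_eq (C.B.x i)
    have h2 : (sgn (sd (C.B.x i)) : ℂ) * (sgn (sd (C.B.x i)) : ℂ) = 1 := by
      exact_mod_cast sgn_mul_self (sd (C.B.x i))
    have hd0 : (dg (C.B.x i) : ℂ) ≠ 0 := Nat.cast_ne_zero.2 (charDegree_pos (C.B.x i).2).ne'
    have hs0 : (sgn (sd (C.B.x i)) : ℂ) ≠ 0 := left_ne_zero_of_mul_eq_one h2
    rw [h1]
    field_simp
    linear_combination ((v i : ℂ) * (w i : ℂ)) * h2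
  have hy : 8640 * ((excVal C.B.D (four v) : ℂ) * (excVal C.B.D (four w) : ℂ) *
      conj ((C.B.y 0 : G → ℂ) C.z) / (dg (C.B.y 0) : ℂ) + (excVal C.B.D (four v) : ℂ) *
      (excVal C.B.D (four w) : ℂ) * conj ((C.B.y 1 : G → ℂ) C.z) / (dg (C.B.y 1) : ℂ)) =
      ((sgnSum C.B.D (four v) * sgnSum C.B.D (four w) * (8640 / excDeg C.B.D) : ℤ) : ℂ) := by
    have hn : ∀ j, (dg (C.B.y j) : ℂ) = ((excDeg C.B.D).natAbs : ℂ) := fun j => by
      rw [C.B.deg_y]; rfl
    rw [hn, hn, ← add_div, ← mul_add, C.y_at_z, Int.cast_mul, hdiv _ hR C.B.ne0, excVal, excVal]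
    have h1 : (sgn (excDeg C.B.D) : ℂ) * ((excDeg C.B.D).natAbs : ℂ) = (excDeg C.B.D : ℂ) := by
      rw [← Int.cast_natCast (excDeg C.B.D).natAbs, ← Int.cast_mul, sgn_mul_natAbs]
    have h2 : (sgn (excDeg C.B.D) : ℂ) * (sgn (excDeg C.B.D) : ℂ) = 1 := by
      exact_mod_cast sgn_mul_self (excDeg C.B.D)
    have hne : ((excDeg C.B.D).natAbs : ℂ) ≠ 0 := Nat.cast_ne_zero.2 (Int.natAbs_ne_zero.2 C.B.ne0)
    have hne' : (excDeg C.B.D : ℂ) ≠ 0 := by exact_mod_cast C.B.ne0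
    have hs0 : (sgn (excDeg C.B.D) : ℂ) ≠ 0 := left_ne_zero_of_mul_eq_one h2
    push_cast
    rw [← h1]
    field_simp
    linear_combination ((sgn (excDeg C.B.D) : ℂ) ^ 2 + 1) * (sgnSum C.B.D (four v) : ℂ) *
      (sgnSum C.B.D (four w) : ℂ) * h2
  have hf : ((form C.B.D (four v) (four w) : ℤ) : ℂ) = 8640 +
      ((∑ i, (v i : ℂ) * (w i : ℂ) * ((8640 / sd (C.B.x i) : ℤ) : ℂ)) +
        ((sgnSum C.B.D (four v) * sgnSum C.B.D (four w) * (8640 / excDeg C.B.D) : ℤ) : ℂ)) := by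
    simp only [form, four, Blk.D, List.zipWith, List.sum_cons, List.sum_nil, Fin.sum_univ_four]
    push_cast
    ring
  rw [hf, ← hy, mul_add, mul_add, Finset.mul_sum, Finset.sum_congr rfl fun i _ => hterm i, mul_one]

/-- The coefficient equation in integers. -/
theorem form_eq {g h : G} {v w : Fin 4 → ℤ} (hg : ¬ 11 ∣ orderOf g) (hh : ¬ 11 ∣ orderOf h)
    (hv : ∀ i, (C.B.x i : G → ℂ) g = v i) (hw : ∀ i, (C.B.x i : G → ℂ) h = w i) :
    (C.pairs g h : ℤ) * (Nat.card (Subgroup.centralizer ({g} : Set G)) : ℤ) *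
      (Nat.card (Subgroup.centralizer ({h} : Set G)) : ℤ) = 11 * form C.B.D (four v) (four w) := by
  have h1 := C.coeff g h
  have h2 := C.block_sum hg hh hv hw
  have hgi : ((Nat.card (Subgroup.centralizer ({g} : Set G)) : ℂ) *
      ((Subgroup.centralizer ({g} : Set G)).index : ℂ)) = 95040 := by
    exact_mod_cast card_centralizer_mul_index C.order g
  have hhi : ((Nat.card (Subgroup.centralizer ({h} : Set G)) : ℂ) *
      ((Subgroup.centralizer ({h} : Set G)).index : ℂ)) = 95040 := by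
    exact_mod_cast card_centralizer_mul_index C.order h
  have h3 : ((C.pairs g h : ℤ) : ℂ) * ((Nat.card (Subgroup.centralizer ({g} : Set G)) : ℤ) : ℂ) *
      ((Nat.card (Subgroup.centralizer ({h} : Set G)) : ℤ) : ℂ) =
      ((11 * form C.B.D (four v) (four w) : ℤ) : ℂ) := by
    push_cast
    rw [← h2]
    refine mul_right_cancel₀ (b := (95040 : ℂ)) (by norm_num) ?_
    linear_combination ((Nat.card (Subgroup.centralizer ({g} : Set G)) : ℂ) *
      (Nat.card (Subgroup.centralizer ({h} : Set G)) : ℂ)) * h1 +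
      ((Nat.card (Subgroup.centralizer ({h} : Set G)) : ℂ) *
        ((Subgroup.centralizer ({h} : Set G)).index : ℂ) *
        ∑ χ ∈ C.B.members, (χ : G → ℂ) g * (χ : G → ℂ) h * conj ((χ : G → ℂ) C.z) / (χ : G → ℂ) 1) * hgi +
      (95040 * ∑ χ ∈ C.B.members, (χ : G → ℂ) g * (χ : G → ℂ) h * conj ((χ : G → ℂ) C.z) /
        (χ : G → ℂ) 1) * hhi
  exact_mod_cast h3

include C in
theorem dvd_regular_card {g : G} (hg : ¬ 11 ∣ orderOf g) (hg1 : g ≠ 1) :
    Nat.card (Subgroup.centralizer ({g} : Set G)) ∣ 8640 := by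
  haveI := C.fact
  have hd : Nat.card (Subgroup.centralizer ({g} : Set G)) ∣ 11 * 8640 :=
    ⟨_, (card_centralizer_mul_index C.order g).symm⟩
  refine ((((Fact.out : Nat.Prime 11).coprime_iff_not_dvd.2 fun h11 => ?_)).symm).dvd_of_dvd_mul_left hd
  obtain ⟨x, hx⟩ := exists_prime_orderOf_dvd_card' 11 h11
  have hxo : orderOf (x : G) = 11 := by rw [Subgroup.orderOf_coe]; exact hx
  have hxc : Commute (x : G) g := Subgroup.mem_centralizer_singleton_iff.1 x.2
  obtain ⟨Q, hQ⟩ := (IsPGroup.of_card (p := 11) (n := 1)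
    (by rw [Nat.card_zpowers, hxo, pow_one]) : IsPGroup 11 (Subgroup.zpowers (x : G))).exists_le_sylow
  obtain ⟨hSQ, hCQ, -⟩ := eleven C.order Q
  have hxQ : (x : G) ∈ (Q : Subgroup G) := hQ (Subgroup.mem_zpowers _)
  have hgC : g ∈ Subgroup.centralizer (Q : Set G) := by
    rw [← hSQ.centralizer_eq hxQ fun e => by rw [e, orderOf_one] at hxo; omega]
    exact Subgroup.mem_centralizer_singleton_iff.2 hxc.eq.symm
  have h1 := Subgroup.orderOf_dvd_natCard _ hgC
  rw [hCQ] at h1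
  rcases (Nat.dvd_prime (Fact.out : Nat.Prime 11)).1 h1 with h2 | h2
  · exact hg1 (orderOf_eq_one_iff.1 h2)
  · exact hg (h2 ▸ dvd_rfl)

theorem x_deg_ne_one (i : Fin 4) : dg (C.B.x i) ≠ 1 := fun e => C.B.x_ne i (dg_one C.order e)

/-- The column of an involution is one of the enumerated solutions. -/
theorem colW {w : G} (hw : orderOf w = 2) :
    ∃ v : Fin 4 → ℤ, (∀ i, (C.B.x i : G → ℂ) w = v i) ∧
      four v ∈ solsW (Nat.card (Subgroup.centralizer ({w} : Set G))) C.B.D := by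
  obtain ⟨c, hc⟩ : ∃ c, c = Nat.card (Subgroup.centralizer ({w} : Set G)) := ⟨_, rfl⟩
  have hreg : ¬ 11 ∣ orderOf w := by rw [hw]; norm_num
  choose v k hv hvk hk hlt hdvd using fun i => inv_value C.order (C.B.x i) (C.x_deg_ne_one i) hw
  refine ⟨v, hv, ?_⟩
  have hcol := C.B.colSq_le hreg hv
  obtain ⟨hy1, hy2, hy3⟩ := exc_inv C.order C.B hw hv
  have hf := C.form_eq hreg hreg hv hv
  rw [C.pairs_invol hw hw, Nat.cast_zero, zero_mul, zero_mul, eq_comm] at hf
  rw [← hc] at hcol hy2 hdvd ⊢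
  have hS2 : 0 ≤ sgnSum C.B.D (four v) * sgnSum C.B.D (four v) := mul_self_nonneg _
  have hsum : colSq C.B.D (four v) = 1 + ∑ i, v i * v i +
      2 * sgnSum C.B.D (four v) * sgnSum C.B.D (four v) := by
    simp only [colSq, four, List.map_cons, List.map_nil, List.sum_cons, List.sum_nil, Fin.sum_univ_four]
    ring
  have hin : ∀ i, v i ∈ candW c (sd (C.B.x i)) := fun i => by
    have hsq : v i * v i ≤ (c : ℤ) := by
      have h1 : v i * v i ≤ ∑ j, v j * v j :=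
        Finset.single_le_sum (f := fun j => v j * v j) (fun j _ => mul_self_nonneg _) (Finset.mem_univ i)
      linarith
    simp only [candW, List.mem_filter, List.mem_map, List.mem_range, Bool.and_eq_true,
      decide_eq_true_eq, sd_natAbs]
    have hl := hlt i
    have h2 := hvk i
    have h3 := hk i
    simp only [dg] at hl h2 ⊢
    refine ⟨⟨k i - 1, by omega, ?_⟩, hsq, hdvd i⟩
    push_cast [Nat.cast_sub (show 1 ≤ k i from h3)]
    omega
  refine List.mem_filter.2 ⟨mem_search (by simp [Blk.D, four, hin]) ?_, ?_⟩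
  · simp only [colSq] at hcol
    linarith
  · simp only [okW, Bool.and_eq_true, decide_eq_true_eq]
    exact ⟨⟨⟨⟨hcol, hy1⟩, hy2⟩, hy3⟩, by omega⟩

theorem any_sols {w : G} (hw : orderOf w = 2) {L : List ℕ}
    (hL : Nat.card (Subgroup.centralizer ({w} : Set G)) ∈ L) :
    L.any (fun k => !(solsW k C.B.D).isEmpty) = true := by
  obtain ⟨v, -, hmem⟩ := C.colW hw
  refine List.any_eq_true.2 ⟨_, hL, ?_⟩
  simp only [Bool.not_eq_true', List.isEmpty_eq_false_iff]
  exact List.ne_nil_of_mem hmem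

end Ctx

end Cfsg.Agent.Fg24.M12
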