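import Cfsg.Agent.Fg24.M12.Five
import Cfsg.Agent.Char.FS
import Cfsg.Agent.Blocks.PPart

/-!
# The degrees of a simple group of order 95040
-/

set_option autoImplicit false

namespace Cfsg.Agent.Fg24.M12

open scoped ComplexConjugate
open Cfsg.Agent Cfsg.Agent.Blocks

universe u

/-- The condition on the degrees divisible by five. -/
def Inner (a b c d e : ℕ) : Prop :=
    ∀ p : ℕ, p < 19 → ∀ q : ℕ, q < 5 → ∀ r : ℕ, r < 3 → ∀ s : ℕ, s < 2 →
    a + 16 * b + 36 * c + 81 * d + 256 * e + 25 * p + 100 * q + 225 * r + 400 * s = 450 →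
    a + 16 * b + 36 * c + d + 16 * e + 25 * p + 100 * q + 25 * r ≤ 130 →
    b ≤ 1 ∧ (a = 2 ∧ b = 0 ∧ a + 4 * b + 6 * c + 9 * d + 16 * e + 5 * p + 10 * q + 15 * r + 20 * s = 48 ∨
      a = 0 ∧ a + 4 * b + 6 * c + 9 * d + 16 * e + 5 * p + 10 * q + 15 * r + 20 * s ≤ 46)

set_option synthInstance.maxSize 4000 in
instance (a b c d e : ℕ) : Decidable (Inner a b c d e) := by unfold Inner; infer_instance

set_option maxHeartbeats 4000000 in
set_option synthInstance.maxSize 4000 in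
theorem counting : ∀ a : ℕ, a < 6 → ∀ b : ℕ, b < 6 → ∀ c : ℕ, c < 6 → ∀ d : ℕ, d < 6 → ∀ e : ℕ,
    e < 6 → a + b + c + d + e = 5 → a + 6 * c + 16 * e = 15 + 4 * b + 9 * d → Inner a b c d e := by
  decide +kernel

set_option synthInstance.maxSize 4000 in
theorem outside_degree : ∀ m : ℕ, m < 22 → m ∣ 8640 →
    ((m % 5 = 1 ∨ m % 5 = 4) → m ∈ [1, 4, 6, 9, 16]) ∧ (m % 5 = 0 → 0 < m → m ∈ [5, 10, 15, 20]) := by
  decide +kernel

/-- The degrees divided by eleven. -/
def quots : Finset ℕ := {1, 4, 6, 9, 16, 5, 10, 15, 20}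

theorem quot_total (c : ℕ → ℕ) (f : ℕ → ℕ) : ∑ m ∈ quots, c m * f m =
    c 1 * f 1 + c 4 * f 4 + c 6 * f 6 + c 9 * f 9 + c 16 * f 16 + c 5 * f 5 + c 10 * f 10 +
      c 15 * f 15 + c 20 * f 20 := by
  simp [quots, add_assoc]

/-- A lower bound for the square of the value at an involution centralizing an element of order
five. -/
def cost (m : ℕ) : ℕ :=
  if m = 1 ∨ m = 9 then 1 else if m = 4 ∨ m = 16 then 16 else if m = 6 then 36 else
    if m = 5 ∨ m = 15 then 25 else if m = 10 then 100 else 0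

theorem cost_le {m : ℕ} (v y : ℤ) {k : ℕ} (hm : m ∈ quots) (hk : v = 11 * (m : ℤ) - 4 * k)
    (hy0 : m % 5 = 0 → y = 0) (hy1 : m % 5 ≠ 0 → y = 1 ∨ y = -1) (hp : (v - y) % 5 = 0) :
    ((cost m : ℕ) : ℤ) ≤ v * v := by
  have hb : ∀ b : ℤ, 0 ≤ b → (b ≤ v ∨ v ≤ -b) → b * b ≤ v * v := fun b hb h => by
    rcases h with h | h <;> nlinarith
  simp only [quots, Finset.mem_insert, Finset.mem_singleton] at hm
  rcases hm with rfl | rfl | rfl | rfl | rfl | rfl | rfl | rfl | rfl
  · have := hy1 (by norm_num); exact le_trans (by norm_num [cost]) (hb 1 (by norm_num) (by omega))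
  · have := hy1 (by norm_num); exact le_trans (by norm_num [cost]) (hb 4 (by norm_num) (by omega))
  · have := hy1 (by norm_num); exact le_trans (by norm_num [cost]) (hb 6 (by norm_num) (by omega))
  · have := hy1 (by norm_num); exact le_trans (by norm_num [cost]) (hb 1 (by norm_num) (by omega))
  · have := hy1 (by norm_num); exact le_trans (by norm_num [cost]) (hb 4 (by norm_num) (by omega))
  · have := hy0 (by norm_num); exact le_trans (by norm_num [cost]) (hb 5 (by norm_num) (by omega))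
  · have := hy0 (by norm_num); exact le_trans (by norm_num [cost]) (hb 10 (by norm_num) (by omega))
  · have := hy0 (by norm_num); exact le_trans (by norm_num [cost]) (hb 5 (by norm_num) (by omega))
  · exact le_trans (by norm_num [cost]) (mul_self_nonneg v)

theorem le_two {z : ℤ} (h : z * z ≤ 8) : z ≤ 2 ∧ -2 ≤ z :=
  ⟨by nlinarith, by nlinarith⟩

theorem one_le_sq {z : ℤ} (h : z ≠ 0) : 1 ≤ z * z := by
  rcases lt_or_gt_of_ne h with h | h <;> nlinarith

theorem m_small {m : ℕ} (h : ((11 * m : ℕ) : ℤ) ^ 2 ≤ 54450) : m < 22 := by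
  by_contra hge
  push Not at hge
  have : (22 : ℤ) ≤ (m : ℤ) := by exact_mod_cast hge
  push_cast at h
  nlinarith

variable {G : Type u} [Group G] [Fintype G] [IsSimpleGroup G]

/-- The facts about one element of order five. -/
theorem five_column (C : Ctx G) {t : G} (ht : orderOf t = 5) :
    ∃ (w : G) (x y v : Cfsg.IrrCharacter G → ℤ), orderOf w = 2 ∧ Commute t w ∧
      Nat.card (Subgroup.centralizer ({t} : Set G)) = 10 ∧
      (∀ χ : Cfsg.IrrCharacter G, (χ : G → ℂ) t = x χ ∧ (χ : G → ℂ) (t * w) = y χ ∧ (χ : G → ℂ) w = v χ) ∧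
      (∀ χ : Cfsg.IrrCharacter G, (5 ∣ dg χ → x χ = 0 ∧ y χ = 0) ∧ ((dg χ : ℤ) - x χ) % 5 = 0 ∧ (v χ - y χ) % 5 = 0 ∧
        (x χ - y χ) % 2 = 0 ∧ 0 ≤ (dg χ : ℤ) + 4 * x χ) ∧
      ∑ χ, x χ * x χ = 10 ∧ ∑ χ, y χ * y χ = 10 ∧ ∑ χ, x χ * y χ = 0 ∧
      ∑ χ, x χ * (dg χ : ℤ) = 0 := by
  classical
  have hG := C.order
  haveI : Fact (Nat.Prime 5) := ⟨Nat.prime_five⟩
  haveI : Fact (Nat.Prime 2) := ⟨Nat.prime_two⟩
  obtain ⟨M, hM⟩ := Blocks.exists_isPModular 5 (Fact.out : Nat.Prime 5)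
  obtain ⟨M2, hM2⟩ := Blocks.exists_isPModular 2 (Fact.out : Nat.Prime 2)
  obtain ⟨Q, hQ⟩ := (IsPGroup.of_card (p := 5) (n := 1)
    (by rw [Nat.card_zpowers, ht, pow_one]) : IsPGroup 5 (Subgroup.zpowers t)).exists_le_sylow
  have htQ : t ∈ (Q : Subgroup G) := hQ (Subgroup.mem_zpowers t)
  have ht1 : t ≠ 1 := fun e => by rw [e, orderOf_one] at ht; omega
  obtain ⟨hS, hC, -⟩ := five C Q
  have hCt : Nat.card (Subgroup.centralizer ({t} : Set G)) = 10 := by
    rw [hS.centralizer_eq htQ ht1, hC]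
  obtain ⟨w', hw'⟩ := exists_prime_orderOf_dvd_card' (G := Subgroup.centralizer ({t} : Set G)) 2
    (by rw [hCt]; norm_num)
  obtain ⟨w, hwC⟩ := w'
  have hw : orderOf w = 2 := by rw [← hw', ← Subgroup.orderOf_coe]
  have htw : Commute t w := (Subgroup.mem_centralizer_singleton_iff.1 hwC).symm
  have hww : w * w = 1 := by rw [← pow_two, ← hw, pow_orderOf_eq_one]
  obtain ⟨u, hu⟩ : ∃ u, u = t * w := ⟨_, rfl⟩
  have huo : orderOf u = 10 := by
    rw [hu, htw.orderOf_mul_eq_mul_orderOf_of_coprime (by rw [ht, hw]; norm_num), ht, hw]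
  have hCu : Subgroup.centralizer ({t} : Set G) = Subgroup.zpowers u := by
    refine (Subgroup.eq_of_le_of_card_ge ?_ ?_).symm
    · rw [Subgroup.zpowers_le, Subgroup.mem_centralizer_singleton_iff, hu]
      exact (((Commute.refl t).mul_right htw).eq).symm
    · rw [hCt, Nat.card_zpowers, huo]
  have hwu : ∀ a : G, Commute a t → a * a = 1 → a ≠ 1 → a = w := by
    intro a ha h2 h1
    have hmem : ∀ b : G, Commute b t → ∃ i, i < 10 ∧ u ^ i = b := fun b hb => by
      have hb' : b ∈ Subgroup.zpowers u := hCu ▸ Subgroup.mem_centralizer_singleton_iff.2 hb.eq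
      rw [mem_zpowers_iff_mem_range_orderOf, huo] at hb'
      obtain ⟨i, hi, hib⟩ := Finset.mem_image.1 hb'
      exact ⟨i, Finset.mem_range.1 hi, hib⟩
    have key : ∀ b : G, Commute b t → b * b = 1 → b ≠ 1 → b = u ^ 5 := fun b hb hb2 hb1 => by
      obtain ⟨i, hi, rfl⟩ := hmem b hb
      rw [← pow_add] at hb2
      have := orderOf_dvd_of_pow_eq_one hb2
      rw [huo] at this
      have hi0 : i ≠ 0 := fun e => hb1 (by rw [e, pow_zero])
      rw [show i = 5 by omega]
    rw [key a ha h2 h1, key w htw.symm hww fun e => by rw [e, orderOf_one] at hw; omega]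
  -- conjugates of `u`
  have huc : ∀ i : ℕ, ¬ 5 ∣ i → ¬ 2 ∣ i → IsConj u (u ^ i) := by
    intro i h5 h2
    obtain ⟨k, hk⟩ := isConj_iff.1 (conj_powers hS htQ ht1 h5)
    have hkC : Commute (k * w * k⁻¹) t := by
      have hwi : Commute w (t ^ i) := htw.symm.pow_right i
      -- conjugation carries the centralizer of `t` to that of `t ^ i`
      have h1 : Commute (k * w * k⁻¹) (t ^ i) := by
        rw [← hk, Commute, SemiconjBy]
        calc k * w * k⁻¹ * (k * t * k⁻¹) = k * (w * t) * k⁻¹ := by group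
          _ = k * (t * w) * k⁻¹ := by rw [htw.eq]
          _ = k * t * k⁻¹ * (k * w * k⁻¹) := by group
      obtain ⟨m, hm⟩ := exists_pow_eq_self_of_coprime (x := t) (n := i) (by
        rw [ht, Nat.coprime_comm]; exact Nat.prime_five.coprime_iff_not_dvd.2 h5)
      exact hm ▸ h1.pow_right m
    have hkw : k * w * k⁻¹ = w := hwu _ hkC
      (by rw [show k * w * k⁻¹ * (k * w * k⁻¹) = k * (w * w) * k⁻¹ by group, hww]; group)
      (fun e => by rw [conj_eq_one_iff] at e; rw [e, orderOf_one] at hw; omega)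
    refine isConj_iff.2 ⟨k, ?_⟩
    rw [hu, show k * (t * w) * k⁻¹ = k * t * k⁻¹ * (k * w * k⁻¹) by group, hk, hkw, htw.mul_pow]
    congr 1
    obtain ⟨j, rfl⟩ := Nat.odd_iff.2 (Nat.two_dvd_ne_zero.1 h2)
    rw [pow_succ, pow_mul, pow_two, hww, one_pow, one_mul]
  have hval : ∀ χ : Cfsg.IrrCharacter G, ∃ x y v : ℤ,
      ((χ : G → ℂ) t = x ∧ (χ : G → ℂ) (t * w) = y ∧ (χ : G → ℂ) w = v) ∧
      (5 ∣ dg χ → x = 0 ∧ y = 0) ∧ ((dg χ : ℤ) - x) % 5 = 0 ∧ (v - y) % 5 = 0 ∧
      (x - y) % 2 = 0 ∧ 0 ≤ (dg χ : ℤ) + 4 * x := by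
    intro χ
    obtain ⟨x, hx, hxm, hxl⟩ := value_four hS χ htQ ht1
    obtain ⟨v, hv⟩ : ∃ v : ℤ, (χ : G → ℂ) w = v := by
      obtain ⟨v, hv, -⟩ := S4429.inv_value (not_comm hG) χ hw
      exact ⟨v, hv⟩
    obtain ⟨m, hm⟩ := sum_sub (Char.IsIrr.isCharacter χ.2) (Subgroup.zpowers u)
    rw [Nat.card_zpowers, huo,
      ← Equiv.sum_comp (finEquivZPowers (isOfFinOrder_of_finite u)) (fun a => (χ : G → ℂ) a),
      ← Equiv.sum_comp (finCongr huo).symm] at hm
    simp only [finEquivZPowers_apply, finCongr_symm, finCongr_apply, Fin.val_cast,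
      Fin.sum_univ_succ, Fin.sum_univ_zero, Fin.val_zero, Fin.val_succ, zero_add, add_zero,
      Nat.reduceAdd] at hm
    have hx5 : u ^ 5 = w := by
      rw [hu, htw.mul_pow, show t ^ 5 = 1 by rw [← ht]; exact pow_orderOf_eq_one t, one_mul,
        show w ^ 5 = w by rw [show (5:ℕ) = 2 * 2 + 1 from rfl, pow_succ, pow_mul, show w ^ 2 = 1 by rw [pow_two, hww], one_pow, one_mul]]
    have hev : ∀ j : ℕ, u ^ (2 * j) = t ^ (2 * j) := fun j => by
      rw [hu, htw.mul_pow, pow_mul w, pow_two, hww, one_pow, mul_one]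
    have hte : ∀ i : ℕ, ¬ 5 ∣ i → (χ : G → ℂ) (t ^ i) = x := fun i hi =>
      (cf_eq χ (conj_powers hS htQ ht1 hi)).symm.trans hx
    have hue : ∀ i : ℕ, ¬ 5 ∣ i → ¬ 2 ∣ i → (χ : G → ℂ) (u ^ i) = (χ : G → ℂ) u := fun i h5 h2 =>
      (cf_eq χ (huc i h5 h2)).symm
    rw [pow_zero, show (χ : G → ℂ) (u ^ 2) = x by rw [hev 1, hte _ (by norm_num)],
      show (χ : G → ℂ) (u ^ 4) = x by rw [hev 2, hte _ (by norm_num)],
      show (χ : G → ℂ) (u ^ 6) = x by rw [hev 3, hte _ (by norm_num)],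
      show (χ : G → ℂ) (u ^ 8) = x by rw [hev 4, hte _ (by norm_num)],
      hue 3 (by norm_num) (by norm_num), hue 7 (by norm_num) (by norm_num),
      hue 9 (by norm_num) (by norm_num), hx5, hv, pow_one, value_one] at hm
    obtain ⟨y, hy, hy4⟩ := half_int (Char.IsChar.isIntegral (Char.IsIrr.isCharacter χ.2) u)
      (a := 10 * (m : ℤ) - dg χ - v - 4 * x) 4 (by norm_num) (by push_cast at hm ⊢; linear_combination hm)
    have hxy : (x - y) % 2 = 0 := by
      have h5 := memLocalIdeal_char_sub_pPrimePart hM2 (Char.IsIrr.isCharacter χ.2) u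
      have h6 : pPrimePartOf 2 u = t := by
        rw [hu, htw.eq]
        exact (parts_mul Nat.prime_two htw.symm ⟨1, by rw [hw, pow_one]⟩ (by rw [ht]; norm_num)).2
      rw [h6, hx, hy] at h5
      have h7 : (2 : ℤ) ∣ (x - y) := by
        rw [show (2 : ℤ) = ((2 : ℕ) : ℤ) from rfl, ← Blocks.memLocalIdeal_intCast_iff hM2]
        push_cast
        exact h5
      omega
    refine ⟨x, y, v, ⟨hx, hu ▸ hy, hv⟩, fun h5 => ?_, hxm, by push_cast at hy4; omega, hxy, hxl⟩
    refine ⟨?_, ?_⟩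
    · have := eq_zero_five hG hM χ h5 (g := t) (by rw [ht])
      rw [hx] at this; exact_mod_cast this
    · have := eq_zero_five hG hM χ h5 (g := u) (by rw [huo]; norm_num)
      rw [hy] at this; exact_mod_cast this
  choose x y v hxyv hprop using hval
  refine ⟨w, x, y, v, hw, htw, hCt, hxyv, hprop, ?_, ?_, ?_, ?_⟩
  · have h := orth_self t
    simp only [fun χ => (hxyv χ).1, map_intCast, hCt] at h
    exact_mod_cast h
  · have h := orth_self (t * w)
    have hc : Subgroup.centralizer ({t * w} : Set G) = Subgroup.centralizer ({t} : Set G) := by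
      refine le_antisymm (fun a ha => ?_) ?_
      · have ha' : Commute a (t * w) := Subgroup.mem_centralizer_singleton_iff.1 ha
        refine Subgroup.mem_centralizer_singleton_iff.2 ?_
        have h6 : (t * w) ^ 6 = t := by
          rw [htw.mul_pow, show w ^ 6 = 1 by rw [show 6 = 2 * 3 from rfl, pow_mul, pow_two, hww, one_pow],
            mul_one, show t ^ 6 = t ^ 5 * t from pow_succ t 5,
            show t ^ 5 = 1 by rw [← ht]; exact pow_orderOf_eq_one t, one_mul]
        have := ha'.pow_right 6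
        rw [h6] at this
        exact this.eq
      · rw [hCu, Subgroup.zpowers_le, Subgroup.mem_centralizer_singleton_iff, hu]
    simp only [fun χ => (hxyv χ).2.1, map_intCast, hc, hCt] at h
    exact_mod_cast h
  · have h := orth_ne (g := t) (h := t * w) fun hc => by
      obtain ⟨k, hk⟩ := isConj_iff.1 hc
      have := congrArg orderOf hk
      rw [Blocks.orderOf_conj', ht, ← hu, huo] at this
      omega
    simp only [fun χ => (hxyv χ).1, fun χ => (hxyv χ).2.1, map_intCast] at h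
    exact_mod_cast h
  · have h := orth_ne (g := t) (h := (1 : G)) fun hc => ht1 (isConj_one_left.1 hc)
    simp only [fun χ => (hxyv χ).1, value_one, map_natCast] at h
    exact_mod_cast h

theorem sd_data (C : Ctx G) (hD : C.B.D = patM12) :
    (dg (C.B.x 0) = 120 ∧ dg (C.B.x 1) = 54 ∧ dg (C.B.x 2) = 45 ∧ dg (C.B.x 3) = 144) ∧
      ∀ j, dg (C.B.y j) = 16 := by
  simp only [Blk.D, patM12, List.cons.injEq, and_true] at hD
  obtain ⟨h0, h1, h2, h3⟩ := hD
  refine ⟨⟨?_, ?_, ?_, ?_⟩, fun j => ?_⟩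
  · rw [C.B.dg_x, h0]; rfl
  · rw [C.B.dg_x, h1]; rfl
  · rw [C.B.dg_x, h2]; rfl
  · rw [C.B.dg_x, h3]; rfl
  · rw [C.B.deg_y]
    simp only [h0, h1, h2, h3]
    rfl

/-- The conjugate of an element of order eleven is not conjugate to its inverse. -/
theorem not_real_z (C : Ctx G) : ¬ IsConj C.z C.z⁻¹ := by
  intro hc
  haveI := C.fact
  obtain ⟨k, hk⟩ := isConj_iff.1 hc
  have hN : k⁻¹ ∈ Subgroup.normalizer (C.P : Set G) :=
    C.hS.mem_normalizer C.hz C.z_ne (by rw [inv_inv, hk]; exact inv_mem C.hz)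
  obtain ⟨hcard⟩ : Nonempty (Nat.card (Subgroup.normalizer (C.P : Set G)) = 55) :=
    ⟨by rw [C.hS.card_normalizer, C.hC]⟩
  have hk2 : Commute (k ^ 2) C.z := by
    refine mul_inv_eq_iff_eq_mul.1 ?_
    rw [pow_two, show k * k * C.z * (k * k)⁻¹ = k * (k * C.z * k⁻¹) * k⁻¹ by group, hk,
      show k * C.z⁻¹ * k⁻¹ = (k * C.z * k⁻¹)⁻¹ by group, hk, inv_inv]
  have hod : orderOf k ∣ 55 := by
    rw [← hcard, ← orderOf_inv]
    exact Subgroup.orderOf_dvd_natCard _ hN
  obtain ⟨i, hi⟩ := exists_pow_eq_self_of_coprime (x := k) (n := 2)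
    (Nat.Coprime.coprime_dvd_right hod (by norm_num))
  have hk1 : Commute k C.z := hi ▸ hk2.pow_left i
  rw [hk1.eq, mul_inv_cancel_right] at hk
  have : C.z ^ 2 = 1 := by rw [pow_two]; nth_rw 2 [hk]; exact mul_inv_cancel _
  have := orderOf_dvd_of_pow_eq_one this
  rw [C.hzo] at this
  omega

/-- The exceptional characters are not real. -/
theorem y_not_real (C : Ctx G) (j : Fin 2) : Char.conjIrr (C.B.y j) ≠ C.B.y j := by
  classical
  intro he
  have hr := (Char.conjIrr_eq_iff _).1 he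
  have hreal : ∀ χ ∈ C.B.members, ((χ : G → ℂ) C.z).im = 0 := by
    intro χ hχ
    rcases (C.B.cover χ).1 ((C.B.mem_members χ).1 hχ) with rfl | ⟨i, rfl⟩ | ⟨k, rfl⟩
    · simp [triv_apply]
    · rw [C.x_at_z]; simp
    · have hs := congrArg Complex.im C.y_at_z
      simp only [Complex.add_im, Complex.conj_im, Complex.intCast_im] at hs
      have := hr C.z
      fin_cases j <;> fin_cases k <;> simp at this ⊢ <;> linarith
  have h1 := orth_ne (not_real_z C)
  have h2 := orth_self C.z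
  have h3 : ∑ χ : Cfsg.IrrCharacter G, (χ : G → ℂ) C.z * conj ((χ : G → ℂ) C.z⁻¹) =
      ∑ χ : Cfsg.IrrCharacter G, (χ : G → ℂ) C.z * conj ((χ : G → ℂ) C.z) := by
    refine Finset.sum_congr rfl fun χ _ => ?_
    congr 2
    rw [Char.IsChar.inv_eq_conj (Char.IsIrr.isCharacter χ.2)]
    by_cases hm : χ ∈ C.B.members
    · exact Complex.conj_eq_iff_im.2 (hreal χ hm)
    · rw [(C.outside hm).2, map_zero]
  rw [h3, h2] at h1
  have : Nat.card (Subgroup.centralizer ({C.z} : Set G)) = 0 := by exact_mod_cast h1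
  exact Nat.card_pos.ne' this

/-- The bound from the count of the solutions of `s² = 1`. -/
theorem sqrt_one_le : ((Nat.card {s : G // s * s = 1} : ℕ) : ℤ) ≤
    ∑ χ : Cfsg.IrrCharacter G, if Char.conjIrr χ = χ then (dg χ : ℤ) else 0 := by
  classical
  have h := Char.card_sqrt_eq_sum (1 : G)
  have h1 : ((Nat.card {s : G // s * s = 1} : ℕ) : ℝ) ≤
      ∑ χ : Cfsg.IrrCharacter G, ((if Char.conjIrr χ = χ then (dg χ : ℤ) else 0 : ℤ) : ℝ) := by
    have h2 := congrArg Complex.re h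
    simp only [Complex.natCast_re, Complex.re_sum] at h2
    rw [h2]
    refine Finset.sum_le_sum fun χ _ => ?_
    rw [value_one]
    rcases Char.fsInd_irr χ with ⟨h0, hne⟩ | ⟨h0 | h0, heq⟩
    · rw [h0, if_neg hne]; simp
    · rw [h0, if_pos heq]; simp
    · rw [h0, if_pos heq]; simp
  exact_mod_cast h1

/-- Involutions with two orders of centralizers. -/
theorem many_sqrt (C : Ctx G) {w0 w : G} (hw0 : orderOf w0 = 2) (hw : orderOf w = 2)
    (h0 : Nat.card (Subgroup.centralizer ({w0} : Set G)) = 192)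
    (h : Nat.card (Subgroup.centralizer ({w} : Set G)) = 120 ∨
      Nat.card (Subgroup.centralizer ({w} : Set G)) = 240) :
    892 ≤ Nat.card {s : G // s * s = 1} := by
  classical
  have hsq : ∀ a : G, orderOf a = 2 → a * a = 1 := fun a ha => by
    rw [← pow_two, ← ha, pow_orderOf_eq_one]
  let S : Finset G := insert 1 ((Finset.univ.filter (IsConj w0)) ∪ (Finset.univ.filter (IsConj w)))
  have hsub : S ⊆ Finset.univ.filter fun s : G => s * s = 1 := by
    intro a ha
    simp only [S, Finset.mem_insert, Finset.mem_union, Finset.mem_filter, Finset.mem_univ,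
      true_and] at ha
    simp only [Finset.mem_filter, Finset.mem_univ, true_and]
    rcases ha with rfl | ha | ha
    · exact one_mul 1
    all_goals
      obtain ⟨k, rfl⟩ := isConj_iff.1 ha
      apply hsq
      rw [Blocks.orderOf_conj']; assumption
  have hcl : ∀ g : G, (Finset.univ.filter (IsConj g)).card =
      95040 / Nat.card (Subgroup.centralizer ({g} : Set G)) := fun g => by
    rw [← Fintype.card_subtype, ← Nat.card_eq_fintype_card, Char.card_isConj_eq_index,
      index_eq C.order]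
  have hdisj : Disjoint (Finset.univ.filter (IsConj w0)) (Finset.univ.filter (IsConj w)) := by
    rw [Finset.disjoint_filter]
    intro a _ ha hb
    have hc := ha.trans hb.symm
    have e1 := hcl w0
    have e2 := hcl w
    have : (Finset.univ.filter (IsConj w0)) = Finset.univ.filter (IsConj w) :=
      Finset.filter_congr fun b _ => ⟨fun h => hc.symm.trans h, fun h => hc.trans h⟩
    rw [this, h0] at e1
    rcases h with h | h <;> rw [h] at e2 <;> omega
  have h1 : (1 : G) ∉ (Finset.univ.filter (IsConj w0)) ∪ (Finset.univ.filter (IsConj w)) := by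
    simp only [Finset.mem_union, Finset.mem_filter, Finset.mem_univ, true_and, isConj_one_left]
    rintro (e | e)
    · rw [e, orderOf_one] at hw0; omega
    · rw [e, orderOf_one] at hw; omega
  have hle := Finset.card_le_card hsub
  rw [Finset.card_insert_of_notMem h1, Finset.card_union_of_disjoint hdisj, hcl, hcl, h0] at hle
  rw [Nat.card_eq_fintype_card, Fintype.card_subtype]
  rcases h with h | h <;> rw [h] at hle <;> omega

set_option maxHeartbeats 4000000 in
/-- The values at an element of order five and the two characters of degree eleven, with two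
further degrees. -/
theorem degrees_ext (C : Ctx G) {t : G} (ht : orderOf t = 5) :
    ∃ a b : Cfsg.IrrCharacter G, a ≠ b ∧ dg a = 11 ∧ dg b = 11 ∧
      (∀ χ : Cfsg.IrrCharacter G, dg χ = 11 → χ = a ∨ χ = b) ∧ Char.conjIrr a = a ∧ Char.conjIrr b = b ∧
      (∀ χ : Cfsg.IrrCharacter G, dg χ ≤ 65 → dg χ ∈ [1, 11, 16, 45, 54, 55]) ∧
      (a : G → ℂ) t = 1 ∧ (b : G → ℂ) t = 1 ∧
      (∃ χ : Cfsg.IrrCharacter G, dg χ = 55) ∧ ∃ χ : Cfsg.IrrCharacter G, dg χ = 66 := by
  classical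
  have hG := C.order
  haveI : Fact (Nat.Prime 5) := ⟨Nat.prime_five⟩
  obtain ⟨w, x, y, v, hw, htw, hCt, hval, hprop, hxx, hyy, hxy, hxd⟩ := five_column C ht
  have hD : C.B.D = patM12 := pattern C ht hw htw
  obtain ⟨⟨d0, d1, d2, d3⟩, dy⟩ := sd_data C hD
  have hreg : ∀ g : G, orderOf g = 2 ∨ orderOf g = 5 ∨ orderOf g = 10 → ¬ 11 ∣ orderOf g := by
    rintro g (h | h | h) <;> rw [h] <;> norm_num
  have hu10 : orderOf (t * w) = 10 := by
    rw [htw.orderOf_mul_eq_mul_orderOf_of_coprime (by rw [ht, hw]; norm_num), ht, hw]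
  -- the exceptional values
  have hexc : ∀ (g : G), ¬ 11 ∣ orderOf g → ∀ f : Cfsg.IrrCharacter G → ℤ, (∀ χ : Cfsg.IrrCharacter G, (χ : G → ℂ) g = f χ) →
      ∀ j, f (C.B.y j) = 1 - f (C.B.x 0) - f (C.B.x 1) + f (C.B.x 2) + f (C.B.x 3) := by
    intro g hg f hf j
    have h := C.B.y_value j hg (v := fun i => f (C.B.x i)) fun i => hf _
    rw [hf] at h
    have h' : f (C.B.y j) = excVal C.B.D (four fun i => f (C.B.x i)) := by exact_mod_cast h
    rw [h', hD]
    simp only [excVal, sgnSum, excDeg, patM12, four, sgn, List.zipWith, List.sum_cons, List.sum_nil]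
    norm_num
    ring
  -- the column of the involution
  have hvc : ∃ c, c = Nat.card (Subgroup.centralizer ({w} : Set G)) := ⟨_, rfl⟩
  obtain ⟨c, hc⟩ := hvc
  obtain ⟨vv, hvv, hmemW⟩ := C.colW hw
  have hvx : ∀ i, vv i = v (C.B.x i) := fun i => by exact_mod_cast (hvv i).symm.trans (hval _).2.2
  have hc5 : c ∈ cents5 := by
    refine hc ▸ cents5_spec (C.dvd_regular_card (hreg w (Or.inl hw)) fun e => ?_) ?_
    · rw [e, orderOf_one] at hw; omega
    · have h2 := Subgroup.orderOf_dvd_natCard (Subgroup.centralizer ({w} : Set G))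
        (Subgroup.mem_centralizer_singleton_iff.2 rfl : w ∈ _)
      have h5 := Subgroup.orderOf_dvd_natCard (Subgroup.centralizer ({w} : Set G))
        (Subgroup.mem_centralizer_singleton_iff.2 htw.eq : t ∈ _)
      rw [hw] at h2; rw [ht] at h5
      omega
  rw [← hc, hD] at hmemW
  have hWcase := m12_five c hc5 _ hmemW
  -- the column of the element of order five
  obtain ⟨M5, hM5⟩ := Blocks.exists_isPModular 5 (Fact.out : Nat.Prime 5)
  obtain ⟨Q, hQ⟩ := (IsPGroup.of_card (p := 5) (n := 1)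
    (by rw [Nat.card_zpowers, ht, pow_one]) : IsPGroup 5 (Subgroup.zpowers t)).exists_le_sylow
  obtain ⟨xv, hxv, hmemT⟩ := colT C hM5 (five C Q).1 (hQ (Subgroup.mem_zpowers t))
    fun e => by rw [e, orderOf_one] at ht; omega
  rw [hCt, hD, m12_t.2, List.mem_singleton] at hmemT
  have hxx' : ∀ i, xv i = x (C.B.x i) := fun i => by exact_mod_cast (hxv i).symm.trans (hval _).1
  simp only [four, List.cons.injEq, and_true] at hmemT
  obtain ⟨x0, x1, x2, x3⟩ := hmemT
  rw [hxx'] at x0 x1 x2 x3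
  have xy : ∀ j, x (C.B.y j) = 1 := fun j => by
    rw [hexc t (hreg t (Or.inr (Or.inl ht))) x (fun χ => (hval χ).1) j, x0, x1, x2, x3]; norm_num
  have yy : ∀ j, y (C.B.y j) = 1 - y (C.B.x 1) + y (C.B.x 3) := fun j => by
    rw [hexc (t * w) (hreg _ (Or.inr (Or.inr hu10))) y (fun χ => (hval χ).2.1) j,
      ((hprop _).1 (by rw [d0]; norm_num)).2, ((hprop (C.B.x 2)).1 (by rw [d2]; norm_num)).2]
    ring
  have vy : ∀ j, v (C.B.y j) = 1 - v (C.B.x 0) - v (C.B.x 1) + v (C.B.x 2) + v (C.B.x 3) :=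
    hexc w (hreg w (Or.inl hw)) v fun χ => (hval χ).2.2
  -- the sums over the block
  have htrivv : x (triv G) = 1 ∧ y (triv G) = 1 ∧ v (triv G) = 1 := by
    obtain ⟨h1, h2, h3⟩ := hval (triv G)
    simp only [triv_apply] at h1 h2 h3
    exact ⟨by exact_mod_cast h1.symm, by exact_mod_cast h2.symm, by exact_mod_cast h3.symm⟩
  let O := Finset.univ \ C.B.members
  have hsplit : ∀ f : Cfsg.IrrCharacter G → ℤ, ∑ χ, f χ =
      f (triv G) + (f (C.B.x 0) + f (C.B.x 1) + f (C.B.x 2) + f (C.B.x 3) + (f (C.B.y 0) + f (C.B.y 1))) +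
        ∑ χ ∈ O, f χ := by
    intro f
    rw [← Finset.sum_sdiff (Finset.subset_univ C.B.members), C.B.sum_members, Fin.sum_univ_four,
      Fin.sum_univ_two, add_comm]
  have hsq := sum_sq hG
  simp only [hsplit, dg_triv, d0, d1, d2, d3, dy] at hsq
  rw [hsplit] at hxx hyy hxy hxd
  simp only [htrivv, x0, x1, x2, x3, xy, yy, dg_triv, d0, d1, d2, d3, dy,
    ((hprop (C.B.x 0)).1 (by rw [d0]; norm_num)).2,
    ((hprop (C.B.x 2)).1 (by rw [d2]; norm_num)).2] at hxx hyy hxy hxd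
  have hO : ∀ χ ∈ O, ∃ m, dg χ = 11 * m := fun χ hχ => (C.outside (Finset.mem_sdiff.1 hχ).2).1
  have h1odd : (y (C.B.x 1) % 2 = 1) ∧ (y (C.B.x 3) % 2 = 1) := by
    have e1 := (hprop (C.B.x 1)).2.2.2.1
    have e3 := (hprop (C.B.x 3)).2.2.2.1
    rw [x1] at e1; rw [x3] at e3
    omega
  have hyO : 0 ≤ ∑ χ ∈ O, y χ * y χ := Finset.sum_nonneg fun χ _ => mul_self_nonneg _
  have small : ∀ z : ℤ, z % 2 = 1 → z * z ≤ 8 → z = 1 ∨ z = -1 := fun z h2 hle => by
    obtain ⟨h1, h3⟩ := le_two hle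
    omega
  have hy1 : y (C.B.x 1) = 1 := by
    have h31 : 1 ≤ y (C.B.x 3) * y (C.B.x 3) := by
      exact one_le_sq (by omega)
    have hsm : y (C.B.x 1) * y (C.B.x 1) ≤ 8 := by
      linarith [hyy, mul_self_nonneg (1 - y (C.B.x 1) + y (C.B.x 3))]
    have hv1 : v (C.B.x 1) = 6 ∨ v (C.B.x 1) = 18 := by
      rw [← hvx]
      rcases hWcase with ⟨-, h | h⟩ | ⟨-, h⟩ <;> simp only [four, List.cons.injEq, and_true] at h <;>
        omega
    have := (hprop (C.B.x 1)).2.2.1
    rcases small _ h1odd.1 hsm with h | h <;> omega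
  have hy3 : y (C.B.x 3) = 1 ∨ y (C.B.x 3) = -1 := by
    refine small _ h1odd.2 ?_
    linarith [hyy, mul_self_nonneg (1 - y (C.B.x 1) + y (C.B.x 3)), show y (C.B.x 1) * y (C.B.x 1) = 1 by rw [hy1]; norm_num]
  simp only [hy1] at hyy hxy
  -- the involution
  obtain ⟨hc240, hv⟩ : (c = 120 ∨ c = 240) ∧ v (C.B.x 0) = 0 ∧ v (C.B.x 1) = 6 ∧ v (C.B.x 2) = 5 ∧
      (v (C.B.x 3) = 4 ∨ v (C.B.x 3) = -4) := by
    rcases hWcase with ⟨hc', h | h⟩ | ⟨-, h⟩ <;>
      simp only [four, List.cons.injEq, and_true, hvx] at h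
    · exact ⟨hc', by omega⟩
    · exact ⟨hc', by omega⟩
    · exfalso
      have e1 := (hprop (C.B.x 1)).2.2.1
      omega
  obtain ⟨v0, v1, v2, v3⟩ := hv
  have vy' : ∀ j, v (C.B.y j) = v (C.B.x 3) := fun j => by rw [vy, v0, v1, v2]; ring
  -- the rest: the characters prime to five
  let R := O.filter fun χ => ¬ 5 ∣ dg χ
  have hRsum : ∀ f : Cfsg.IrrCharacter G → ℤ, (∀ χ, 5 ∣ dg χ → f χ = 0) →
      ∑ χ ∈ O, f χ = ∑ χ ∈ R, f χ := fun f hf => by
    refine (Finset.sum_filter_of_ne fun χ _ h => ?_).symm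
    exact fun h5 => h (hf χ h5)
  have hxR : ∑ χ ∈ R, x χ * x χ = 5 := by
    rw [← hRsum (fun χ => x χ * x χ) fun χ h => by rw [((hprop χ).1 h).1, mul_zero]]
    linarith
  have hyR : ∑ χ ∈ R, y χ * y χ = 10 - 3 - 2 * (y (C.B.x 3) * y (C.B.x 3)) - (y (C.B.x 3) * y (C.B.x 3)) + 1 := by
    rw [← hRsum (fun χ => y χ * y χ) fun χ h => by rw [((hprop χ).1 h).2, mul_zero]]
    rcases hy3 with h | h <;> rw [h] at hyy ⊢ <;> linarith
  have hxyR : ∑ χ ∈ R, x χ * y χ = 1 ∨ ∑ χ ∈ R, x χ * y χ = -1 := by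
    rw [← hRsum (fun χ => x χ * y χ) fun χ h => by rw [((hprop χ).1 h).1, zero_mul]]
    rcases hy3 with h | h <;> rw [h] at hxy <;> first | (left; linarith) | (right; linarith)
  have hyR5 : ∑ χ ∈ R, y χ * y χ = 5 := by rcases hy3 with h | h <;> rw [h] at hyR <;> linarith
  have hxne : ∀ χ ∈ R, 1 ≤ x χ * x χ := fun χ hχ => by
    have h5 := (Finset.mem_filter.1 hχ).2
    have := (hprop χ).2.1
    have hx0 : x χ ≠ 0 := fun e => by rw [e] at this; omega
    exact one_le_sq hx0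
  have hxone : ∀ χ ∈ R, x χ = 1 ∨ x χ = -1 := by
    intro χ hχ
    have hle : x χ * x χ ≤ 5 := hxR ▸ Finset.single_le_sum (f := fun ψ => x ψ * x ψ)
      (fun ψ _ => mul_self_nonneg _) hχ
    by_contra hcon
    push Not at hcon
    obtain ⟨hb1, hb2⟩ := le_two (hle.trans (by norm_num))
    have h5 := (Finset.mem_filter.1 hχ).2
    have hmod := (hprop χ).2.1
    have hx2 : x χ = 2 ∨ x χ = -2 := by omega
    have hrest := hxR
    rw [← Finset.add_sum_erase _ _ hχ, show x χ * x χ = 4 by rcases hx2 with h | h <;> rw [h] <;> norm_num]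
      at hrest
    have hcard : (R.erase χ).card = 1 := by
      have h1 : ((R.erase χ).card : ℤ) ≤ ∑ ψ ∈ R.erase χ, x ψ * x ψ := by
        rw [Finset.cast_card]
        exact Finset.sum_le_sum fun ψ hψ => hxne ψ (Finset.mem_of_mem_erase hψ)
      have h2 : (R.erase χ).Nonempty := by
        by_contra he
        rw [Finset.not_nonempty_iff_eq_empty] at he
        rw [he, Finset.sum_empty] at hrest
        omega
      have := h2.card_pos
      omega
    obtain ⟨ψ, hψ⟩ := Finset.card_eq_one.1 hcard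
    rw [hψ, Finset.sum_singleton] at hrest
    have hψm : ψ ∈ R := Finset.mem_of_mem_erase (hψ.symm ▸ Finset.mem_singleton_self ψ)
    rw [← Finset.add_sum_erase _ _ hχ, hψ, Finset.sum_singleton] at hyR5 hxyR
    have e1 := (hprop χ).2.2.2.1
    have e2 := (hprop ψ).2.2.2.1
    have hxψ : x ψ = 1 ∨ x ψ = -1 := by
      have : x ψ * x ψ = 1 := by linarith
      exact mul_self_eq_one_iff.1 this
    have hyψ : y ψ = 1 ∨ y ψ = -1 := small _ (by omega) (by linarith [mul_self_nonneg (y χ)])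
    have hyχ : y χ * y χ = 4 := by rcases hyψ with h | h <;> rw [h] at hyR5 <;> linarith
    have hyχ2 : y χ = 2 ∨ y χ = -2 := by
      obtain ⟨h1, h2⟩ := le_two (hyχ.le.trans (by norm_num))
      have h3 : y χ ≠ 1 := fun e => by rw [e] at hyχ; norm_num at hyχ
      have h4 : y χ ≠ -1 := fun e => by rw [e] at hyχ; norm_num at hyχ
      have h5 : y χ ≠ 0 := fun e => by rw [e] at hyχ; norm_num at hyχ
      omega
    rcases hx2 with h | h <;> rcases hyχ2 with h' | h' <;> rcases hxψ with h'' | h'' <;>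
      rcases hyψ with h3 | h3 <;> rw [h, h', h'', h3] at hxyR <;> omega
  have hyone : ∀ χ ∈ R, y χ = 1 ∨ y χ = -1 := fun χ hχ => by
    refine small _ ?_ (le_trans (Finset.single_le_sum (f := fun ψ => y ψ * y ψ) (fun ψ _ => mul_self_nonneg _) hχ) (by omega))
    have := (hprop χ).2.2.2.1
    rcases hxone χ hχ with h | h <;> omega
  have hRcard : R.card = 5 := by
    have h1 : ∑ χ ∈ R, x χ * x χ = (R.card : ℤ) := by
      rw [Finset.cast_card]
      exact Finset.sum_congr rfl fun χ hχ => by rcases hxone χ hχ with h | h <;> rw [h] <;> norm_num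
    omega
  -- degrees outside the block
  have hsqO : ∑ χ ∈ O, (dg χ : ℤ) ^ 2 = 54450 := by norm_num at hsq; linarith
  have hq : ∀ χ ∈ O, dg χ / 11 ∈ quots ∧ ((χ ∈ R) ↔ dg χ / 11 ∈ ({1, 4, 6, 9, 16} : Finset ℕ)) ∧
      11 * (dg χ / 11) = dg χ := by
    intro χ hχ
    obtain ⟨m, hm⟩ := hO χ hχ
    have hle := Finset.single_le_sum (f := fun ψ : Cfsg.IrrCharacter G => (dg ψ : ℤ) ^ 2)
      (fun ψ _ => sq_nonneg _) hχ
    rw [hsqO, hm] at hle
    have hmb : m < 22 := m_small hle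
    have hm0 : 0 < m := by have := (deg_facts hG χ).2.2; omega
    have hd8640 : m ∣ 8640 := by
      have h := (deg_facts hG χ).1
      rw [hm] at h
      exact Nat.dvd_of_mul_dvd_mul_left (by norm_num) (h.trans (by norm_num : 95040 ∣ 11 * 8640))
    rw [hm, Nat.mul_div_cancel_left _ (by norm_num : 0 < 11)]
    obtain ⟨o1, o2⟩ := outside_degree m hmb hd8640
    by_cases h5 : 5 ∣ dg χ
    · have hnR : χ ∉ R := fun h => (Finset.mem_filter.1 h).2 h5
      have := o2 (by omega) hm0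
      simp only [List.mem_cons, List.not_mem_nil, or_false] at this
      refine ⟨by simp [quots]; omega, iff_of_false hnR ?_, rfl⟩
      simp; omega
    · have hR : χ ∈ R := Finset.mem_filter.2 ⟨hχ, h5⟩
      have hmod := (hprop χ).2.1
      have := o1 (by rcases hxone χ hR with h | h <;> rw [h, hm] at hmod <;> omega)
      simp only [List.mem_cons, List.not_mem_nil, or_false] at this
      refine ⟨by simp [quots]; omega, iff_of_true hR ?_, rfl⟩
      simp; omega
  obtain ⟨n, hn⟩ : ∃ n : ℕ → ℕ, ∀ m, n m = (O.filter fun χ => dg χ / 11 = m).card :=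
    ⟨_, fun m => rfl⟩
  have hfib : ∀ f : ℕ → ℕ, ∑ χ ∈ O, f (dg χ / 11) = ∑ m ∈ quots, n m * f m := by
    intro f
    rw [← Finset.sum_fiberwise_of_maps_to (fun χ hχ => (hq χ hχ).1)]
    refine Finset.sum_congr rfl fun m _ => ?_
    rw [Finset.sum_congr rfl (g := fun _ => f m) fun χ hχ => by rw [(Finset.mem_filter.1 hχ).2],
      Finset.sum_const, smul_eq_mul, hn]
  have E1 : n 1 + n 4 + n 6 + n 9 + n 16 = 5 := by
    have h := hfib fun m => if m ∈ ({1, 4, 6, 9, 16} : Finset ℕ) then 1 else 0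
    rw [quot_total, Finset.sum_congr rfl (g := fun χ => if χ ∈ R then 1 else 0) fun χ hχ =>
      if_congr (hq χ hχ).2.1.symm rfl rfl, Finset.sum_ite_mem, Finset.inter_eq_right.2
      (Finset.filter_subset _ _), Finset.sum_const, smul_eq_mul, mul_one, hRcard] at h
    simp at h
    omega
  have hxdO : ∑ χ ∈ O, x χ * (dg χ : ℤ) = 165 := by norm_num at hxd; linarith
  have E2 : n 1 + 6 * n 6 + 16 * n 16 = 15 + 4 * n 4 + 9 * n 9 := by
    have hterm : ∀ χ ∈ O, x χ * (dg χ : ℤ) =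
        11 * (((if dg χ / 11 ∈ ({1, 6, 16} : Finset ℕ) then dg χ / 11 else 0 : ℕ) : ℤ) -
          ((if dg χ / 11 ∈ ({4, 9} : Finset ℕ) then dg χ / 11 else 0 : ℕ) : ℤ)) := by
      intro χ hχ
      obtain ⟨h1, h2, h3⟩ := hq χ hχ
      obtain ⟨m, hm⟩ : ∃ m, m = dg χ / 11 := ⟨_, rfl⟩
      rw [← hm] at h1 h2 h3 ⊢
      rw [← h3]
      simp only [quots, Finset.mem_insert, Finset.mem_singleton] at h1
      have hmod := (hprop χ).2.1
      rw [← h3] at hmod
      rcases h1 with rfl | rfl | rfl | rfl | rfl | rfl | rfl | rfl | rfl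
      all_goals first
        | (have h5 : 5 ∣ dg χ := by omega
           rw [((hprop χ).1 h5).1]; simp; done)
        | (have hR := h2.2 (by decide)
           rcases hxone χ hR with h | h <;> rw [h] at hmod ⊢ <;> push_cast at hmod ⊢ <;> simp <;> omega)
    rw [Finset.sum_congr rfl hterm, ← Finset.mul_sum, Finset.sum_sub_distrib, ← Nat.cast_sum,
      ← Nat.cast_sum, hfib (fun m => if m ∈ ({1, 6, 16} : Finset ℕ) then m else 0),
      hfib (fun m => if m ∈ ({4, 9} : Finset ℕ) then m else 0), quot_total, quot_total] at hxdO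
    simp at hxdO
    omega
  have E3 : n 1 + 16 * n 4 + 36 * n 6 + 81 * n 9 + 256 * n 16 + 25 * n 5 + 100 * n 10 +
      225 * n 15 + 400 * n 20 = 450 := by
    have h : ∑ χ ∈ O, (dg χ / 11) * (dg χ / 11) = 450 := by
      have h2 : ((121 * ∑ χ ∈ O, (dg χ / 11) * (dg χ / 11) : ℕ) : ℤ) = ((54450 : ℕ) : ℤ) := by
        rw [Nat.cast_mul, Nat.cast_sum, Finset.mul_sum]
        push_cast
        rw [← hsqO]
        refine Finset.sum_congr rfl fun χ hχ => ?_
        obtain ⟨m, hm⟩ := hO χ hχ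
        rw [hm]
        push_cast
        rw [Int.mul_ediv_cancel_left _ (by norm_num : (11 : ℤ) ≠ 0)]
        ring
      have := Int.natCast_inj.1 h2
      omega
    rw [hfib (fun m => m * m), quot_total] at h
    omega
  have E4 : n 1 + 16 * n 4 + 36 * n 6 + n 9 + 16 * n 16 + 25 * n 5 + 100 * n 10 + 25 * n 15 ≤ 130 := by
    have hcost : ∀ χ ∈ O, ((cost (dg χ / 11) : ℕ) : ℤ) ≤ v χ * v χ := by
      intro χ hχ
      obtain ⟨h1, h2, h3⟩ := hq χ hχ
      obtain ⟨m, hm⟩ : ∃ m, m = dg χ / 11 := ⟨_, rfl⟩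
      rw [← hm] at h1 h2 h3 ⊢
      have hne1 : dg χ ≠ 1 := by omega
      obtain ⟨u, k, hu, huk, -, -, -⟩ := inv_value hG χ hne1 hw
      have huv : u = v χ := by exact_mod_cast hu.symm.trans (hval χ).2.2
      rw [huv, ← h3] at huk
      push_cast at huk
      refine cost_le (v χ) (y χ) h1 huk (fun h5 => ((hprop χ).1 (by omega)).2) (fun h5 => ?_)
        (hprop χ).2.2.1
      exact hyone χ (Finset.mem_filter.2 ⟨hχ, by omega⟩)
    have hcol : (∑ χ, v χ * v χ) ≤ 240 := by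
      have h := orth_self w
      simp only [fun χ => (hval χ).2.2, map_intCast, ← hc] at h
      have h' : ∑ χ, v χ * v χ = (c : ℤ) := by exact_mod_cast h
      omega
    simp only [hsplit, htrivv, v0, v1, v2, vy'] at hcol
    have hv3 : v (C.B.x 3) * v (C.B.x 3) = 16 := by rcases v3 with h | h <;> rw [h] <;> norm_num
    rw [hv3] at hcol
    have h := Finset.sum_le_sum hcost
    rw [← Nat.cast_sum, hfib cost, quot_total] at h
    simp [cost] at h
    omega
  obtain ⟨hb1, hopt⟩ := counting (n 1) (by omega) (n 4) (by omega) (n 6) (by omega) (n 9) (by omega)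
    (n 16) (by omega) E1 E2 (n 5) (by omega) (n 10) (by omega) (n 15) (by omega) (n 20) (by omega)
    E3 E4
  -- the real characters
  have hfs := sqrt_one_le (G := G)
  obtain ⟨w0, hw0, hc0⟩ := exists_central_inv C
  obtain ⟨v0', -, hmem0⟩ := C.colW hw0
  have hmany := many_sqrt C hw0 hw (m12_central _ hc0 _ (hD ▸ hmem0)) (hc ▸ hc240)
  have hO' : (∑ χ ∈ O, if Char.conjIrr χ = χ then (dg χ : ℤ) else 0) ≥ 528 := by
    have hy : ∀ j, Char.conjIrr (C.B.y j) ≠ C.B.y j := y_not_real C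
    simp only [hsplit, dg_triv, d0, d1, d2, d3, dy, hy, if_false] at hfs
    have hbnd : ∀ (p : Prop) [Decidable p] (k : ℤ), 0 ≤ k → (if p then k else 0) ≤ k := fun p _ k hk => by
      split_ifs
      · exact le_rfl
      · exact hk
    have hm : (892 : ℤ) ≤ (Nat.card {s : G // s * s = 1} : ℤ) := by exact_mod_cast hmany
    have b0 := hbnd (Char.conjIrr (triv G : Cfsg.IrrCharacter G) = triv G) 1 (by norm_num)
    have b1 := hbnd (Char.conjIrr (C.B.x 0) = C.B.x 0) 120 (by norm_num)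
    have b2 := hbnd (Char.conjIrr (C.B.x 1) = C.B.x 1) 54 (by norm_num)
    have b3 := hbnd (Char.conjIrr (C.B.x 2) = C.B.x 2) 45 (by norm_num)
    have b4 := hbnd (Char.conjIrr (C.B.x 3) = C.B.x 3) 144 (by norm_num)
    rw [Nat.card_eq_fintype_card] at hm
    norm_num at hfs b0 b1 b2 b3 b4 ⊢
    linarith
  have htot : ∑ χ ∈ O, (dg χ : ℤ) = 11 * ((n 1 + 4 * n 4 + 6 * n 6 + 9 * n 9 + 16 * n 16 + 5 * n 5 +
      10 * n 10 + 15 * n 15 + 20 * n 20 : ℕ) : ℤ) := by
    have h := hfib fun m => m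
    rw [quot_total] at h
    rw [show (n 1 + 4 * n 4 + 6 * n 6 + 9 * n 9 + 16 * n 16 + 5 * n 5 + 10 * n 10 + 15 * n 15 +
      20 * n 20 : ℕ) = ∑ χ ∈ O, dg χ / 11 by omega, Nat.cast_sum, Finset.mul_sum]
    refine Finset.sum_congr rfl fun χ hχ => ?_
    exact_mod_cast (hq χ hχ).2.2.symm
  have hle : ∀ χ ∈ O, (if Char.conjIrr χ = χ then (dg χ : ℤ) else 0) ≤ (dg χ : ℤ) := fun χ _ => by
    split_ifs
    · exact le_rfl
    · exact Int.natCast_nonneg _
  rcases hopt with ⟨hn1, hn4, hsum⟩ | ⟨hn1, hsum⟩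
  swap
  · exfalso
    have := Finset.sum_le_sum hle
    rw [htot] at this
    omega
  have hall : ∀ χ ∈ O, Char.conjIrr χ = χ := by
    intro χ hχ
    by_contra hne
    have hlt : (∑ ψ ∈ O, if Char.conjIrr ψ = ψ then (dg ψ : ℤ) else 0) < ∑ ψ ∈ O, (dg ψ : ℤ) :=
      Finset.sum_lt_sum hle ⟨χ, hχ, by rw [if_neg hne]; exact_mod_cast (deg_facts hG χ).2.2⟩
    rw [htot] at hlt
    omega
  obtain ⟨a, b, hab, hF⟩ := Finset.card_eq_two.1 (show (O.filter fun χ => dg χ / 11 = 1).card = 2 by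
    rw [← hn, hn1])
  have ha : a ∈ O ∧ dg a / 11 = 1 :=
    Finset.mem_filter.1 (show a ∈ O.filter fun χ => dg χ / 11 = 1 by rw [hF]; simp)
  have hb : b ∈ O ∧ dg b / 11 = 1 :=
    Finset.mem_filter.1 (show b ∈ O.filter fun χ => dg χ / 11 = 1 by rw [hF]; simp)
  have hda : dg a = 11 := by have := (hq a ha.1).2.2; omega
  have hdb : dg b = 11 := by have := (hq b hb.1).2.2; omega
  have hmemb : ∀ χ, χ ∈ C.B.members → dg χ = 1 ∨ dg χ = 120 ∨ dg χ = 54 ∨ dg χ = 45 ∨ dg χ = 144 ∨ dg χ = 16 := by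
    intro χ hχ
    rcases (C.B.cover χ).1 ((C.B.mem_members χ).1 hχ) with rfl | ⟨i, rfl⟩ | ⟨j, rfl⟩
    · exact Or.inl dg_triv
    · fin_cases i
      · exact Or.inr (Or.inl d0)
      · exact Or.inr (Or.inr (Or.inl d1))
      · exact Or.inr (Or.inr (Or.inr (Or.inl d2)))
      · exact Or.inr (Or.inr (Or.inr (Or.inr (Or.inl d3))))
    · exact Or.inr (Or.inr (Or.inr (Or.inr (Or.inr (dy j)))))
  have hone : ∀ χ ∈ O, dg χ = 11 → (χ : G → ℂ) t = 1 := by
    intro χ hχ hd
    have hR : χ ∈ R := Finset.mem_filter.2 ⟨hχ, by rw [hd]; norm_num⟩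
    have hm := (hprop χ).2.1
    rw [hd] at hm
    rw [(hval χ).1]
    rcases hxone χ hR with h | h
    · rw [h, Int.cast_one]
    · rw [h] at hm; norm_num at hm
  have hex : ∀ m, 0 < n m → ∃ χ : Cfsg.IrrCharacter G, dg χ = 11 * m := fun m hm => by
    rw [hn] at hm
    obtain ⟨χ, hχ⟩ := Finset.card_pos.1 hm
    obtain ⟨hχO, hχm⟩ := Finset.mem_filter.1 hχ
    exact ⟨χ, by rw [← hχm, (hq χ hχO).2.2]⟩
  have h56 : 0 < n 5 ∧ 0 < n 6 := by omega
  refine ⟨a, b, hab, hda, hdb, fun χ hd => ?_, hall a ha.1, hall b hb.1, fun χ hd => ?_,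
    hone a ha.1 hda, hone b hb.1 hdb, hex 5 h56.1, hex 6 h56.2⟩
  · have hχ : χ ∈ O := Finset.mem_sdiff.2 ⟨Finset.mem_univ _, fun h => by
      have := hmemb χ h; rw [hd] at this; omega⟩
    have : χ ∈ O.filter fun χ => dg χ / 11 = 1 := Finset.mem_filter.2 ⟨hχ, by rw [hd]⟩
    rw [hF] at this
    simpa using this
  · by_cases hm : χ ∈ C.B.members
    · have := hmemb χ hm
      simp only [List.mem_cons, List.not_mem_nil, or_false]
      omega
    · have hχ : χ ∈ O := Finset.mem_sdiff.2 ⟨Finset.mem_univ _, hm⟩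
      obtain ⟨h1, -, h3⟩ := hq χ hχ
      have h44 : dg χ / 11 ≠ 4 := fun h4 => by
        have h0 : 0 < n 4 := by
          rw [hn]; exact Finset.card_pos.2 ⟨χ, Finset.mem_filter.2 ⟨hχ, h4⟩⟩
        omega
      simp only [quots, Finset.mem_insert, Finset.mem_singleton] at h1
      simp only [List.mem_cons, List.not_mem_nil, or_false]
      omega

/-- The values at an element of order five and the two characters of degree eleven. -/
theorem degrees (C : Ctx G) {t : G} (ht : orderOf t = 5) :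
    ∃ a b : Cfsg.IrrCharacter G, a ≠ b ∧ dg a = 11 ∧ dg b = 11 ∧
      (∀ χ : Cfsg.IrrCharacter G, dg χ = 11 → χ = a ∨ χ = b) ∧ Char.conjIrr a = a ∧ Char.conjIrr b = b ∧
      (∀ χ : Cfsg.IrrCharacter G, dg χ ≤ 65 → dg χ ∈ [1, 11, 16, 45, 54, 55]) ∧
      (a : G → ℂ) t = 1 ∧ (b : G → ℂ) t = 1 := by
  obtain ⟨a, b, h1, h2, h3, h4, h5, h6, h7, h8, h9, -⟩ := degrees_ext C ht
  exact ⟨a, b, h1, h2, h3, h4, h5, h6, h7, h8, h9⟩

end Cfsg.Agent.Fg24.M12
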