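import Cfsg.Agent.Fg24.M12.Block
import Cfsg.Agent.S1022

/-!
# The normalizer of a Sylow 11-subgroup
-/

set_option autoImplicit false

namespace Cfsg.Agent.Fg24.M12

open scoped ComplexConjugate
open Cfsg.Agent Cfsg.Agent.Blocks

universe u

theorem count_eleven : ∀ n ∈ Nat.divisors 8640, n % 11 = 1 →
    n = 1 ∨ n = 12 ∨ n = 45 ∨ n = 144 ∨ n = 320 ∨ n = 540 ∨ n = 1728 := by
  decide +kernel

set_option synthInstance.maxSize 4000 in
theorem pair_two : ∀ d : ℕ, d < 309 → d ∣ 8640 → (d % 11 = 1 ∨ d % 11 = 10) → d ≠ 1 →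
    ((d % 11 = 1 → d + 1 ∣ 8640 → False) ∧ (d % 11 = 10 → d - 1 ∣ 8640 → d < 11)) := by
  decide +kernel

set_option synthInstance.maxSize 4000 in
theorem odd_forty_five : ∀ d : ℕ, d < 309 → d ∣ 8640 → (d % 11 = 1 ∨ d % 11 = 10) → d ≠ 1 →
    d % 2 = 1 → d = 45 := by
  decide +kernel

section Group

variable {G : Type u} [Group G]

theorem subsingleton_fixed {K : Type*} [Group K] [Finite K] (hK : Nat.card K = 6)
    {t : K → K} (ho : ∀ a, orderOf (t a) = orderOf a) (ht : ∀ a, t^[5] a = a) :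
    ∃ w : K, orderOf w = 2 ∧ t w = w := by
  classical
  haveI := Fintype.ofFinite K
  obtain ⟨w, hw⟩ := exists_prime_orderOf_dvd_card' (G := K) 2 (hp := ⟨Nat.prime_two⟩) (by rw [hK]; norm_num)
  obtain ⟨c, hc⟩ := exists_prime_orderOf_dvd_card' (G := K) 3 (hp := ⟨Nat.prime_three⟩) (by rw [hK]; norm_num)
  let S : Finset K := Finset.univ.filter fun a => orderOf a = 2
  have hS : S.card ≤ 3 := by
    have hsub : S ⊆ Finset.univ \ {1, c, c ^ 2} := by
      intro a ha
      simp only [S, Finset.mem_filter, Finset.mem_univ, true_and] at ha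
      simp only [Finset.mem_sdiff, Finset.mem_univ, true_and, Finset.mem_insert,
        Finset.mem_singleton, not_or]
      refine ⟨?_, ?_, ?_⟩ <;> rintro rfl
      · rw [orderOf_one] at ha; omega
      · omega
      · rw [orderOf_pow, hc] at ha; norm_num at ha
    refine (Finset.card_le_card hsub).trans (le_of_eq ?_)
    rw [Finset.card_sdiff, Finset.inter_univ, Finset.card_univ, ← Nat.card_eq_fintype_card, hK]
    have h1 : c ≠ 1 := fun e => by rw [e, orderOf_one] at hc; omega
    have h2 : c ^ 2 ≠ 1 := fun e => by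
      have := orderOf_dvd_of_pow_eq_one e; rw [hc] at this; omega
    have h3 : c ≠ c ^ 2 := fun e => h1 (by
      rw [pow_two] at e; exact mul_eq_left.1 e.symm)
    rw [Finset.card_insert_of_notMem (by simp [Ne.symm h1, Ne.symm h2]),
      Finset.card_insert_of_notMem (by simpa using h3), Finset.card_singleton]
  by_contra hcon
  push Not at hcon
  have hmap : ∀ i : Fin 5, t^[(i : ℕ)] w ∈ S := fun i => by
    simp only [S, Finset.mem_filter, Finset.mem_univ, true_and]
    obtain ⟨j, hj⟩ := i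
    show orderOf (t^[j] w) = 2
    clear hj
    induction j with
    | zero => exact hw
    | succ j ih => rw [Function.iterate_succ_apply', ho, ih]
  obtain ⟨i, -, j, -, hij, heq⟩ := Finset.exists_ne_map_eq_of_card_lt_of_maps_to
    (s := (Finset.univ : Finset (Fin 5))) (t := S) (f := fun i => t^[(i : ℕ)] w)
    (by rw [Finset.card_univ, Fintype.card_fin]; omega) (fun i _ => hmap i)
  have hper : Function.IsPeriodicPt t 5 w := ht w
  have h5 : Function.minimalPeriod t w = 5 :=
    ((Nat.dvd_prime Nat.prime_five).1 hper.minimalPeriod_dvd).resolve_left fun h =>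
      hcon w hw (Function.minimalPeriod_eq_one_iff_isFixedPt.1 h)
  exact hij (Fin.ext ((Function.iterate_eq_iterate_iff_of_lt_minimalPeriod
    (by rw [h5]; exact i.2) (by rw [h5]; exact j.2)).1 heq))

/-- An element of order five normalizing a group of order six or twelve centralizes an involution
of it. -/
theorem exists_commuting_inv [Finite G] {K : Subgroup G} (hK : Nat.card K = 6 ∨ Nat.card K = 12)
    {t : G} (ht : orderOf t = 5) (hn : ∀ c ∈ K, t * c * t⁻¹ ∈ K) :
    ∃ w ∈ K, orderOf w = 2 ∧ Commute t w := by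
  classical
  haveI : Fact (Nat.Prime 5) := ⟨Nat.prime_five⟩
  let f : K → K := fun a => ⟨t * a * t⁻¹, hn a a.2⟩
  have hit : ∀ (j : ℕ) (a : K), ((f^[j] a : K) : G) = t ^ j * a * (t ^ j)⁻¹ := by
    intro j a
    induction j with
    | zero => simp
    | succ j ih =>
      rw [Function.iterate_succ_apply']
      show t * _ * t⁻¹ = _
      rw [ih, pow_succ', mul_inv_rev]
      group
  have h5 : ∀ a, f^[5] a = a := fun a => Subtype.ext (by
    rw [hit, show t ^ 5 = 1 by rw [← ht]; exact pow_orderOf_eq_one t]; simp)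
  have ho : ∀ a, orderOf (f a) = orderOf a := fun a => by
    rw [← Subgroup.orderOf_coe, ← Subgroup.orderOf_coe a]
    exact Blocks.orderOf_conj' (a : G) t
  rcases hK with hK | hK
  · obtain ⟨w, hw, hfix⟩ := subsingleton_fixed hK ho h5
    refine ⟨w, w.2, by rw [Subgroup.orderOf_coe]; exact hw, ?_⟩
    exact mul_inv_eq_iff_eq_mul.1 (congrArg Subtype.val hfix)
  · -- the centralizer of `t` in `K` has even order
    let Z : Subgroup K :=
      { carrier := {a | f a = a}
        one_mem' := Subtype.ext (by simp [f])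
        mul_mem' := fun {a b} ha hb => Subtype.ext (by
          have ha' : t * (a : G) * t⁻¹ = a := congrArg Subtype.val ha
          have hb' : t * (b : G) * t⁻¹ = b := congrArg Subtype.val hb
          show t * ((a : G) * b) * t⁻¹ = (a : G) * b
          calc t * ((a : G) * b) * t⁻¹ = (t * a * t⁻¹) * (t * b * t⁻¹) := by group
            _ = _ := by rw [ha', hb'])
        inv_mem' := fun {a} ha => Subtype.ext (by
          have ha' : t * (a : G) * t⁻¹ = a := congrArg Subtype.val ha
          show t * (a : G)⁻¹ * t⁻¹ = (a : G)⁻¹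
          conv_rhs => rw [← ha']
          group) }
    have hmod : Nat.card Z % 5 = 2 := by
      let T := Subgroup.zpowers t
      have hnT : T ≤ Subgroup.normalizer (K : Set G) := by
        refine Subgroup.zpowers_le.2 (Subgroup.mem_normalizer_iff.2 fun c => ⟨hn c, fun h => ?_⟩)
        have h4 : ∀ (j : ℕ) (a : G), a ∈ K → t ^ j * a * (t ^ j)⁻¹ ∈ K := fun j a ha => by
          rw [← hit j ⟨a, ha⟩]; exact (f^[j] ⟨a, ha⟩).2
        have h := h4 4 _ h
        rwa [show t ^ 4 * (t * c * t⁻¹) * (t ^ 4)⁻¹ = t ^ 5 * c * (t ^ 5)⁻¹ by group,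
          show t ^ 5 = 1 by rw [← ht]; exact pow_orderOf_eq_one t, one_mul, inv_one, mul_one] at h
      letI : MulAction T K :=
        { smul := fun s a => ⟨(s : G) * a * (s : G)⁻¹,
            (Subgroup.mem_normalizer_iff.1 (hnT s.2) a).1 a.2⟩
          one_smul := fun a => Subtype.ext (by
            show ((1 : T) : G) * (a : G) * ((1 : T) : G)⁻¹ = a; simp)
          mul_smul := fun s r a => Subtype.ext (by
            show ((s * r : T) : G) * (a : G) * ((s * r : T) : G)⁻¹ = _
            simp only [Subgroup.coe_mul, mul_inv_rev]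
            show _ = (s : G) * ((r : G) * (a : G) * (r : G)⁻¹) * (s : G)⁻¹
            group) }
      have hT : IsPGroup 5 T := IsPGroup.of_card (n := 1) (by rw [Nat.card_zpowers, ht, pow_one])
      have h := hT.card_modEq_card_fixedPoints K
      have hfp : Nat.card (MulAction.fixedPoints T K) = Nat.card Z := by
        refine Nat.card_congr (Equiv.setCongr (Set.ext fun a => ?_))
        constructor
        · intro ha; exact ha ⟨t, Subgroup.mem_zpowers t⟩
        · intro ha
          have hta : Commute t (a : G) := mul_inv_eq_iff_eq_mul.1 (congrArg Subtype.val ha)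
          rintro ⟨s, hs⟩
          obtain ⟨j, rfl⟩ := Subgroup.mem_zpowers_iff.1 hs
          refine Subtype.ext ?_
          show t ^ j * (a : G) * (t ^ j)⁻¹ = a
          rw [(hta.zpow_left j).eq, mul_inv_cancel_right]
      rw [hfp, hK] at h
      have h' : Nat.card Z % 5 = 12 % 5 := h.symm
      omega
    have hdvd : Nat.card Z ∣ 12 := hK ▸ Subgroup.card_subgroup_dvd_card Z
    have h2 : 2 ∣ Nat.card Z := by
      have := Nat.le_of_dvd (by norm_num) hdvd
      rcases (show Nat.card Z = 2 ∨ Nat.card Z = 7 ∨ Nat.card Z = 12 by omega) with h | h | h <;>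
        rw [h] at hdvd ⊢ <;> omega
    obtain ⟨w, hw⟩ := exists_prime_orderOf_dvd_card' (G := Z) 2 (hp := ⟨Nat.prime_two⟩) h2
    refine ⟨((w : K) : G), (w : K).2, by rw [Subgroup.orderOf_coe, Subgroup.orderOf_coe]; exact hw, ?_⟩
    exact mul_inv_eq_iff_eq_mul.1 (congrArg Subtype.val w.2)

end Group

section Simple

variable {G : Type u} [Group G] [Fintype G] [IsSimpleGroup G] (hG : Nat.card G = 95040)
  [Fact (Nat.Prime 11)] {P : Sylow 11 G} {e : ℕ} (hS : BlockThms.OrderP.Setup P e)
include hG hS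

/-- The values of a block member at an involution centralizing the Sylow subgroup. -/
theorem central_value {M : Ideal Cfsg.AlgInt} {X : Finset (Cfsg.IrrCharacter G)}
    {a : Cfsg.IrrCharacter G → ℤ}
    (hX : ∀ χ ∈ X, (a χ = 1 ∨ a χ = -1) ∧ (dg χ : ℤ) ≡ a χ [ZMOD 11] ∧
      ∀ z ∈ (P : Subgroup G), z ≠ 1 → ∀ y ∈ Subgroup.centralizer (P : Set G), ¬ 11 ∣ orderOf y →
        (χ : G → ℂ) (z * y) = (a χ : ℂ))
    (hM : Cfsg.IsPModular 11 M) {w : G} (hw : w ∈ Subgroup.centralizer (P : Set G))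
    (hw2 : orderOf w = 2) {χ : Cfsg.IrrCharacter G} (hχ : χ ∈ X) (hne : χ ≠ triv G) :
    ∃ v : ℤ, ∃ k : ℕ, (χ : G → ℂ) w = v ∧ 0 < k ∧ v = (dg χ : ℤ) - 22 * k ∧ 11 * k ≤ dg χ ∧
      ((95040 / Nat.card (Subgroup.centralizer ({w} : Set G)) : ℕ) : ℤ) * v % (dg χ : ℤ) = 0 := by
  obtain ⟨z, hz, hz1, hzo⟩ := hS.exists_gen
  obtain ⟨ha, hda, hval⟩ := hX χ hχ
  obtain ⟨v, k, hv, hk, hvk, hle, hdvd⟩ := S1022.value_data (p := 11) (by norm_num) χ
    (fun e => hne (Subtype.ext e)) (Subgroup.mem_centralizer_iff.1 hw z hz) hzo hw2 (a χ)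
    (hval z hz hz1 w hw (by rw [hw2]; norm_num)) hda
  refine ⟨v, k, hv, hk, ?_, hle, ?_⟩
  · rw [hvk]; push_cast; ring
  · rw [← index_eq hG]; exact Int.emod_eq_zero_of_dvd hdvd

end Simple

section Main

variable {G : Type u} [Group G] [Fintype G] [IsSimpleGroup G] (hG : Nat.card G = 95040)
include hG

theorem not_twelve [Fact (Nat.Prime 11)] (P : Sylow 11 G) {w : G} (hw2 : orderOf w = 2)
    (hwC : w ∈ Subgroup.centralizer (P : Set G)) (h : Nat.card (Sylow 11 G) = 12)
    {e : ℕ} (hS : BlockThms.OrderP.Setup P e) : False := by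
  classical
  obtain ⟨x, hx, hx1, hxo⟩ := hS.exists_gen
  have hxw : Commute x w := Subgroup.mem_centralizer_iff.1 hwC x hx
  have hstab : ∀ Q : Sylow 11 G, x • Q = Q → Q = P := by
    intro Q hQ
    refine Sylow.ext ?_
    have h1 : x ∈ Subgroup.normalizer ((Q : Subgroup G) : Set G) :=
      Sylow.smul_eq_iff_mem_normalizer.1 hQ
    have hPle : (P : Subgroup G) ≤ Subgroup.normalizer ((Q : Subgroup G) : Set G) := by
      rw [← hS.zpowers_eq hx hx1]
      exact Subgroup.zpowers_le.2 h1
    have hPQ : (P : Subgroup G) ≤ Q := fun y hy => by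
      have h2 : y ∈ (P : Subgroup G) ⊓ Subgroup.normalizer ((Q : Subgroup G) : Set G) :=
        ⟨hy, hPle hy⟩
      exact ((P.isPGroup'.inf_normalizer_sylow Q).le h2).2
    exact (Subgroup.eq_of_le_of_card_ge hPQ
      (by rw [card_sylow hG 11 (Or.inr rfl) Q, hS.card])).symm
  have hfix : ∀ Q : Sylow 11 G, w • Q = Q := by
    intro Q
    by_cases hQ : Q = P
    · rw [hQ]
      exact Sylow.smul_eq_iff_mem_normalizer.2 (Subgroup.centralizer_le_normalizer _ hwC)
    have hwP : w • P = P :=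
      Sylow.smul_eq_iff_mem_normalizer.2 (Subgroup.centralizer_le_normalizer _ hwC)
    have hxne : ∀ k : ℕ, x ^ k • Q ≠ P := fun k hk => hQ (by
      have hkP : x ^ k • P = P :=
        Sylow.smul_eq_iff_mem_normalizer.2 (Subgroup.le_normalizer (pow_mem hx k))
      exact smul_left_cancel (x ^ k) (hk.trans hkP.symm))
    have hper : ∀ k : ℕ, x ^ k • Q = Q → 11 ∣ k := fun k hk => by
      by_contra hd
      have hco : Nat.Coprime k (orderOf x) := by
        rw [hxo, Nat.coprime_comm]
        exact (Fact.out : Nat.Prime 11).coprime_iff_not_dvd.2 hd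
      obtain ⟨m, hm⟩ := exists_pow_eq_self_of_coprime hco
      refine hQ (hstab Q ?_)
      rw [← hm]
      have : ∀ i : ℕ, (x ^ k) ^ i • Q = Q := fun i => by
        induction i with
        | zero => rw [pow_zero, one_smul]
        | succ i ih => rw [pow_succ, mul_smul, hk, ih]
      exact this m
    let F : Fin 11 → {R : Sylow 11 G // R ≠ P} := fun i => ⟨x ^ (i : ℕ) • Q, hxne i⟩
    have hinj : Function.Injective F := by
      intro i j hij
      have h1 : x ^ (i : ℕ) • Q = x ^ (j : ℕ) • Q := congrArg Subtype.val hij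
      have hi := i.isLt
      have hj := j.isLt
      apply Fin.ext
      rcases Nat.lt_trichotomy (i : ℕ) j with hlt | heq | hgt
      · have h2 : x ^ ((j : ℕ) - i) • Q = Q := by
          rw [← Nat.add_sub_cancel' hlt.le, pow_add, mul_smul] at h1
          exact (smul_left_cancel _ h1).symm
        have := hper _ h2
        omega
      · exact heq
      · have h2 : x ^ ((i : ℕ) - j) • Q = Q := by
          rw [← Nat.add_sub_cancel' hgt.le, pow_add, mul_smul] at h1
          exact smul_left_cancel _ h1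
        have := hper _ h2
        omega
    have hcard : Nat.card {R : Sylow 11 G // R ≠ P} = 11 := by
      have := Fintype.ofFinite (Sylow 11 G)
      rw [Nat.card_eq_fintype_card, Fintype.card_subtype_compl, ← Nat.card_eq_fintype_card, h,
        Fintype.card_subtype_eq]
    have hsurj : Function.Surjective F :=
      ((Nat.bijective_iff_injective_and_card F).2 ⟨hinj, by rw [Nat.card_fin, hcard]⟩).2
    have hwQ : w • Q ≠ P := fun e => hQ (smul_left_cancel w (e.trans hwP.symm))
    obtain ⟨i, hi⟩ := hsurj ⟨w • Q, hwQ⟩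
    have hi' : x ^ (i : ℕ) • Q = w • Q := congrArg Subtype.val hi
    have h2 : x ^ ((i : ℕ) + i) • Q = Q := by
      have hww : w * w = 1 := by rw [← pow_two, ← hw2, pow_orderOf_eq_one]
      rw [pow_add, mul_smul, hi', ← mul_smul, (hxw.pow_left _).eq, mul_smul, hi', ← mul_smul,
        hww, one_smul]
    have := hper _ h2
    have hi0 : (i : ℕ) = 0 := by have := i.isLt; omega
    rw [← hi', hi0, pow_zero, one_smul]
  have hker : w ∈ (MulAction.toPermHom G (Sylow 11 G)).ker :=
    MonoidHom.mem_ker.2 (Equiv.ext fun Q => hfix Q)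
  rcases ((inferInstance : (MulAction.toPermHom G (Sylow 11 G)).ker.Normal)).eq_bot_or_eq_top with
    hb | ht
  · rw [hb, Subgroup.mem_bot] at hker
    rw [hker, orderOf_one] at hw2
    omega
  · have hone : Nat.card (Sylow 11 G) = 1 := Nat.card_eq_one_iff_unique.2
      ⟨⟨fun Q R => by
        obtain ⟨g, rfl⟩ := MulAction.exists_smul_eq G Q R
        have h1 : g ∈ (MulAction.toPermHom G (Sylow 11 G)).ker := ht ▸ Subgroup.mem_top g
        exact (congrFun (congrArg DFunLike.coe (MonoidHom.mem_ker.1 h1)) Q).symm⟩,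
        inferInstance⟩
    omega

theorem not_two [Fact (Nat.Prime 11)] (P : Sylow 11 G) (hS : BlockThms.OrderP.Setup P 2) {w : G}
    (hw2 : orderOf w = 2) (hwC : w ∈ Subgroup.centralizer (P : Set G)) : False := by
  classical
  obtain ⟨M, hM⟩ := Blocks.exists_isPModular 11 (Fact.out : Nat.Prime 11)
  obtain ⟨X, Y, a, s, -, hXc, hYc, hmem, hs, hX, hY, -, hrel⟩ := hS.principal_structure hM
  obtain ⟨htX, hta⟩ := triv_data hG (by norm_num) hM X Y a s hmem
    (by rcases hs with rfl | rfl <;> decide) (fun χ hχ => ⟨(hX χ hχ).1, (hX χ hχ).2.1⟩) hY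
  obtain ⟨χ, hχ⟩ := Finset.card_eq_one.1 (show (X.erase (triv G)).card = 1 by
    rw [Finset.card_erase_of_mem htX, hXc])
  obtain ⟨hχne, hχX⟩ := Finset.mem_erase.1 (hχ.symm ▸ Finset.mem_singleton_self χ :
    χ ∈ X.erase (triv G))
  obtain ⟨v, k, -, hk, -, hle, -⟩ := central_value hG hS hX hM hwC hw2 hχX hχne
  obtain ⟨θ, hθ⟩ : Y.Nonempty := Finset.card_pos.1 (by rw [hYc]; norm_num)
  have h1 := hrel θ hθ 1 (by rw [orderOf_one]; norm_num)
  simp only [value_one] at h1
  have h3 : s * (dg θ : ℤ) + ∑ ψ ∈ X, a ψ * (dg ψ : ℤ) = 0 := by exact_mod_cast h1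
  rw [← Finset.add_sum_erase _ _ htX, hχ, Finset.sum_singleton, hta, dg_triv] at h3
  have h8640 : ∀ ψ : Cfsg.IrrCharacter G, ψ ∈ Cfsg.principalBlock M G → dg ψ ∣ 8640 := fun ψ hψ =>
    (((Fact.out : Nat.Prime 11).coprime_iff_not_dvd.2
      (hS.not_dvd_degree hM hψ)).symm).dvd_of_dvd_mul_left
      (show _ ∣ 11 * 8640 from (deg_facts hG ψ).1)
  have hdθ := h8640 θ ((hmem θ).2 (Or.inr hθ))
  have hdχ := h8640 χ ((hmem χ).2 (Or.inl hχX))
  have hlt := (deg_facts hG χ).2.1
  have hθ0 := (deg_facts hG θ).2.2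
  obtain ⟨ha, hda, -⟩ := hX χ hχX
  obtain ⟨d, hd⟩ : ∃ d, d = dg χ := ⟨_, rfl⟩
  obtain ⟨y, hy⟩ : ∃ y, y = dg θ := ⟨_, rfl⟩
  rw [← hd] at hdχ hlt hle h3
  rw [← hy] at hdθ hθ0 h3
  have hda' : (d : ℤ) ≡ a χ [ZMOD 11] := hd ▸ hda
  have h4 := Int.ModEq.eq hda'
  have hne1 : d ≠ 1 := fun e => hχne (dg_one hG (hd ▸ e))
  have hmod : d % 11 = 1 ∨ d % 11 = 10 := by
    rcases ha with ha | ha <;> rw [ha] at h4 <;> norm_num at h4 <;> omega
  obtain ⟨hp1, hp2⟩ := pair_two d hlt hdχ hmod hne1
  rcases ha with ha | ha <;> rw [ha] at h3 h4 <;> norm_num at h4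
  · have hy' : y = d + 1 := by rcases hs with rfl | rfl <;> omega
    exact hp1 (by omega) (hy' ▸ hdθ)
  · have hy' : y = d - 1 := by rcases hs with rfl | rfl <;> omega
    have := hp2 (by omega) (hy' ▸ hdθ)
    omega

theorem not_ten [Fact (Nat.Prime 11)] (P : Sylow 11 G) (hS : BlockThms.OrderP.Setup P 10) {w t : G}
    (hw2 : orderOf w = 2) (hwC : w ∈ Subgroup.centralizer (P : Set G)) (ht : orderOf t = 5)
    (htw : Commute t w) : False := by
  classical
  obtain ⟨M, hM⟩ := Blocks.exists_isPModular 11 (Fact.out : Nat.Prime 11)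
  obtain ⟨X, Y, a, s, hdisj, hXc, hYc, hmem, hs, hX, hY, -, hrel⟩ := hS.principal_structure hM
  have h8640 : ∀ ψ : Cfsg.IrrCharacter G, ψ ∈ Cfsg.principalBlock M G → dg ψ ∣ 8640 := fun ψ hψ =>
    (((Fact.out : Nat.Prime 11).coprime_iff_not_dvd.2
      (hS.not_dvd_degree hM hψ)).symm).dvd_of_dvd_mul_left
      (show _ ∣ 11 * 8640 from (deg_facts hG ψ).1)
  obtain ⟨θ, hθY⟩ := Finset.card_eq_one.1 (show Y.card = 1 by rw [hYc])
  have hθ : θ ∈ Y := hθY ▸ Finset.mem_singleton_self θ
  -- values congruent to the sign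
  have hX11 : ∀ χ ∈ X, ∃ v : ℤ, (χ : G → ℂ) w = v ∧ v % 11 = a χ % 11 := by
    intro χ hχ
    have h4 := Int.ModEq.eq (hX χ hχ).2.1
    by_cases hne : χ = triv G
    · refine ⟨1, by rw [hne, triv_apply, Int.cast_one], ?_⟩
      rw [hne, show Cfsg.charDegree ((triv G : Cfsg.IrrCharacter G) : G → ℂ) = 1 from dg_triv] at h4
      rw [hne]
      exact_mod_cast h4
    · obtain ⟨v, k, hv, -, hvk, -, -⟩ := central_value hG hS hX hM hwC hw2 hχ hne
      refine ⟨v, hv, ?_⟩
      simp only [dg] at hvk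
      omega
  choose! v hv hv11 using hX11
  have hrel1 := hrel θ hθ w (by rw [hw2]; norm_num)
  have hdeg : s * (dg θ : ℤ) + ∑ χ ∈ X, a χ * (dg χ : ℤ) = 0 := by
    have h1 := hrel θ hθ 1 (by rw [orderOf_one]; norm_num)
    simp only [value_one] at h1
    exact_mod_cast h1
  have hθmod := Int.ModEq.eq (hY θ hθ)
  -- a member of degree forty-five
  obtain ⟨ψ, hψm, hψ⟩ : ∃ ψ, ψ ∈ Cfsg.principalBlock M G ∧ dg ψ = 45 := by
    by_contra hcon
    push Not at hcon
    have hev : ∀ ψ, ψ ∈ Cfsg.principalBlock M G → ψ ≠ triv G → (dg ψ : ZMod 2) = 0 := by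
      intro ψ hψ hne
      rw [ZMod.natCast_eq_zero_iff_even, Nat.even_iff]
      by_contra hodd
      refine hcon ψ hψ (odd_forty_five _ (deg_facts hG ψ).2.1 (h8640 ψ hψ) ?_
        (fun e => hne (dg_one hG e)) (by omega))
      rcases (hmem ψ).1 hψ with h | h
      · obtain ⟨ha, hda, -⟩ := hX ψ h
        have h4 := Int.ModEq.eq hda
        simp only [dg]
        rcases ha with ha | ha <;> rw [ha] at h4 <;> norm_num at h4 <;> omega
      · have h4 := Int.ModEq.eq (hY ψ h)
        simp only [dg]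
        rcases hs with rfl | rfl <;> norm_num at h4 <;> omega
    have h2 := congrArg (fun z : ℤ => (z : ZMod 2)) hdeg
    push_cast at h2
    have hsign : ∀ z : ℤ, z = 1 ∨ z = -1 → (z : ZMod 2) = 1 := fun z hz => by
      rcases hz with rfl | rfl <;> decide
    rw [hsign s hs, one_mul, Finset.sum_congr rfl (g := fun χ => (dg χ : ZMod 2)) fun χ hχ => by
      rw [hsign _ (hX χ hχ).1, one_mul]] at h2
    rcases (hmem _).1 (triv_mem_principalBlock (G := G) hM) with ht0 | ht0
    · rw [Finset.sum_eq_single_of_mem _ ht0 fun χ hχ hne => hev χ ((hmem χ).2 (Or.inl hχ)) hne,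
        hev θ ((hmem θ).2 (Or.inr hθ)) (fun e => Finset.disjoint_left.1 hdisj ht0 (e ▸ hθ)),
        dg_triv, zero_add, Nat.cast_one] at h2
      exact one_ne_zero h2
    · rw [Finset.sum_eq_zero fun χ hχ => hev χ ((hmem χ).2 (Or.inl hχ))
          (fun e => Finset.disjoint_left.1 hdisj (e ▸ hχ) ht0),
        ← show triv G = θ from Finset.mem_singleton.1 (hθY ▸ ht0), dg_triv, add_zero,
        Nat.cast_one] at h2
      exact one_ne_zero h2
  obtain ⟨u, k, hu, huk, -, hlt, hdvd⟩ := inv_value hG ψ (by rw [hψ]; norm_num) hw2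
  -- the congruence modulo eleven
  have hu11 : u % 11 = 1 := by
    rcases (hmem ψ).1 hψm with h | h
    · have h1 : u = v ψ := by exact_mod_cast hu.symm.trans (hv ψ h)
      have h4 := Int.ModEq.eq (hX ψ h).2.1
      simp only [dg] at hψ
      rw [hψ] at h4
      have := hv11 ψ h
      omega
    · obtain rfl : ψ = θ := Finset.mem_singleton.1 (hθY ▸ h)
      rw [hu, Finset.sum_congr rfl (g := fun χ => (a χ : ℂ) * (v χ : ℂ)) fun χ hχ => by
        rw [hv χ hχ]] at hrel1
      have h1 : s * u + ∑ χ ∈ X, a χ * v χ = 0 := by exact_mod_cast hrel1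
      have h2 := congrArg (fun z : ℤ => (z : ZMod 11)) h1
      push_cast at h2
      rw [Finset.sum_congr rfl (g := fun _ => (1 : ZMod 11)) fun χ hχ => by
        rw [(ZMod.intCast_eq_intCast_iff' (v χ) (a χ) 11).2 (by exact_mod_cast hv11 χ hχ)]
        rcases (hX χ hχ).1 with h | h <;> rw [h] <;> norm_num, Finset.sum_const, hXc, nsmul_one] at h2
      simp only [dg] at hψ
      rw [hψ] at hθmod
      rcases hs with rfl | rfl
      · have h3 : ((u + 10 : ℤ) : ZMod 11) = 0 := by
          push_cast at h2 ⊢; linear_combination h2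
        have := Int.emod_eq_zero_of_dvd ((ZMod.intCast_zmod_eq_zero_iff_dvd _ 11).1 h3)
        omega
      · norm_num at hθmod
  -- the divisibility by five
  obtain ⟨c, hc⟩ : ∃ c, c = Nat.card (Subgroup.centralizer ({w} : Set G)) := ⟨_, rfl⟩
  have h5c : 5 ∣ c := by
    rw [hc, ← ht]
    exact Subgroup.orderOf_dvd_natCard _ (Subgroup.mem_centralizer_singleton_iff.2 htw.eq)
  have hmul := card_centralizer_mul_index hG w
  rw [index_eq hG, ← hc] at hmul
  rw [← hc, hψ] at hdvd
  have h5n : ¬ 5 ∣ 95040 / c := fun h5 => by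
    obtain ⟨i, hi⟩ := h5
    obtain ⟨j, rfl⟩ := h5c
    rw [hi] at hmul
    have : 25 ∣ 95040 := ⟨j * i, by rw [← hmul]; ring⟩
    omega
  have h5u : (5 : ℤ) ∣ u := by
    have h := Int.dvd_of_emod_eq_zero hdvd
    refine (Int.Prime.dvd_mul' (p := 5) (by norm_num)
      ((show (5 : ℤ) ∣ ((45 : ℕ) : ℤ) by norm_num).trans h)).resolve_left fun h' => h5n ?_
    exact_mod_cast h'
  rw [hψ] at huk hlt
  omega

omit hG in
/-- The two integer values of one entry. -/
theorem cast_val {χ : Cfsg.IrrCharacter G} {g : G} {u v : ℤ} (hu : (χ : G → ℂ) g = u)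
    (hv : (χ : G → ℂ) g = v) : u = v := by exact_mod_cast hu.symm.trans hv

/-- The exceptional value at an involution. -/
theorem exc_inv {P : Sylow 11 G} {M : Ideal Cfsg.AlgInt} (B : Blk P M) {w : G}
    (hw2 : orderOf w = 2) {v : Fin 4 → ℤ} (hv : ∀ i, (B.x i : G → ℂ) w = v i) :
    (excVal B.D (four v)).natAbs < (excDeg B.D).natAbs ∧
      ((95040 / Nat.card (Subgroup.centralizer ({w} : Set G)) : ℕ) : ℤ) * excVal B.D (four v) %
        excDeg B.D = 0 ∧
      (((excDeg B.D).natAbs : ℤ) - excVal B.D (four v)) % 4 = 0 := by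
  obtain ⟨u, k, hu, huk, -, hlt, hdvd⟩ :=
    inv_value hG (B.y 0) (fun e => B.y_ne 0 (dg_one hG e)) hw2
  have hd : dg (B.y 0) = (excDeg B.D).natAbs := B.deg_y 0
  rw [cast_val hu (B.y_value 0 (by rw [hw2]; norm_num) hv), hd] at huk hlt hdvd
  exact ⟨hlt, Int.emod_eq_zero_of_dvd (Int.natAbs_dvd.1 (Int.dvd_of_emod_eq_zero hdvd)), by omega⟩

theorem not_five [Fact (Nat.Prime 11)] (P : Sylow 11 G) (hS : BlockThms.OrderP.Setup P 5) {w t : G}
    (hw2 : orderOf w = 2) (hwC : w ∈ Subgroup.centralizer (P : Set G)) (ht : orderOf t = 5)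
    (htw : Commute t w) : False := by
  classical
  obtain ⟨M, hM⟩ := Blocks.exists_isPModular 11 (Fact.out : Nat.Prime 11)
  obtain ⟨B⟩ := exists_blk hG hS hM
  obtain ⟨z, hz, hz1, hzo⟩ := hS.exists_gen
  obtain ⟨c, hc⟩ : ∃ c, c = Nat.card (Subgroup.centralizer ({w} : Set G)) := ⟨_, rfl⟩
  have hzw : Commute z w := Subgroup.mem_centralizer_iff.1 hwC z hz
  have hmem : ∀ g : G, Commute g w → orderOf g ∣ c := fun g hg =>
    hc ▸ Subgroup.orderOf_dvd_natCard _ (Subgroup.mem_centralizer_singleton_iff.2 hg.eq)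
  have h110 : 110 ∣ c := by
    have h2 := hmem w (Commute.refl w)
    have h5 := hmem t htw
    have h11 := hmem z hzw
    rw [hw2] at h2; rw [ht] at h5; rw [hzo] at h11
    omega
  have hcd : c ∣ 95040 := ⟨_, (hc ▸ card_centralizer_mul_index hG w).symm⟩
  have hcl := cents55_spec hcd h110
  have hval : ∀ i, ∃ v : ℤ, (B.x i : G → ℂ) w = v ∧ v ∈ candC c (sd (B.x i)) ∨
      ((B.x i : G → ℂ) w = v ∧ ¬ v * v ≤ (c : ℤ)) := by
    intro i
    have hd : (dg (B.x i) : ℤ) ≡ sgn (sd (B.x i)) [ZMOD 11] := by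
      have hm := B.mem i
      have he := sd_eq (B.x i)
      rw [signedDeg] at hm
      simp only [List.mem_cons, List.not_mem_nil, or_false] at hm
      rcases hm with h | h | h | h | h | h | h <;> rw [h] at he ⊢ <;>
        simp only [sgn] at he ⊢ <;> norm_num at he ⊢ <;> rw [Int.ModEq] <;> omega
    obtain ⟨v, k, hv, hk, hvk, hle, hdvd⟩ := S1022.value_data (p := 11) (by norm_num) (B.x i)
      (fun e => B.x_ne i (Subtype.ext e)) hzw hzo hw2 (sgn (sd (B.x i)))
      (B.at_p i z hz hz1 w hwC (by rw [hw2]; norm_num)) hd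
    by_cases hvc : v * v ≤ (c : ℤ)
    · refine ⟨v, Or.inl ⟨hv, ?_⟩⟩
      simp only [candC, List.mem_filter, List.mem_map, List.mem_range, Bool.and_eq_true,
        decide_eq_true_eq, sd_natAbs, hc]
      refine ⟨⟨k - 1, ?_, ?_⟩, hc ▸ hvc, ?_⟩
      · simp only [dg]; omega
      · rw [hvk]; push_cast; rw [Nat.cast_sub hk]; push_cast; simp only [dg]; ring
      · rw [← index_eq hG]; exact Int.emod_eq_zero_of_dvd hdvd
    · exact ⟨v, Or.inr ⟨hv, hvc⟩⟩
  choose v hv using hval
  have hv' : ∀ i, (B.x i : G → ℂ) w = v i := fun i => (hv i).elim And.left And.left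
  have hcol := B.colSq_le (g := w) (by rw [hw2]; norm_num) hv'
  rw [← hc] at hcol
  have hsq : ∀ i, v i * v i ≤ (c : ℤ) := fun i => by
    have h1 : v i * v i ≤ ∑ j, v j * v j :=
      Finset.single_le_sum (f := fun j => v j * v j) (fun j _ => mul_self_nonneg _) (Finset.mem_univ i)
    have h2 : 0 ≤ sgnSum B.D (four v) * sgnSum B.D (four v) := mul_self_nonneg _
    simp only [colSq, four, List.map_cons, List.map_nil, List.sum_cons, List.sum_nil] at hcol
    simp only [four] at h2
    rw [Fin.sum_univ_four] at h1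
    linarith
  have hin : ∀ i, v i ∈ candC c (sd (B.x i)) := fun i =>
    (hv i).elim And.right fun h => absurd (hsq i) h.2
  obtain ⟨hy1, hy2, hy3⟩ := exc_inv hG B hw2 hv'
  rw [← hc] at hy2
  have hnil := no_twelve_center _ (B.mem 0) _ (B.mem 1) B.sorted.1 _ (B.mem 2) B.sorted.2.1 _
    (B.mem 3) B.sorted.2.2 (B.isPat hG) c hcl
  have hmem' : four v ∈ ((search (candC c) B.D ((c : ℤ) - 1)).filter fun vs => okC c B.D vs) := by
    refine List.mem_filter.2 ⟨mem_search (by simp [Blk.D, four, hin]) ?_, ?_⟩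
    · have h2 : 0 ≤ sgnSum B.D (four v) * sgnSum B.D (four v) := mul_self_nonneg _
      simp only [colSq] at hcol
      linarith
    · simp only [okC, Bool.and_eq_true, decide_eq_true_eq]
      exact ⟨⟨⟨hcol, hy1⟩, hy2⟩, by omega⟩
  simp only [Blk.D] at hmem'
  rw [hnil] at hmem'
  exact absurd hmem' List.not_mem_nil

/-- The Sylow 11-subgroup is self-centralizing with automizer of order five. -/
theorem eleven [Fact (Nat.Prime 11)] (P : Sylow 11 G) :
    BlockThms.OrderP.Setup P 5 ∧ Nat.card (Subgroup.centralizer (P : Set G)) = 11 ∧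
      Nat.card (Sylow 11 G) = 1728 := by
  classical
  have hna := not_comm hG
  obtain ⟨e, he⟩ : ∃ e, e = (Subgroup.centralizer (P : Set G)).relIndex
      (Subgroup.normalizer (P : Set G)) := ⟨_, rfl⟩
  have hS : BlockThms.OrderP.Setup P e := ⟨card_sylow hG 11 (Or.inr rfl) P, he.symm⟩
  obtain ⟨K', -, hCK', hcount'⟩ := normalizer_count hG hS
  obtain ⟨K, hKC, -, -, hKn, hCK, -⟩ := hS.exists_complement
  have hKK : Nat.card K' = Nat.card K := by omega
  rw [hKK] at hcount'
  have hnd : Nat.card (Sylow 11 G) * (e * Nat.card K) = 8640 := by omega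
  have hmod : Nat.card (Sylow 11 G) % 11 = 1 := by rw [card_sylow_modEq_one 11 G]
  have hne1 : e ≠ 1 := S4429.e_ne_one hS (by rw [hG]; norm_num)
  have he10 : e ∣ 10 := hS.exists_y.1
  have he4 : e = 2 ∨ e = 5 ∨ e = 10 := by
    have := hS.e_pos
    have := Nat.le_of_dvd (by norm_num) he10
    interval_cases e <;> omega
  have hcases := count_eleven _ (Nat.mem_divisors.2 ⟨⟨_, hnd.symm⟩, by norm_num⟩) hmod
  by_cases hn : Nat.card (Sylow 11 G) = 1728
  · rw [hn] at hnd
    obtain rfl : e = 5 := by rcases he4 with rfl | rfl | rfl <;> omega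
    exact ⟨hS, by omega, hn⟩
  exfalso
  rcases hcases with h | h | h | h | h | h | h
  · have hnorm : (P : Subgroup G).Normal := by
      rw [← Subgroup.normalizer_eq_top_iff, ← Subgroup.index_eq_one]
      exact (Sylow.card_eq_index_normalizer P).symm.trans h
    have hc := hS.card
    rcases hnorm.eq_bot_or_eq_top with hb | ht
    · rw [hb, Subgroup.card_bot] at hc; norm_num at hc
    · rw [ht, Subgroup.card_top, hG] at hc; norm_num at hc
  all_goals rw [h] at hnd
  all_goals try (rcases he4 with rfl | rfl | rfl <;> omega; done)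
  all_goals
    have h2 : 2 ∣ Nat.card K := by rcases he4 with rfl | rfl | rfl <;> omega
    obtain ⟨w, hw⟩ := exists_prime_orderOf_dvd_card' (G := K) 2 (hp := ⟨Nat.prime_two⟩) h2
    have hw2 : orderOf (w : G) = 2 := by rw [Subgroup.orderOf_coe]; exact hw
    first
      | exact not_twelve hG P hw2 (hKC w.2) h hS
      | (rcases he4 with rfl | he4
         · exact not_two hG P hS hw2 (hKC w.2)
         have h5 : 5 ∣ e := by rcases he4 with rfl | rfl <;> norm_num
         have hN := hS.card_normalizer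
         obtain ⟨t, ht⟩ := exists_prime_orderOf_dvd_card'
           (G := (Subgroup.normalizer (P : Set G) : Subgroup G)) 5 (hp := ⟨Nat.prime_five⟩)
           (hN ▸ h5.mul_right _)
         obtain ⟨v, hvK, hv2, htv⟩ := exists_commuting_inv (K := K) (t := (t : G))
           (by rcases he4 with rfl | rfl <;> omega) (by rw [Subgroup.orderOf_coe]; exact ht)
           (fun c hc => hKn t t.2 c hc)
         rcases he4 with rfl | rfl
         · exact not_five hG P hS hv2 (hKC hvK) (by rw [Subgroup.orderOf_coe]; exact ht) htv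
         · exact not_ten hG P hS hv2 (hKC hvK) (by rw [Subgroup.orderOf_coe]; exact ht) htv)

end Main

end Cfsg.Agent.Fg24.M12
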