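import Cfsg.Agent.Fg24.M12.Columns

/-!
# The normalizer of a Sylow 5-subgroup
-/

set_option autoImplicit false

namespace Cfsg.Agent.Fg24.M12

open scoped ComplexConjugate
open Cfsg.Agent Cfsg.Agent.Blocks

universe u

set_option synthInstance.maxSize 4000 in
theorem five_cases : ∀ j ∈ Nat.divisors 1728, 11 * j % 5 = 1 → ∀ e : ℕ, e < 5 → (e = 2 ∨ e = 4) →
    e * (1728 / j / e) = 1728 / j →
    (e = 2 ∧ (2 ∣ 1728 / j / e ∨ 1728 / j / e = 9)) ∨
      (e = 4 ∧ 1728 / j / e ∈ [2, 12, 27, 72, 432]) := by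
  decide +kernel

set_option synthInstance.maxSize 4000 in
theorem pair_five : ∀ d : ℕ, d < 309 → d ∣ 19008 → (d % 5 = 1 ∨ d % 5 = 4) → d ≠ 1 →
    ((d % 5 = 1 → d + 1 ∣ 19008 → (d + 1) % 5 ≠ 0 → 1 + d * d + 2 * ((d + 1) * (d + 1)) ≤ 95040 → d = 11) ∧
      (d % 5 = 4 → d - 1 ∣ 19008 → (d - 1) % 5 ≠ 0 → 1 + d * d + 2 * ((d - 1) * (d - 1)) ≤ 95040 → d = 4 ∨ d = 9)) := by
  decide +kernel

set_option synthInstance.maxSize 4000 in
theorem gen_five : ∀ r : ℕ, r < 5 → r ≠ 0 → ∀ i : ℕ, i < 5 → i ≠ 0 →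
    (∀ j : ℕ, j < 4 → r ^ j % 5 = 1 → j = 0) → ∃ j : ℕ, j < 4 ∧ r ^ j % 5 = i := by
  decide +kernel

theorem no_square_sum : ∀ a b : ZMod 9, 48 + a ^ 2 + b ^ 2 ≠ 0 := by decide +kernel

variable {G : Type u} [Group G] [Fintype G]

/-- The sum of the values of a character over a subgroup is a multiple of its order. -/
theorem cf_eq (χ : Cfsg.IrrCharacter G) {g k : G} (h : IsConj g k) :
    (χ : G → ℂ) g = (χ : G → ℂ) k := by
  obtain ⟨c, rfl⟩ := isConj_iff.1 h
  exact (Char.isClassFunction_of_isIrr χ.2 g c).symm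

/-- The sum of the values of a character over a subgroup is a multiple of its order. -/
theorem sum_sub {χ : G → ℂ} (hχ : Cfsg.IsCharacter G χ) (Q : Subgroup G) [Fintype Q] :
    ∃ m : ℕ, ∑ u : Q, χ u = (Nat.card Q : ℂ) * m := by
  obtain ⟨m, hm⟩ := Char.classInner_isCharacter_eq_natCast (Char.isCharacter_res Q hχ)
    (Char.isCharacter_one (G := Q))
  refine ⟨m, ?_⟩
  rw [← hm, Cfsg.classInner, mul_inv_cancel_left₀ (Nat.cast_ne_zero.2 Nat.card_pos.ne')]
  exact Finset.sum_congr rfl fun u _ => by simp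

/-- The powers of an element of order five. -/
theorem sum_five {χ : G → ℂ} (hχ : Cfsg.IsCharacter G χ) {t : G} (ht : orderOf t = 5) :
    ∃ m : ℕ, χ 1 + χ t + χ (t ^ 2) + χ (t ^ 3) + χ (t ^ 4) = 5 * (m : ℂ) := by
  classical
  obtain ⟨m, hm⟩ := sum_sub hχ (Subgroup.zpowers t)
  refine ⟨m, ?_⟩
  rw [Nat.card_zpowers, ht] at hm
  rw [show (5 : ℂ) = ((5 : ℕ) : ℂ) by norm_num, ← hm,
    ← Equiv.sum_comp (finEquivZPowers (isOfFinOrder_of_finite t)) (fun u => χ u),
    ← Equiv.sum_comp (finCongr ht).symm, Fin.sum_univ_five]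
  simp only [finEquivZPowers_apply, finCongr_symm, finCongr_apply, Fin.val_cast]
  simp [pow_zero, pow_one]

/-- An algebraic integer that is half an integer. -/
theorem half_int {x : ℂ} (hx : IsIntegral ℤ x) {a : ℤ} (k : ℕ) (hk : k ≠ 0) (h : (k : ℂ) * x = a) :
    ∃ v : ℤ, x = v ∧ (k : ℤ) * v = a := by
  have hxq : x = (((a : ℚ) / k : ℚ) : ℂ) := by
    push_cast
    rw [eq_div_iff (Nat.cast_ne_zero.2 hk), mul_comm]
    exact h
  rw [hxq] at hx
  obtain ⟨v, hv⟩ := Char.exists_int_of_isIntegral_rat hx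
  refine ⟨v, by rw [hxq, ← hv]; simp, ?_⟩
  rw [eq_div_iff (by exact_mod_cast hk)] at hv
  have : (v : ℚ) * (k : ℚ) = (a : ℚ) := hv
  have h' : v * (k : ℤ) = a := by exact_mod_cast this
  rw [← h', mul_comm]

section Setup

variable [Fact (Nat.Prime 5)] {Q : Sylow 5 G} {e : ℕ}

/-- With automizer of order four all nontrivial powers are conjugate. -/
theorem conj_powers (hS : BlockThms.OrderP.Setup Q 4) {t : G} (ht : t ∈ (Q : Subgroup G))
    (ht1 : t ≠ 1) {i : ℕ} (hi : ¬ 5 ∣ i) : IsConj t (t ^ i) := by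
  classical
  obtain ⟨-, y, hy, -, hyC, -⟩ := hS.exists_y
  have hto : orderOf t = 5 := by rw [← Nat.card_zpowers, hS.zpowers_eq ht ht1, hS.card]
  obtain ⟨r, hr⟩ := BlockThms.OrderP.orderOf_dvd_sub_one hS hy ht ht1
  have hpow : ∀ j : ℕ, y ^ j * t * (y ^ j)⁻¹ = t ^ (r ^ j) := fun j => by
    induction j with
    | zero => simp
    | succ j ih =>
      rw [pow_succ', mul_inv_rev, show y * y ^ j * t * ((y ^ j)⁻¹ * y⁻¹) =
        y * (y ^ j * t * (y ^ j)⁻¹) * y⁻¹ by group, ih, ← conj_pow, hr, ← pow_mul, pow_succ']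
  have key : ∀ j : ℕ, (r ^ j) % 5 = 1 → 4 ∣ j := fun j hj => by
    refine (hyC j).1 ?_
    rw [← hS.centralizer_eq ht ht1, Subgroup.mem_centralizer_singleton_iff]
    have := hpow j
    rw [← pow_mod_orderOf t (r ^ j), hto, hj, pow_one] at this
    exact (mul_inv_eq_iff_eq_mul.1 this)
  have hr0 : r % 5 ≠ 0 := fun h => by
    rw [← pow_mod_orderOf t r, hto, h, pow_zero, conj_eq_one_iff] at hr
    exact ht1 hr
  obtain ⟨j, -, hj⟩ := gen_five (r % 5) (Nat.mod_lt _ (by norm_num)) hr0 (i % 5) (Nat.mod_lt _ (by norm_num))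
    (fun h => hi (Nat.dvd_of_mod_eq_zero h)) fun j hj h => by
      rw [← Nat.pow_mod] at h
      have := key j h
      omega
  rw [← Nat.pow_mod] at hj
  refine isConj_iff.2 ⟨y ^ j, ?_⟩
  rw [hpow j, ← pow_mod_orderOf t (r ^ j), hto, hj, ← hto, pow_mod_orderOf]

/-- With automizer of order four the values are integers. -/
theorem value_four (hS : BlockThms.OrderP.Setup Q 4) (χ : Cfsg.IrrCharacter G) {t : G}
    (ht : t ∈ (Q : Subgroup G)) (ht1 : t ≠ 1) :
    ∃ v : ℤ, (χ : G → ℂ) t = v ∧ ((dg χ : ℤ) - v) % 5 = 0 ∧ 0 ≤ (dg χ : ℤ) + 4 * v := by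
  have hto : orderOf t = 5 := by rw [← Nat.card_zpowers, hS.zpowers_eq ht ht1, hS.card]
  obtain ⟨m, hm⟩ := sum_five (Char.IsIrr.isCharacter χ.2) hto
  have hc : ∀ i : ℕ, ¬ 5 ∣ i → (χ : G → ℂ) (t ^ i) = (χ : G → ℂ) t := fun i hi =>
    (cf_eq χ (conj_powers hS ht ht1 hi)).symm
  rw [hc 2 (by norm_num), hc 3 (by norm_num), hc 4 (by norm_num), value_one] at hm
  obtain ⟨v, hv, hv4⟩ := half_int (Char.IsChar.isIntegral (Char.IsIrr.isCharacter χ.2) t)
    (a := 5 * (m : ℤ) - dg χ) 4 (by norm_num) (by push_cast; linear_combination hm)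
  exact ⟨v, hv, by push_cast at hv4; omega, by push_cast at hv4; omega⟩

end Setup

theorem eq_zero_five {M : Ideal Cfsg.AlgInt} [IsSimpleGroup G] (hG : Nat.card G = 95040)
    [Fact (Nat.Prime 5)] (hM : Cfsg.IsPModular 5 M) (χ : Cfsg.IrrCharacter G) (hd : 5 ∣ dg χ)
    {g : G} (hg : 5 ∣ orderOf g) : (χ : G → ℂ) g = 0 := by
  refine BlockThms.eq_zero_of_not_dvd_codegree hM χ ?_ ?_
  · intro h
    have hdG : dg χ ∣ Nat.card G := hG ▸ (deg_facts hG χ).1
    have h2 : 5 ^ 2 ∣ Nat.card G := by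
      rw [sq, ← Nat.mul_div_cancel' hdG]
      exact mul_dvd_mul hd h
    rw [hG] at h2
    norm_num at h2
  · simp only [Cfsg.IsPRegular]
    exact fun h => h hg

variable [IsSimpleGroup G]

theorem exists_central_inv (C : Ctx G) : ∃ w : G, orderOf w = 2 ∧
    Nat.card (Subgroup.centralizer ({w} : Set G)) ∈ cents0 := by
  classical
  haveI : Fact (Nat.Prime 2) := ⟨Nat.prime_two⟩
  obtain ⟨S⟩ : Nonempty (Sylow 2 G) := inferInstance
  have hS : Nat.card (S : Subgroup G) = 64 := by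
    rw [S.card_eq_multiplicity, C.order, show (95040 : ℕ) = 2 ^ 6 * 1485 by norm_num,
      Nat.factorization_mul (by norm_num) (by norm_num), Finsupp.add_apply,
      Nat.Prime.factorization_pow Nat.prime_two, Finsupp.single_eq_same,
      Nat.factorization_eq_zero_of_not_dvd (by norm_num)]
    norm_num
  haveI : Nontrivial (S : Subgroup G) := Finite.one_lt_card_iff_nontrivial.1 (by rw [hS]; norm_num)
  haveI := S.isPGroup'.center_nontrivial
  have h2 : 2 ∣ Nat.card (Subgroup.center (S : Subgroup G)) := by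
    have := (S.isPGroup'.to_subgroup (Subgroup.center (S : Subgroup G)))
    obtain ⟨n, hn⟩ := this.exists_card_eq
    have h1 : 1 < Nat.card (Subgroup.center (S : Subgroup G)) := Finite.one_lt_card
    rw [hn] at h1 ⊢
    rcases n with _ | n
    · norm_num at h1
    · exact dvd_pow_self 2 (by omega)
  obtain ⟨⟨⟨w, hwS⟩, hwc⟩, hw⟩ := exists_prime_orderOf_dvd_card' 2 h2
  have hw2 : orderOf w = 2 := by
    rw [← hw, ← Subgroup.orderOf_coe, ← Subgroup.orderOf_coe]
  have h64 : 64 ∣ Nat.card (Subgroup.centralizer ({w} : Set G)) := by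
    rw [← hS]
    refine Subgroup.card_dvd_of_le fun x hx => Subgroup.mem_centralizer_singleton_iff.2 ?_
    exact congrArg Subtype.val (Subgroup.mem_center_iff.1 hwc ⟨x, hx⟩)
  refine ⟨w, hw2, cents0_spec (C.dvd_regular_card (by rw [hw2]; norm_num) ?_) h64⟩
  intro e; rw [e, orderOf_one] at hw2; omega

/-- An involution commuting with an element of order five fixes the block. -/
theorem pattern (C : Ctx G) {t w : G} (ht : orderOf t = 5) (hw : orderOf w = 2) (htw : Commute t w) :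
    C.B.D = patM12 := by
  obtain ⟨w0, hw0, hc0⟩ := exists_central_inv C
  have hc5 : Nat.card (Subgroup.centralizer ({w} : Set G)) ∈ cents5 := by
    refine cents5_spec (C.dvd_regular_card (by rw [hw]; norm_num) fun e => ?_) ?_
    · rw [e, orderOf_one] at hw; omega
    · have h2 := Subgroup.orderOf_dvd_natCard (Subgroup.centralizer ({w} : Set G))
        (Subgroup.mem_centralizer_singleton_iff.2 rfl : w ∈ _)
      have h5 := Subgroup.orderOf_dvd_natCard (Subgroup.centralizer ({w} : Set G))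
        (Subgroup.mem_centralizer_singleton_iff.2 htw.eq : t ∈ _)
      rw [hw] at h2; rw [ht] at h5
      omega
  exact block_only _ (C.B.mem 0) _ (C.B.mem 1) C.B.sorted.1 _ (C.B.mem 2) C.B.sorted.2.1 _
    (C.B.mem 3) C.B.sorted.2.2 C.isPat' (C.any_sols hw0 hc0) (C.any_sols hw hc5)

theorem excDeg_mod (C : Ctx G) : excDeg C.B.D % 11 = 6 := by
  have h : ∀ i, sd (C.B.x i) % 11 = 1 := fun i => by
    have := C.B.mem i
    simp only [signedDeg, List.mem_cons, List.not_mem_nil, or_false] at this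
    rcases this with h | h | h | h | h | h | h <;> rw [h] <;> norm_num
  have h0 := h 0
  have h1 := h 1
  have h2 := h 2
  have h3 := h 3
  simp only [excDeg, Blk.D, List.sum_cons, List.sum_nil]
  omega

/-- Every entry of the column of an element of order five. -/
theorem colT (C : Ctx G) [Fact (Nat.Prime 5)] {M : Ideal Cfsg.AlgInt} (hM : Cfsg.IsPModular 5 M)
    {Q : Sylow 5 G} (hS : BlockThms.OrderP.Setup Q 4) {t : G} (ht : t ∈ (Q : Subgroup G))
    (ht1 : t ≠ 1) : ∃ v : Fin 4 → ℤ, (∀ i, (C.B.x i : G → ℂ) t = v i) ∧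
      four v ∈ solsT (Nat.card (Subgroup.centralizer ({t} : Set G))) C.B.D := by
  have hto : orderOf t = 5 := by rw [← Nat.card_zpowers, hS.zpowers_eq ht ht1, hS.card]
  have hreg : ¬ 11 ∣ orderOf t := by rw [hto]; norm_num
  obtain ⟨c, hc⟩ : ∃ c, c = Nat.card (Subgroup.centralizer ({t} : Set G)) := ⟨_, rfl⟩
  choose v hv hvmod hvlo using fun i => value_four hS (C.B.x i) ht ht1
  refine ⟨v, hv, ?_⟩
  have hcol := C.B.colSq_le hreg hv
  obtain ⟨u, hu, humod, hulo⟩ := value_four hS (C.B.y 0) ht ht1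
  have hy : u = excVal C.B.D (four v) := by exact_mod_cast hu.symm.trans (C.B.y_value 0 hreg hv)
  rw [hy] at hu humod hulo
  have hd : dg (C.B.y 0) = (excDeg C.B.D).natAbs := C.B.deg_y 0
  have hf := C.form_eq hreg hreg hv hv
  rw [← hc] at hcol hf ⊢
  have hdvd : ∀ χ : Cfsg.IrrCharacter G, ∀ k : ℤ, (χ : G → ℂ) t = k →
      ((95040 / c : ℕ) : ℤ) * k % (dg χ : ℤ) = 0 := fun χ k hk => by
    rw [hc, ← index_eq C.order]
    exact Int.emod_eq_zero_of_dvd (dvd_index χ t hk)
  have hzero : ∀ χ : Cfsg.IrrCharacter G, ∀ k : ℤ, (χ : G → ℂ) t = k → (dg χ : ℤ) % 5 = 0 → k = 0 :=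
    fun χ k hk h5 => by
      have := eq_zero_five C.order hM χ (by omega) (g := t) (by rw [hto])
      rw [hk] at this
      exact_mod_cast this
  have hS2 : 0 ≤ sgnSum C.B.D (four v) * sgnSum C.B.D (four v) := mul_self_nonneg _
  have hsum : colSq C.B.D (four v) = 1 + ∑ i, v i * v i +
      2 * sgnSum C.B.D (four v) * sgnSum C.B.D (four v) := by
    simp only [colSq, four, List.map_cons, List.map_nil, List.sum_cons, List.sum_nil, Fin.sum_univ_four]
    ring
  have hsq : ∀ i, v i * v i ≤ (c : ℤ) := fun i => by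
    have h1 : v i * v i ≤ ∑ j, v j * v j :=
      Finset.single_le_sum (f := fun j => v j * v j) (fun j _ => mul_self_nonneg _) (Finset.mem_univ i)
    linarith
  have hin : ∀ i, v i ∈ candT c (sd (C.B.x i)) := fun i => by
    have hdx := C.B.dg_x i
    have hz := hzero _ _ (hv i)
    have hm := hvmod i
    have hl := hvlo i
    have hv2 := hdvd _ _ (hv i)
    rw [candT]
    split_ifs with h5
    · simp only [List.mem_singleton]
      exact hz (by omega)
    · simp only [List.mem_filter, List.mem_map, List.mem_range, Bool.and_eq_true, decide_eq_true_eq]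
      rw [← hdx]
      refine ⟨⟨(((dg (C.B.x i) : ℤ) - v i) / 5).toNat, ?_, ?_⟩, ⟨hl, hsq i⟩, hv2⟩
      all_goals
        have hle : v i ≤ (dg (C.B.x i) : ℤ) := by
          have h1 : ‖(C.B.x i : G → ℂ) t‖ ≤ ((C.B.x i : G → ℂ) 1).re :=
            Char.IsChar.norm_le (Char.IsIrr.isCharacter (C.B.x i).2) t
          rw [hv i, value_one, Complex.natCast_re, Complex.norm_intCast] at h1
          have h2 : ((v i : ℤ) : ℝ) ≤ ((dg (C.B.x i) : ℤ) : ℝ) :=
            (le_abs_self _).trans (by exact_mod_cast h1)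
          exact_mod_cast h2
        simp only [dg] at hdx hle hm hl ⊢
        omega
  refine List.mem_filter.2 ⟨mem_search (by simp [Blk.D, four, hin]) ?_, ?_⟩
  · simp only [colSq] at hcol
    linarith
  · have h11 : 11 ∣ C.pairs t t := C.dvd_pairs hreg ht1
    obtain ⟨q, hq⟩ := h11
    rw [hq] at hf
    have hf' : form C.B.D (four v) (four v) = (q : ℤ) * ((c : ℤ) * c) := by
      push_cast at hf; linarith
    simp only [okT, Bool.and_eq_true, decide_eq_true_eq]
    refine ⟨⟨⟨⟨hcol, ?_⟩, ?_⟩, ?_⟩, ?_⟩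
    · have := hdvd _ _ hu
      rw [hd] at this
      exact Int.emod_eq_zero_of_dvd (Int.natAbs_dvd.1 (Int.dvd_of_emod_eq_zero this))
    · rw [hd] at humod hulo
      split_ifs with h5
      · simp only [decide_eq_true_eq]
        exact hzero _ _ hu (by rw [hd]; omega)
      · simp only [Bool.and_eq_true, decide_eq_true_eq]
        exact ⟨humod, hulo⟩
    · rw [hf']
      exact mul_nonneg (Int.natCast_nonneg q) (mul_self_nonneg _)
    · rw [hf']
      exact Int.emod_eq_zero_of_dvd ⟨q, by ring1⟩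

/-- The automizer of order two with a centralizer of order forty-five is impossible. -/
theorem not_forty_five (C : Ctx G) [Fact (Nat.Prime 5)] {M : Ideal Cfsg.AlgInt}
    (hM : Cfsg.IsPModular 5 M) {Q : Sylow 5 G} (hS : BlockThms.OrderP.Setup Q 2)
    (hC : Nat.card (Subgroup.centralizer (Q : Set G)) = 45)
    (h12 : 2 ≤ C.B.D.count 12) : False := by
  classical
  obtain ⟨w0, hw0, hc0⟩ := exists_central_inv C
  obtain ⟨hcount, hfive, hR5⟩ := twelves _ (C.B.mem 0) _ (C.B.mem 1) C.B.sorted.1 _ (C.B.mem 2)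
    C.B.sorted.2.1 _ (C.B.mem 3) C.B.sorted.2.2 C.isPat' (le_add_right h12) (C.any_sols hw0 hc0)
  obtain ⟨t, ht, ht1, hto⟩ := hS.exists_gen
  have ht2 : t ^ 2 ∈ (Q : Subgroup G) := pow_mem ht 2
  have ht21 : t ^ 2 ≠ 1 := fun e => by
    have := orderOf_dvd_of_pow_eq_one e; rw [hto] at this; omega
  -- the inversion
  have hconj : IsConj t (t ^ 4) := by
    obtain ⟨-, y, hy, -, hyC, -⟩ := hS.exists_y
    obtain ⟨r, hr⟩ := BlockThms.OrderP.orderOf_dvd_sub_one hS hy ht ht1
    have hr1 : r % 5 ≠ 1 := fun h => by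
      have hm : y ^ 1 ∈ Subgroup.centralizer (Q : Set G) := by
        rw [pow_one, ← hS.centralizer_eq ht ht1, Subgroup.mem_centralizer_singleton_iff]
        rw [← pow_mod_orderOf t r, hto, h, pow_one] at hr
        exact mul_inv_eq_iff_eq_mul.1 hr
      exact absurd ((hyC 1).1 hm) (by norm_num)
    have h2 : y ^ 2 * t * (y ^ 2)⁻¹ = t := by
      have hm := (hyC 2).2 dvd_rfl
      rw [← hS.centralizer_eq ht ht1, Subgroup.mem_centralizer_singleton_iff] at hm
      rw [hm, mul_inv_cancel_right]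
    rw [show y ^ 2 * t * (y ^ 2)⁻¹ = y * (y * t * y⁻¹) * y⁻¹ by rw [pow_two]; group, hr, ← conj_pow,
      hr, ← pow_mul] at h2
    have h3 : r * r % 5 = 1 := by
      have := (pow_eq_pow_iff_modEq (x := t) (n := r * r) (m := 1)).1 (by rwa [pow_one])
      rw [hto] at this
      exact this
    have h4 : r % 5 = 4 := by
      rw [Nat.mul_mod] at h3
      have := Nat.mod_lt r (show 0 < 5 by norm_num)
      interval_cases h : r % 5 <;> omega
    refine isConj_iff.2 ⟨y, ?_⟩
    rw [hr, ← pow_mod_orderOf t r, hto, h4]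
  have hconj2 : IsConj (t ^ 2) (t ^ 3) := by
    obtain ⟨k, hk⟩ := isConj_iff.1 hconj
    refine isConj_iff.2 ⟨k, ?_⟩
    rw [← conj_pow, hk, ← pow_mul, show t ^ (4 * 2) = t ^ 5 * t ^ 3 by rw [← pow_add],
      show t ^ 5 = 1 by rw [← hto]; exact pow_orderOf_eq_one t, one_mul]
  -- the sums over the two classes
  have hS2 : ∀ χ : Cfsg.IrrCharacter G, ∃ S : ℤ, (χ : G → ℂ) t + (χ : G → ℂ) (t ^ 2) = S := by
    intro χ
    obtain ⟨m, hm⟩ := sum_five (Char.IsIrr.isCharacter χ.2) hto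
    rw [← cf_eq χ hconj2, ← cf_eq χ hconj, value_one] at hm
    obtain ⟨S, hS, -⟩ := half_int (((Char.IsChar.isIntegral (Char.IsIrr.isCharacter χ.2) t)).add
      (Char.IsChar.isIntegral (Char.IsIrr.isCharacter χ.2) (t ^ 2)))
      (a := 5 * (m : ℤ) - dg χ) 2 (by norm_num) (by push_cast; linear_combination hm)
    exact ⟨S, hS⟩
  choose S hS2 using hS2
  have hcard : ∀ g : G, g ∈ (Q : Subgroup G) → g ≠ 1 →
      (Subgroup.centralizer ({g} : Set G)).index = 2112 := fun g hg hg1 => by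
    have h := card_centralizer_mul_index C.order g
    have hc : Nat.card (Subgroup.centralizer ({g} : Set G)) = 45 := by
      rw [hS.centralizer_eq hg hg1, hC]
    rw [hc] at h
    omega
  have e1 := C.coeff t t
  have e2 := C.coeff t (t ^ 2)
  have e3 := C.coeff (t ^ 2) t
  have e4 := C.coeff (t ^ 2) (t ^ 2)
  rw [hcard t ht ht1] at e1 e2 e3
  rw [hcard (t ^ 2) ht2 ht21] at e2 e3 e4
  obtain ⟨N, hN⟩ : ∃ N : ℕ, N = C.pairs t t + C.pairs t (t ^ 2) + C.pairs (t ^ 2) t +
      C.pairs (t ^ 2) (t ^ 2) := ⟨_, rfl⟩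
  have htot : (N : ℂ) * 95040 = 2112 * 2112 * ∑ χ ∈ C.B.members,
      ((χ : G → ℂ) t + (χ : G → ℂ) (t ^ 2)) ^ 2 * conj ((χ : G → ℂ) C.z) / (χ : G → ℂ) 1 := by
    rw [hN]
    push_cast at e1 e2 e3 e4 ⊢
    rw [add_mul, add_mul, add_mul, e1, e2, e3, e4, Finset.mul_sum, Finset.mul_sum, Finset.mul_sum,
      Finset.mul_sum, ← Finset.sum_add_distrib, ← Finset.sum_add_distrib, ← Finset.sum_add_distrib,
      Finset.mul_sum]
    exact Finset.sum_congr rfl fun χ _ => by ring
  -- the terms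
  have hz5 : ∀ (χ : Cfsg.IrrCharacter G), 5 ∣ dg χ →
      (χ : G → ℂ) t + (χ : G → ℂ) (t ^ 2) = 0 := fun χ h => by
    rw [eq_zero_five C.order hM χ h (g := t) (by rw [hto]),
      eq_zero_five C.order hM χ h (g := t ^ 2)
        (by rw [← Nat.card_zpowers, hS.zpowers_eq ht2 ht21, hS.card]), add_zero]
  have hyterm : ∀ j, (C.B.y j : G → ℂ) t + (C.B.y j : G → ℂ) (t ^ 2) = 0 := fun j => hz5 _ (by
    have h : dg (C.B.y j) = (excDeg C.B.D).natAbs := C.B.deg_y j
    simp only [Blk.D] at h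
    omega)
  have hxterm : ∀ i, ((C.B.x i : G → ℂ) t + (C.B.x i : G → ℂ) (t ^ 2)) ^ 2 *
      conj ((C.B.x i : G → ℂ) C.z) / (C.B.x i : G → ℂ) 1 =
      (((if sd (C.B.x i) = 12 then S (C.B.x i) * S (C.B.x i) else 0 : ℤ)) : ℂ) / 12 := by
    intro i
    split_ifs with h
    · have hd : dg (C.B.x i) = 12 := by rw [C.B.dg_x, h]; rfl
      rw [C.x_at_z, value_one, hd, h, hS2]
      norm_num [sgn]
      ring
    · rw [hz5 _ ?_]
      · simp
      · have h5 := hfive (sd (C.B.x i)) (by fin_cases i <;> simp) h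
        rw [C.B.dg_x]
        omega
  rw [C.B.sum_members] at htot
  simp only [triv_apply, map_one, mul_one, div_one, hyterm, hxterm, ne_eq, OfNat.ofNat_ne_zero,
    not_false_eq_true, zero_pow, zero_mul, zero_div, Finset.sum_const_zero, add_zero] at htot
  rw [← Finset.sum_div] at htot
  -- the two squares
  have htwo : ∃ a b : ℤ, ∑ i, (if sd (C.B.x i) = 12 then S (C.B.x i) * S (C.B.x i) else 0) =
      a ^ 2 + b ^ 2 := by
    simp only [List.count_cons, List.count_nil] at hcount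
    simp only [beq_iff_eq] at hcount
    rw [Fin.sum_univ_four]
    by_cases h0 : sd (C.B.x 0) = 12 <;> by_cases h1 : sd (C.B.x 1) = 12 <;>
      by_cases h2 : sd (C.B.x 2) = 12 <;> by_cases h3 : sd (C.B.x 3) = 12 <;>
      simp only [h0, h1, h2, h3, if_true, if_false] at hcount ⊢ <;>
      first
        | omega
        | exact ⟨S (C.B.x 0), S (C.B.x 1), by ring1⟩
        | exact ⟨S (C.B.x 0), S (C.B.x 2), by ring1⟩
        | exact ⟨S (C.B.x 0), S (C.B.x 3), by ring1⟩
        | exact ⟨S (C.B.x 1), S (C.B.x 2), by ring1⟩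
        | exact ⟨S (C.B.x 1), S (C.B.x 3), by ring1⟩
        | exact ⟨S (C.B.x 2), S (C.B.x 3), by ring1⟩
  obtain ⟨a, b, hab⟩ := htwo
  rw [← Int.cast_sum, hab] at htot
  have h5 : ((1140480 * (N : ℤ) : ℤ) : ℂ) = ((4460544 * (48 + a ^ 2 + b ^ 2) : ℤ) : ℂ) := by
    push_cast at htot ⊢
    linear_combination 12 * htot
  have h6 : 1140480 * (N : ℤ) = 4460544 * (48 + a ^ 2 + b ^ 2) := by exact_mod_cast h5
  have h9 : (9 : ℤ) ∣ 48 + a ^ 2 + b ^ 2 := by omega
  have h10 := (ZMod.intCast_zmod_eq_zero_iff_dvd _ 9).2 h9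
  push_cast at h10
  exact no_square_sum _ _ h10

/-- The normalizer of a Sylow 5-subgroup, and the block. -/
theorem five (C : Ctx G) [Fact (Nat.Prime 5)] (Q : Sylow 5 G) :
    BlockThms.OrderP.Setup Q 4 ∧ Nat.card (Subgroup.centralizer (Q : Set G)) = 10 ∧
      C.B.D = patM12 := by
  classical
  have hG := C.order
  obtain ⟨M, hM⟩ := Blocks.exists_isPModular 5 (Fact.out : Nat.Prime 5)
  obtain ⟨e, he⟩ : ∃ e, e = (Subgroup.centralizer (Q : Set G)).relIndex
      (Subgroup.normalizer (Q : Set G)) := ⟨_, rfl⟩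
  have hS : BlockThms.OrderP.Setup Q e := ⟨card_sylow hG 5 (Or.inl rfl) Q, he.symm⟩
  obtain ⟨K, hKC, hCK, hcount⟩ := normalizer_count hG hS
  obtain ⟨t, ht, ht1, hto⟩ := hS.exists_gen
  have hne1 : e ≠ 1 := S4429.e_ne_one hS (by rw [hG]; norm_num)
  have he4 : e ∣ 4 := hS.exists_y.1
  have he24 : e = 2 ∨ e = 4 := by
    have := hS.e_pos
    have := Nat.le_of_dvd (by norm_num) he4
    interval_cases e <;> omega
  have hk : Nat.card (Subgroup.centralizer ({t} : Set G)) = 5 * Nat.card K := by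
    rw [hS.centralizer_eq ht ht1, hCK]
  have hk1728 : Nat.card K ∣ 1728 := by
    have h := C.dvd_regular_card (g := t) (by rw [hto]; norm_num) ht1
    rw [hk] at h
    exact Nat.dvd_of_mul_dvd_mul_left (by norm_num) (h.trans (by norm_num : 8640 ∣ 5 * 1728))
  have hnd : Nat.card (Sylow 5 G) * (e * Nat.card K) = 19008 := by omega
  have hek : ¬ 11 ∣ e * Nat.card K := fun h => by
    rcases (Nat.Prime.dvd_mul (by norm_num : Nat.Prime 11)).1 h with h' | h'
    · rcases he24 with rfl | rfl <;> omega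
    · have := h'.trans hk1728; norm_num at this
  have h11 : 11 ∣ Nat.card (Sylow 5 G) :=
    ((Nat.Prime.dvd_mul (by norm_num : Nat.Prime 11)).1
      (hnd ▸ (by norm_num : 11 ∣ 19008))).resolve_right hek
  obtain ⟨j, hj⟩ := h11
  rw [hj] at hnd
  have hj1728 : j * (e * Nat.card K) = 1728 := by
    rw [mul_assoc] at hnd; omega
  have hj0 : 0 < j := Nat.pos_of_ne_zero fun h0 => by rw [h0, zero_mul] at hj1728; omega
  have hq : 1728 / j = e * Nat.card K :=
    Nat.div_eq_of_eq_mul_left hj0 (by rw [← hj1728]; ring)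
  have hq' : 1728 / j / e = Nat.card K := by
    rw [hq, Nat.mul_div_cancel_left _ hS.e_pos]
  have hmod : 11 * j % 5 = 1 := by rw [← hj, card_sylow_modEq_one 5 G]
  have hcases := five_cases j (Nat.mem_divisors.2 ⟨⟨_, hj1728.symm⟩, by norm_num⟩) hmod e
    (by omega) he24 (by rw [hq', hq])
  rw [hq'] at hcases
  have hpat : 2 ∣ Nat.card K → C.B.D = patM12 := fun h2 => by
    obtain ⟨w, hw⟩ := exists_prime_orderOf_dvd_card' (G := K) 2 (hp := ⟨Nat.prime_two⟩) h2
    exact pattern C hto (w := (w : G)) (by rw [Subgroup.orderOf_coe]; exact hw)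
      (Subgroup.mem_centralizer_iff.1 (hKC w.2) t ht)
  rcases hcases with ⟨rfl, hK⟩ | ⟨rfl, hK⟩
  · -- automizer of order two
    exfalso
    obtain ⟨X, Y, a, s, hdisj, hXc, hYc, hmem, hs, hX, hY, -, hrel⟩ := hS.principal_structure hM
    obtain ⟨htX, hta⟩ := triv_data hG (by norm_num) hM X Y a s hmem
      (by rcases hs with rfl | rfl <;> decide) (fun χ hχ => ⟨(hX χ hχ).1, (hX χ hχ).2.1⟩) hY
    obtain ⟨χ, hχ⟩ := Finset.card_eq_one.1 (show (X.erase (triv G)).card = 1 by
      rw [Finset.card_erase_of_mem htX, hXc])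
    obtain ⟨hχne, hχX⟩ := Finset.mem_erase.1 (hχ.symm ▸ Finset.mem_singleton_self χ :
      χ ∈ X.erase (triv G))
    obtain ⟨θ, θ', hθne, hYeq⟩ := Finset.card_eq_two.1 (show Y.card = 2 by rw [hYc])
    have hθ : θ ∈ Y := by rw [hYeq]; simp
    have hθ' : θ' ∈ Y := by rw [hYeq]; simp
    have hy : ∀ ψ ∈ Y, s * (dg ψ : ℤ) + (1 + a χ * (dg χ : ℤ)) = 0 := by
      intro ψ hψ
      have h1 := hrel ψ hψ 1 (by rw [orderOf_one]; norm_num)
      simp only [value_one] at h1
      have h3 : s * (dg ψ : ℤ) + ∑ φ ∈ X, a φ * (dg φ : ℤ) = 0 := by exact_mod_cast h1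
      rwa [← Finset.add_sum_erase _ _ htX, hχ, Finset.sum_singleton, hta, dg_triv, Nat.cast_one,
        one_mul] at h3
    have h19008 : ∀ ψ : Cfsg.IrrCharacter G, ψ ∈ Cfsg.principalBlock M G → dg ψ ∣ 19008 := fun ψ hψ =>
      (((Fact.out : Nat.Prime 5).coprime_iff_not_dvd.2
        (hS.not_dvd_degree hM hψ)).symm).dvd_of_dvd_mul_left
        (show _ ∣ 5 * 19008 from (deg_facts hG ψ).1)
    have hdχ := h19008 χ ((hmem χ).2 (Or.inl hχX))
    have hdθ := h19008 θ ((hmem θ).2 (Or.inr hθ))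
    have h5θ : ¬ 5 ∣ dg θ := hS.not_dvd_degree hM ((hmem θ).2 (Or.inr hθ))
    have hne1 : dg χ ≠ 1 := fun e => hχne (dg_one hG e)
    have hbd : 1 + dg χ * dg χ + 2 * (dg θ * dg θ) ≤ 95040 := by
      have h1 := Finset.sum_le_univ_sum_of_nonneg (s := X ∪ Y)
        (f := fun φ : Cfsg.IrrCharacter G => (dg φ : ℤ) ^ 2) fun _ => sq_nonneg _
      rw [sum_sq hG, Finset.sum_union hdisj, ← Finset.add_sum_erase _ _ htX, hχ,
        Finset.sum_singleton, hYeq, Finset.sum_pair hθne, dg_triv] at h1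
      have e1 := hy θ hθ
      have e2 := hy θ' hθ'
      have e3 : (dg θ' : ℤ) = dg θ := by rcases hs with rfl | rfl <;> omega
      rw [e3] at h1
      have : ((1 + dg χ * dg χ + 2 * (dg θ * dg θ) : ℕ) : ℤ) ≤ ((95040 : ℕ) : ℤ) := by
        push_cast at h1 ⊢; linarith
      exact_mod_cast this
    obtain ⟨ha, hda, -⟩ := hX χ hχX
    have h4 := Int.ModEq.eq hda
    simp only [dg] at hy hdχ hdθ h5θ hne1 hbd
    have hmod5 : dg χ % 5 = 1 ∨ dg χ % 5 = 4 := by
      simp only [dg]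
      rcases ha with ha | ha <;> rw [ha] at h4 <;> norm_num at h4 <;> omega
    simp only [dg] at hmod5
    obtain ⟨hp1, hp2⟩ := pair_five _ (deg_facts hG χ).2.1 hdχ hmod5 hne1
    simp only [dg] at hp1 hp2
    have hθd : ∀ ψ ∈ Y, dg ψ = 12 ∨ dg ψ = 3 ∨ dg ψ = 8 := by
      intro ψ hψ
      have e1 := hy θ hθ
      have e2 := hy ψ hψ
      simp only [dg]
      rcases ha with ha | ha <;> rw [ha] at h4 e1 e2 <;> norm_num at h4
      · have hθv : Cfsg.charDegree (θ : G → ℂ) = Cfsg.charDegree (χ : G → ℂ) + 1 := by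
          rcases hs with rfl | rfl <;> omega
        rw [hθv] at hdθ h5θ hbd
        have := hp1 (by omega) hdθ (fun h => h5θ (Nat.dvd_of_mod_eq_zero h)) hbd
        rcases hs with rfl | rfl <;> omega
      · have hθv : Cfsg.charDegree (θ : G → ℂ) = Cfsg.charDegree (χ : G → ℂ) - 1 := by
          rcases hs with rfl | rfl <;> omega
        rw [hθv] at hdθ h5θ hbd
        rcases hp2 (by omega) hdθ (fun h => h5θ (Nat.dvd_of_mod_eq_zero h)) hbd with h | h <;>
          rcases hs with rfl | rfl <;> omega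
    -- the exceptional characters lie in the 11-block
    have hin : ∀ ψ ∈ Y, ∃ i, C.B.x i = ψ ∧ sd ψ = 12 := by
      intro ψ hψ
      have hd := hθd ψ hψ
      have hm : ψ ∈ C.B.members := by
        by_contra hm
        have := (C.outside hm).1
        rcases hd with h | h | h <;> rw [h] at this <;> omega
      rcases (C.B.cover ψ).1 ((C.B.mem_members ψ).1 hm) with h | ⟨i, hi⟩ | ⟨j, hj⟩
      · rw [h, dg_triv] at hd; omega
      · refine ⟨i, hi, ?_⟩
        have hm2 := C.B.mem i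
        rw [hi] at hm2
        have hn := sd_natAbs ψ
        simp only [signedDeg, List.mem_cons, List.not_mem_nil, or_false] at hm2
        omega
      · exfalso
        have hR := excDeg_mod C
        have hdy : dg (C.B.y j) = (excDeg C.B.D).natAbs := C.B.deg_y j
        rw [hj] at hdy
        omega
    obtain ⟨i, hi, hi12⟩ := hin θ hθ
    obtain ⟨j', hj', hj12⟩ := hin θ' hθ'
    have hij : i ≠ j' := fun e => hθne (by rw [← hi, ← hj', e])
    rw [← hi] at hi12
    rw [← hj'] at hj12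
    have h12 : 2 ≤ C.B.D.count 12 := by
      simp only [Blk.D, List.count_cons, List.count_nil, beq_iff_eq]
      fin_cases i <;> fin_cases j' <;> simp at hij hi12 hj12 ⊢ <;> simp [hi12, hj12] <;> omega
    rcases hK with hK | hK
    · have hp := hpat hK
      rw [hp] at h12
      exact absurd h12 (by decide)
    · exact not_forty_five C hM hS (by rw [hCK, hK]) h12
  · -- automizer of order four
    obtain ⟨v, hv, hmemT⟩ := colT C hM hS ht ht1
    rw [hk] at hmemT
    by_cases h27 : Nat.card K = 27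
    · exfalso
      rw [h27] at hmemT
      simp only [Blk.D] at hmemT
      rw [show 5 * 27 = 135 from rfl, no_twenty_seven _ (C.B.mem 0) _ (C.B.mem 1) C.B.sorted.1 _
        (C.B.mem 2) C.B.sorted.2.1 _ (C.B.mem 3) C.B.sorted.2.2 C.isPat'] at hmemT
      exact absurd hmemT List.not_mem_nil
    have hp := hpat (by
      simp only [List.mem_cons, List.not_mem_nil, or_false] at hK
      omega)
    refine ⟨hS, ?_, hp⟩
    rw [hp] at hmemT
    simp only [List.mem_cons, List.not_mem_nil, or_false] at hK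
    rcases hK with h | h | h | h | h
    · rw [hCK, h]
    · rw [h, m12_t.1 12 (by simp)] at hmemT; exact absurd hmemT List.not_mem_nil
    · exact absurd h h27
    · rw [h, m12_t.1 72 (by simp)] at hmemT; exact absurd hmemT List.not_mem_nil
    · rw [h, m12_t.1 432 (by simp)] at hmemT; exact absurd hmemT List.not_mem_nil

end Cfsg.Agent.Fg24.M12
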