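import Cfsg.Agent.Fg24.M12.Simplex
import Cfsg.Agent.Char.RealRep
import Mathlib.Analysis.Matrix.Order

/-!
# Orthogonal forms of the characters with indicator one
-/

set_option autoImplicit false

namespace Cfsg.Agent.Fg24.M12

open Matrix
open scoped MatrixOrder ComplexConjugate

universe u

variable {G : Type u} [Group G] [Fintype G]

/-- A real representation in matrix form is conjugate to an orthogonal one. -/
theorem exists_orth {n : ℕ} (A : G →* Matrix (Fin n) (Fin n) ℝ) :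
    ∃ B : ORep G n, ∀ g, (B.toHom g).trace = (A g).trace := by
  classical
  obtain ⟨M, hM⟩ : ∃ M : Matrix (Fin n) (Fin n) ℝ, M = ∑ g : G, (A g)ᵀ * A g := ⟨_, rfl⟩
  have hps : ∀ g, ((A g)ᵀ * A g).PosSemidef := fun g => by
    rw [← Matrix.conjTranspose_eq_transpose_of_trivial]
    exact Matrix.posSemidef_conjTranspose_mul_self _
  have hpd : M.PosDef := by
    rw [hM, ← Finset.add_sum_erase _ _ (Finset.mem_univ (1 : G)), map_one, Matrix.transpose_one,
      Matrix.one_mul]
    exact Matrix.PosDef.one.add_posSemidef (Matrix.posSemidef_sum _ fun g _ => hps g)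
  obtain ⟨C, hCu, hC⟩ := CStarAlgebra.isStrictlyPositive_iff_eq_star_mul_self.mp
    hpd.isStrictlyPositive
  rw [Matrix.star_eq_conjTranspose, Matrix.conjTranspose_eq_transpose_of_trivial] at hC
  obtain ⟨C, rfl⟩ := hCu
  have hinv : ∀ h, (A h)ᵀ * M * A h = M := fun h => by
    rw [hM, Matrix.mul_sum, Matrix.sum_mul]
    refine Fintype.sum_equiv (Equiv.mulRight h) _ _ fun g => ?_
    simp only [Equiv.coe_mulRight, map_mul, Matrix.transpose_mul, Matrix.mul_assoc]
  refine ⟨⟨{ toFun := fun g => (C : Matrix (Fin n) (Fin n) ℝ) * A g * ((C⁻¹ : (Matrix (Fin n) (Fin n) ℝ)ˣ) : Matrix (Fin n) (Fin n) ℝ)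
             map_one' := by simp
             map_mul' := fun g h => by simp [map_mul, Matrix.mul_assoc] }, fun g => ?_⟩,
    fun g => ?_⟩
  · show ((C : Matrix (Fin n) (Fin n) ℝ) * A g * _)ᵀ * ((C : Matrix (Fin n) (Fin n) ℝ) * A g * _) = 1
    set D : Matrix (Fin n) (Fin n) ℝ := ((C⁻¹ : (Matrix (Fin n) (Fin n) ℝ)ˣ) : Matrix (Fin n) (Fin n) ℝ)
    have hDC : (C : Matrix (Fin n) (Fin n) ℝ) * D = 1 := Units.mul_inv C
    calc ((C : Matrix (Fin n) (Fin n) ℝ) * A g * D)ᵀ * ((C : Matrix (Fin n) (Fin n) ℝ) * A g * D)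
        = Dᵀ * ((A g)ᵀ * ((C : Matrix (Fin n) (Fin n) ℝ)ᵀ * C) * A g) * D := by
          simp only [Matrix.transpose_mul, Matrix.mul_assoc]
      _ = Dᵀ * ((C : Matrix (Fin n) (Fin n) ℝ)ᵀ * C) * D := by rw [← hC, hinv]
      _ = 1 := by
          rw [← Matrix.mul_assoc, ← Matrix.transpose_mul, Matrix.mul_assoc, hDC,
            Matrix.transpose_one, Matrix.one_mul]
  · show ((C : Matrix (Fin n) (Fin n) ℝ) * A g * _).trace = _
    rw [Matrix.trace_mul_cycle]
    simp

/-- An orthogonal representation affording a character with indicator one. -/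
theorem exists_orep (χ : Cfsg.IrrCharacter G) {d : ℕ} (hd : (χ : G → ℂ) 1 = d)
    (h : Cfsg.Agent.Char.fsInd (χ : G → ℂ) = 1) :
    ∃ A : ORep G d, ∀ g, ((A.toHom g).trace : ℂ) = (χ : G → ℂ) g := by
  obtain ⟨n, ρ, hρ⟩ := (Cfsg.Agent.Char.fsInd_eq_one_iff χ).1 h
  obtain rfl : n = d := by
    have h1 := hρ 1
    rw [map_one, LinearMap.trace_one, Module.finrank_fin_fun, hd] at h1
    exact_mod_cast h1
  let A : G →* Matrix (Fin n) (Fin n) ℝ :=
    { toFun := fun g => LinearMap.toMatrix' (ρ g)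
      map_one' := by simp [Module.End.one_eq_id]
      map_mul' := fun g g' => by rw [map_mul, LinearMap.toMatrix'_mul] }
  obtain ⟨B, hB⟩ := exists_orth A
  refine ⟨B, fun g => ?_⟩
  rw [hB, ← hρ g, LinearMap.trace_eq_matrix_trace ℝ (Pi.basisFun ℝ (Fin n)),
    LinearMap.toMatrix_eq_toMatrix']
  rfl

/-- The restriction to a subgroup. -/
def ORep.res {n : ℕ} (A : ORep G n) (N : Subgroup G) : ORep N n :=
  ⟨A.toHom.comp N.subtype, fun g => A.orth g⟩

open scoped Classical in
/-- A pointed representation from the sums of a character over the group and a subgroup. -/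
theorem exists_pointed (N : Subgroup G) (χ : Cfsg.IrrCharacter G) {d : ℕ}
    (hd : (χ : G → ℂ) 1 = d) (hd1 : 1 < d) (hfs : Cfsg.Agent.Char.fsInd (χ : G → ℂ) = 1)
    (h0 : ∑ g : G, (χ : G → ℂ) g = 0)
    (h2 : ∑ g : G, (χ : G → ℂ) g ^ 2 = Fintype.card G)
    (hN1 : ∑ g : N, (χ : G → ℂ) g = Fintype.card N)
    (hN2 : ∑ g : N, ((χ : G → ℂ) g ^ 2 + (χ : G → ℂ) ((g : G) * g)) = 4 * Fintype.card N) :
    ∃ D : Pointed N d, ∀ g, ((D.toHom g).trace : ℂ) = (χ : G → ℂ) g := by
  classical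
  obtain ⟨A, hA⟩ := exists_orep χ hd hfs
  have hG : (Fintype.card G : ℝ) ≠ 0 := card_ne
  have hnorm : ∑ g : G, (A.toHom g).trace * (A.toHom g).trace = (Fintype.card G : ℝ) := by
    refine Complex.ofReal_injective ?_
    push_cast
    simp only [hA, ← sq, h2]
  -- the total vanishes
  have htot : ∑ g : G, A.toHom g = 0 := by
    have hfix : ∑ g : G, A.toHom g ∈ fix A A := fun h => by
      rw [Matrix.mul_sum, Matrix.sum_mul]
      refine Fintype.sum_equiv (Equiv.mulLeft h |>.trans (Equiv.mulRight h⁻¹)) _ _ fun g => ?_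
      show _ = A.toHom (h * g * h⁻¹) * A.toHom h
      rw [← map_mul, ← map_mul, inv_mul_cancel_right]
    obtain ⟨c, hc⟩ := scalar_of_fix (A := A) hnorm hfix
    have h3 := congrArg Matrix.trace hc
    rw [Matrix.trace_sum, Matrix.trace_smul, Matrix.trace_one, Fintype.card_fin, smul_eq_mul] at h3
    have h4 : ((∑ g : G, (A.toHom g).trace : ℝ) : ℂ) = ((0 : ℝ) : ℂ) := by
      push_cast
      simp only [hA, h0]
    rw [Complex.ofReal_inj.1 h4, eq_comm, mul_eq_zero] at h3
    rw [hc, h3.resolve_right (by exact_mod_cast (by omega : d ≠ 0)), zero_smul]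
  -- the fixed vector
  obtain ⟨M, hM⟩ : ∃ M : Matrix (Fin d) (Fin d) ℝ, M = ∑ g : N, A.toHom g := ⟨_, rfl⟩
  have hMtr : M.trace = Fintype.card N := by
    have : ((M.trace : ℝ) : ℂ) = ((Fintype.card N : ℝ) : ℂ) := by
      rw [hM, Matrix.trace_sum]
      push_cast
      simp only [hA, hN1]
    exact_mod_cast this
  obtain ⟨y, hy⟩ : ∃ y, M *ᵥ y ≠ 0 := by
    by_contra hall
    push Not at hall
    have : M = 0 := Matrix.toLin'.injective (LinearMap.ext fun y => by simp [hall y])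
    rw [this, Matrix.trace_zero] at hMtr
    exact Fintype.card_ne_zero (α := N) (by exact_mod_cast hMtr.symm)
  obtain ⟨r, hr⟩ : ∃ r : ℝ, r = Real.sqrt ((M *ᵥ y) ⬝ᵥ (M *ᵥ y)) := ⟨_, rfl⟩
  have hnn : 0 ≤ (M *ᵥ y) ⬝ᵥ (M *ᵥ y) := Finset.sum_nonneg fun i _ => mul_self_nonneg _
  have hr0 : r ≠ 0 := by
    rw [hr, Real.sqrt_ne_zero hnn, ne_eq, dotProduct_self_eq_zero]
    exact hy
  obtain ⟨v, hv⟩ : ∃ v : Fin d → ℝ, v = r⁻¹ • (M *ᵥ y) := ⟨_, rfl⟩
  have hvfix : ∀ g ∈ N, A.toHom g *ᵥ v = v := fun g hg => by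
    rw [hv, Matrix.mulVec_smul, mulVec_mulVec, hM, Matrix.mul_sum]
    congr 2
    refine Fintype.sum_equiv (Equiv.mulLeft (⟨g, hg⟩ : N)) _ _ fun k => ?_
    rw [← map_mul]
    rfl
  have hvunit : v ⬝ᵥ v = 1 := by
    rw [hv, smul_dotProduct, dotProduct_smul, smul_smul, smul_eq_mul, ← Real.mul_self_sqrt hnn, ← hr]
    field_simp
  -- the symmetric commutant
  have hsf : Module.finrank ℝ (symFix (A.res N)) = 2 := by
    have h5 := finrank_symFix (A.res N)
    have h6 : ((∑ g : N, 2⁻¹ * (((A.res N).toHom g).trace ^ 2 +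
        ((A.res N).toHom (g * g)).trace) : ℝ) : ℂ) = ((2 * Fintype.card N : ℝ) : ℂ) := by
      push_cast
      rw [← Finset.mul_sum]
      simp only [ORep.res, MonoidHom.coe_comp, Function.comp_apply, hA, Subgroup.coe_subtype,
        Subgroup.coe_mul]
      rw [hN2]
      ring
    rw [Complex.ofReal_inj.1 h6] at h5
    have : (Module.finrank ℝ (symFix (A.res N)) : ℝ) = 2 := by
      rw [h5]
      have : (Fintype.card N : ℝ) ≠ 0 := card_ne
      field_simp
    exact_mod_cast this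
  have hvv : vecMulVec v v ∈ symFix (A.res N) :=
    ⟨fun g => by
      refine Pointed.commute_of_conj (A.orth (g : G)) ?_
      show A.toHom (g : G) * vecMulVec v v * (A.toHom (g : G))ᵀ = _
      rw [Pointed.conj_vecMulVec, hvfix g g.2], Matrix.transpose_vecMulVec v v⟩
  have hone : (1 : Matrix (Fin d) (Fin d) ℝ) ∈ symFix (A.res N) :=
    ⟨fun g => by simp, Matrix.transpose_one⟩
  have hli : LinearIndependent ℝ ![(⟨_, hvv⟩ : symFix (A.res N)), ⟨_, hone⟩] := by
    rw [LinearIndependent.pair_iff]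
    intro a b hab
    have h7 : a • vecMulVec v v + b • (1 : Matrix (Fin d) (Fin d) ℝ) = 0 := congrArg Subtype.val hab
    have h8 := congrArg Matrix.trace h7
    have h9 := congrArg (fun X : Matrix (Fin d) (Fin d) ℝ => v ⬝ᵥ (X *ᵥ v)) h7
    simp only [Matrix.trace_add, Matrix.trace_smul, Pointed.trace_vecMulVec', hvunit,
      Matrix.trace_one, Fintype.card_fin, smul_eq_mul, mul_one, Matrix.trace_zero] at h8
    simp only [Matrix.add_mulVec, smul_mulVec, dotProduct_add, dotProduct_smul,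
      Pointed.quad_vecMulVec, one_mulVec, hvunit, smul_eq_mul, mul_one, zero_mulVec,
      dotProduct_zero] at h9
    have hd2 : (1 : ℝ) < d := by exact_mod_cast hd1
    have hb : b * ((d : ℝ) - 1) = 0 := by linarith
    have hb0 := (mul_eq_zero.1 hb).resolve_right (by linarith)
    exact ⟨by rw [hb0] at h9; linarith, hb0⟩
  have hspan := hli.span_eq_top_of_card_eq_finrank (by rw [hsf]; rfl)
  refine ⟨{ toORep := A, v := v, unit := hvunit, fixed := hvfix, total := htot,
            scalar := fun X hX => scalar_of_fix (A := A) hnorm hX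
            symmetric := fun X hs hX => ?_ }, hA⟩
  have hmem : (⟨X, fun g => hX g g.2, hs⟩ : symFix (A.res N)) ∈
      Submodule.span ℝ (Set.range ![(⟨_, hvv⟩ : symFix (A.res N)), ⟨_, hone⟩]) := by
    rw [hspan]; trivial
  rw [Matrix.range_cons, Matrix.range_cons, Matrix.range_empty, Set.union_empty,
    Set.singleton_union, Submodule.mem_span_pair] at hmem
  obtain ⟨a, b, hab⟩ := hmem
  exact ⟨a, b, (congrArg Subtype.val hab).symm⟩

/-- Orthogonal characters give orthogonal matrix coefficients. -/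
theorem sum_t_mul {d : ℕ} {N : Subgroup G} (D D' : Pointed N d)
    (h : ∑ g : G, (D.toHom g).trace * (D'.toHom g).trace = 0) :
    ∑ g : G, D.t g * D'.t g = 0 := by
  classical
  have hX : ∑ g : G, vecMulVec (D.u g) (D'.u g) ∈ fix D.toORep D'.toORep := fun k => by
    have hc : D.toHom k * (∑ g : G, vecMulVec (D.u g) (D'.u g)) * (D'.toHom k)ᵀ =
        ∑ g : G, vecMulVec (D.u g) (D'.u g) := by
      rw [Matrix.mul_sum, Matrix.sum_mul]
      refine Fintype.sum_equiv (Equiv.mulLeft k) _ _ fun g => ?_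
      rw [Matrix.mul_vecMulVec, Matrix.vecMulVec_mul, Matrix.vecMul_transpose, Equiv.coe_mulLeft,
        D.u_mul, D'.u_mul]
    conv_rhs => rw [← hc, Matrix.mul_assoc, D'.orth, Matrix.mul_one]
  have h0 := congrArg (fun X : Matrix (Fin d) (Fin d) ℝ => D.v ⬝ᵥ (X *ᵥ D'.v))
    (eq_zero_of_fix h hX)
  simp only [Matrix.sum_mulVec, Matrix.vecMulVec_mulVec, op_smul_eq_smul, dotProduct_sum,
    dotProduct_smul, smul_eq_mul, zero_mulVec, dotProduct_zero] at h0
  rw [← h0]
  exact Finset.sum_congr rfl fun g _ => by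
    rw [Pointed.t, Pointed.t, dotProduct_comm (D'.u g)]; ring

end Cfsg.Agent.Fg24.M12
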