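import Cfsg.Agent.Fg24.M12.Degrees
import Cfsg.Agent.Fg24.M12.Realize
import Cfsg.Agent.Char.RealOdd

/-!
# A subgroup of index twelve in a simple group of order 95040
-/

set_option autoImplicit false

namespace Cfsg.Agent.Fg24.M12

open scoped ComplexConjugate
open Cfsg.Agent Cfsg.Agent.Blocks

universe u

variable {G : Type u} [Group G] [Fintype G] [IsSimpleGroup G]

/-- The structure of the normalizer of order 55. -/
theorem normalizer_elt (C : Ctx G) {g : G} (hg : g ∈ Subgroup.normalizer (C.P : Set G)) :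
    g ∈ (C.P : Subgroup G) ∨ orderOf g = 5 := by
  haveI := C.fact
  haveI : Fact (Nat.Prime 5) := ⟨Nat.prime_five⟩
  let N := Subgroup.normalizer (C.P : Set G)
  have hPN : (C.P : Subgroup G) ≤ N := Subgroup.le_normalizer
  have hcard : Nat.card N = 55 := by
    show Nat.card (Subgroup.normalizer (C.P : Set G)) = 55
    rw [C.hS.card_normalizer, C.hC]
  have hn : ((C.P : Subgroup G).subgroupOf N).Normal := Subgroup.normal_in_normalizer
  have hidx : ((C.P : Subgroup G).subgroupOf N).index = 5 := by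
    have h := ((C.P : Subgroup G).subgroupOf N).card_mul_index
    rw [Nat.card_congr (Subgroup.subgroupOfEquivOfLe hPN).toEquiv, hcard, C.hS.card] at h
    omega
  have h5 : g ^ 5 ∈ (C.P : Subgroup G) := by
    have h := Subgroup.pow_index_mem ((C.P : Subgroup G).subgroupOf N) ⟨g, hg⟩
    rw [hidx, Subgroup.mem_subgroupOf] at h
    exact h
  by_cases h1 : g ^ 5 = 1
  · by_cases hg1 : g = 1
    · exact Or.inl (hg1 ▸ Subgroup.one_mem _)
    · exact Or.inr (orderOf_eq_prime h1 hg1)
  · refine Or.inl (C.mem_P_of_commute ?_)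
    have hz : C.z ∈ Subgroup.zpowers (g ^ 5) := by
      rw [C.hS.zpowers_eq h5 h1]; exact C.hz
    obtain ⟨k, hk⟩ := Subgroup.mem_zpowers_iff.1 hz
    rw [← hk]
    exact ((Commute.refl g).pow_right 5).zpow_right k

theorem eq_zero_eleven (C : Ctx G) {χ : Cfsg.IrrCharacter G} (hd : dg χ = 11) {g : G}
    (hg : 11 ∣ orderOf g) : (χ : G → ℂ) g = 0 := by
  haveI := C.fact
  refine BlockThms.eq_zero_of_not_dvd_codegree C.hM χ ?_ ?_
  · rw [C.order, show Cfsg.charDegree (χ : G → ℂ) = 11 from hd]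
    norm_num
  · simpa [Cfsg.IsPRegular] using hg

/-- A character of degree eleven with real values gives a pointed representation. -/
theorem exists_simplex (C : Ctx G) {χ : Cfsg.IrrCharacter G} (hd : dg χ = 11)
    (hr : Char.conjIrr χ = χ) (h5 : ∀ t : G, orderOf t = 5 → (χ : G → ℂ) t = 1) :
    ∃ D : Pointed (Subgroup.normalizer (C.P : Set G)) 11,
      ∀ g, ((D.toHom g).trace : ℂ) = (χ : G → ℂ) g := by
  classical
  haveI := C.fact
  obtain ⟨N, hN⟩ : ∃ N, N = Subgroup.normalizer (C.P : Set G) := ⟨_, rfl⟩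
  rw [← hN]
  have hreal := (Char.conjIrr_eq_iff χ).1 hr
  have hG0 : (Nat.card G : ℂ) ≠ 0 := Char.card_ne_zero
  have hne : (χ : G → ℂ) ≠ fun _ => 1 := ne_triv (by omega)
  have hd1 : (χ : G → ℂ) 1 = (11 : ℕ) := by rw [value_one, hd]
  have hfs : Char.fsInd (χ : G → ℂ) = 1 :=
    Char.fsInd_real_odd χ.2 hreal hd1 (by decide)
  have h0 : ∑ g : G, (χ : G → ℂ) g = 0 := by
    have h := Char.classInner_irr_ne χ.2 Char.isIrrCharacter_one hne
    simpa [Cfsg.classInner, hG0] using h
  have h2 : ∑ g : G, (χ : G → ℂ) g ^ 2 = Fintype.card G := by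
    have h := Char.classInner_irr_self χ.2
    rw [Cfsg.classInner, inv_mul_eq_one₀ hG0] at h
    rw [← Nat.card_eq_fintype_card, h]
    exact Finset.sum_congr rfl fun g _ => by rw [Complex.conj_eq_iff_im.2 (hreal g), sq]
  have hval : ∀ g : N, (χ : G → ℂ) g =
        1 + (if g = 1 then (11 : ℂ) else 0) - (if (g : G) ∈ (C.P : Subgroup G) then 1 else 0) ∧
      (χ : G → ℂ) g ^ 2 + (χ : G → ℂ) ((g : G) * g) =
        2 + (if g = 1 then (132 : ℂ) else 0) - (if (g : G) ∈ (C.P : Subgroup G) then 2 else 0) := by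
    intro g
    by_cases hg1 : g = 1
    · subst hg1
      simp only [OneMemClass.coe_one, mul_one, hd1, if_true, Subgroup.one_mem]
      norm_num
    · have hg1' : (g : G) ≠ 1 := fun e => hg1 (Subtype.ext e)
      rcases normalizer_elt C (by rw [← hN]; exact g.2) with hgP | hg5
      · have ho : orderOf (g : G) = 11 := by
          rw [← Nat.card_zpowers, C.hS.zpowers_eq hgP hg1', C.hS.card]
        have hoo : orderOf ((g : G) * g) = 11 := by
          rw [← pow_two, Nat.Coprime.orderOf_pow (by rw [ho]; norm_num), ho]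
        simp only [if_neg hg1, if_pos hgP, eq_zero_eleven C hd (g := (g : G)) (by rw [ho]),
          eq_zero_eleven C hd (g := (g : G) * g) (by rw [hoo])]
        norm_num
      · have hoo : orderOf ((g : G) * g) = 5 := by
          rw [← pow_two, Nat.Coprime.orderOf_pow (by rw [hg5]; norm_num), hg5]
        have hnP : (g : G) ∉ (C.P : Subgroup G) := fun h => by
          have := Subgroup.orderOf_dvd_natCard _ h
          rw [hg5, C.hS.card] at this
          norm_num at this
        simp only [if_neg hg1, if_neg hnP, h5 _ hg5, h5 _ hoo]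
        norm_num
  have hcN : Fintype.card N = 55 := by
    rw [← Nat.card_eq_fintype_card, hN, C.hS.card_normalizer, C.hC]
  have hcP : (Finset.univ.filter fun g : N => (g : G) ∈ (C.P : Subgroup G)).card = 11 := by
    rw [← Fintype.card_subtype, ← Nat.card_eq_fintype_card,
      show Nat.card {g : N // (g : G) ∈ (C.P : Subgroup G)} =
        Nat.card ((C.P : Subgroup G).subgroupOf N) from rfl,
      Nat.card_congr (Subgroup.subgroupOfEquivOfLe (hN ▸ Subgroup.le_normalizer)).toEquiv,
      C.hS.card]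
  refine exists_pointed N χ hd1 (by norm_num) hfs h0 h2 ?_ ?_
  · rw [Finset.sum_congr rfl fun g _ => (hval g).1, Finset.sum_sub_distrib, Finset.sum_add_distrib,
      Finset.sum_ite_eq' Finset.univ (1 : N), if_pos (Finset.mem_univ _), ← Finset.sum_filter,
      Finset.sum_const, Finset.sum_const, hcP, Finset.card_univ, hcN]
    norm_num
  · rw [Finset.sum_congr rfl fun g _ => (hval g).2, Finset.sum_sub_distrib, Finset.sum_add_distrib,
      Finset.sum_ite_eq' Finset.univ (1 : N), if_pos (Finset.mem_univ _), ← Finset.sum_filter,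
      Finset.sum_const, Finset.sum_const, hcP, Finset.card_univ, hcN]
    norm_num

/-- The symmetric square has a constituent of degree eleven. -/
theorem sym_inner (C : Ctx G) {a b χ : Cfsg.IrrCharacter G} (hd : dg χ = 11)
    (hr : Char.conjIrr χ = χ) (huniq : ∀ ψ : Cfsg.IrrCharacter G, dg ψ = 11 → ψ = a ∨ ψ = b)
    (hlist : ∀ ψ : Cfsg.IrrCharacter G, dg ψ ≤ 65 → dg ψ ∈ [1, 11, 16, 45, 54, 55]) :
    Cfsg.classInner (ConstFour.sym (χ : G → ℂ)) (a : G → ℂ) ≠ 0 ∨
      Cfsg.classInner (ConstFour.sym (χ : G → ℂ)) (b : G → ℂ) ≠ 0 := by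
  classical
  by_contra hcon
  push Not at hcon
  have hreal := (Char.conjIrr_eq_iff χ).1 hr
  obtain ⟨s, hs⟩ : ∃ s, s = ConstFour.sym (χ : G → ℂ) := ⟨_, rfl⟩
  rw [← hs] at hcon
  have hsc : Cfsg.IsCharacter G s := hs ▸ ConstFour.isCharacter_sym (Char.IsIrr.isCharacter χ.2)
  have hd1 : (χ : G → ℂ) 1 = (11 : ℕ) := by rw [value_one, hd]
  have hfs : Char.fsInd (χ : G → ℂ) = 1 :=
    Char.fsInd_real_odd χ.2 hreal hd1 (by decide)
  have hs1 : Cfsg.classInner s ((triv G : Cfsg.IrrCharacter G) : G → ℂ) = 1 := by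
    have h := Char.classInner_irr_self χ.2
    simp only [Cfsg.classInner, fun g => Complex.conj_eq_iff_im.2 (hreal g)] at h
    rw [Char.fsInd] at hfs
    simp only [hs, Cfsg.classInner, ConstFour.sym, triv_apply, map_one, mul_one, ← Finset.sum_div,
      Finset.sum_add_distrib]
    linear_combination h / 2 + hfs / 2
  choose c hc using fun ψ : Cfsg.IrrCharacter G =>
    Char.classInner_isCharacter_eq_natCast hsc (Char.IsIrr.isCharacter ψ.2)
  have hct : c (triv G) = 1 := by
    have := (hc (triv G)).symm.trans hs1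
    exact_mod_cast this
  have htot : ∑ ψ, c ψ * dg ψ = 66 := by
    have h := congrFun (Char.classFun_expansion (Char.isClassFunction_of_isCharacter hsc)) 1
    simp only [Finset.sum_apply, Pi.smul_apply, smul_eq_mul, hc, value_one] at h
    have h1 : s 1 = 66 := by
      simp only [hs, ConstFour.sym, mul_one, hd1]; norm_num
    rw [h1] at h
    exact_mod_cast h.symm
  rw [← Finset.add_sum_erase _ _ (Finset.mem_univ (triv G)), hct, dg_triv, one_mul] at htot
  have hmap : ∀ ψ ∈ (Finset.univ.erase (triv G)).filter (fun ψ => c ψ * dg ψ ≠ 0),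
      dg ψ ∈ ({16, 45, 54, 55} : Finset ℕ) := by
    intro ψ hψ
    obtain ⟨h1, h2⟩ := Finset.mem_filter.1 hψ
    have hle := Finset.single_le_sum (f := fun ψ => c ψ * dg ψ) (fun _ _ => Nat.zero_le _) h1
    have hcpos : 1 ≤ c ψ := Nat.pos_of_ne_zero (left_ne_zero_of_mul h2)
    have hdle : dg ψ ≤ c ψ * dg ψ := Nat.le_mul_of_pos_left _ hcpos
    have hm := hlist ψ (by omega)
    simp only [List.mem_cons, List.not_mem_nil, or_false] at hm
    simp only [Finset.mem_insert, Finset.mem_singleton]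
    have h11 : dg ψ ≠ 11 := fun e => by
      rcases huniq ψ e with rfl | rfl
      · have := (hc ψ).symm.trans hcon.1
        norm_cast at this; omega
      · have := (hc ψ).symm.trans hcon.2
        norm_cast at this; omega
    have h1' : dg ψ ≠ 1 := fun e => (Finset.mem_erase.1 h1).1 (dg_one C.order e)
    omega
  have h65 : ∑ ψ ∈ (Finset.univ.erase (triv G)).filter (fun ψ => c ψ * dg ψ ≠ 0), c ψ * dg ψ = 65 := by
    rw [Finset.sum_filter_ne_zero]; omega
  rw [← Finset.sum_fiberwise_of_maps_to hmap] at h65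
  obtain ⟨W, hW⟩ : ∃ W : ℕ → ℕ, ∀ m, ∑ ψ ∈ ((Finset.univ.erase (triv G)).filter
      (fun ψ => c ψ * dg ψ ≠ 0)).filter (fun ψ => dg ψ = m), c ψ * dg ψ = m * W m :=
    ⟨fun m => ∑ ψ ∈ ((Finset.univ.erase (triv G)).filter
      (fun ψ => c ψ * dg ψ ≠ 0)).filter (fun ψ => dg ψ = m), c ψ, fun m => by
        rw [Finset.mul_sum]
        exact Finset.sum_congr rfl fun ψ hψ => by rw [(Finset.mem_filter.1 hψ).2, mul_comm]⟩
  simp only [hW] at h65
  norm_num at h65
  rcases Nat.le_one_iff_eq_zero_or_eq_one.1 (show W 45 ≤ 1 by omega) with e1 | e1 <;>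
    rcases Nat.le_one_iff_eq_zero_or_eq_one.1 (show W 54 ≤ 1 by omega) with e2 | e2 <;>
    rcases Nat.le_one_iff_eq_zero_or_eq_one.1 (show W 55 ≤ 1 by omega) with e3 | e3 <;> omega

/-- A simple group of order 95040 has a subgroup of index twelve. -/
theorem exists_index_twelve (hG : Nat.card G = 95040) : ∃ H : Subgroup G, H.index = 12 := by
  classical
  obtain ⟨C⟩ := exists_ctx hG
  haveI : Fact (Nat.Prime 5) := ⟨Nat.prime_five⟩
  obtain ⟨t, ht⟩ := exists_prime_orderOf_dvd_card' (G := G) 5 (by rw [hG]; norm_num)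
  obtain ⟨a, b, hab, hda, hdb, huniq, hra, hrb, hlist, -, -⟩ := degrees C ht
  have h5 : ∀ χ : Cfsg.IrrCharacter G, dg χ = 11 → ∀ u : G, orderOf u = 5 → (χ : G → ℂ) u = 1 := by
    intro χ hd u hu
    obtain ⟨a', b', -, -, -, huniq', -, -, -, ha', hb'⟩ := degrees C hu
    rcases huniq' χ hd with rfl | rfl
    · exact ha'
    · exact hb'
  obtain ⟨A, hA⟩ := exists_simplex C hda hra (h5 a hda)
  obtain ⟨B, hB⟩ := exists_simplex C hdb hrb (h5 b hdb)
  have hcub : ∀ (D D' : Pointed (Subgroup.normalizer (C.P : Set G)) 11) (χ ψ : Cfsg.IrrCharacter G),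
      (∀ g, ((D.toHom g).trace : ℂ) = (χ : G → ℂ) g) →
      (∀ g, ((D'.toHom g).trace : ℂ) = (ψ : G → ℂ) g) → Pointed.moment D D' = 0 →
      Cfsg.classInner (ConstFour.sym (χ : G → ℂ)) (ψ : G → ℂ) = 0 := by
    intro D D' χ ψ hD hD' hm
    have h := Pointed.cubic_zero D D' (by norm_num) hm
    have h' := congrArg (fun r : ℝ => (r : ℂ)) h
    push_cast at h'
    simp only [Cfsg.classInner, ConstFour.sym]
    simp only [← hD, ← hD', Complex.conj_ofReal]
    rw [Finset.sum_congr rfl (g := fun g => (2 : ℂ)⁻¹ * ((((D.toHom g).trace : ℂ) ^ 2 +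
      ((D.toHom (g * g)).trace : ℂ)) * ((D'.toHom g).trace : ℂ))) fun g _ => by ring,
      ← Finset.mul_sum, h', mul_zero, mul_zero]
  by_cases hAA : Pointed.moment A A = 0
  swap
  · exact ⟨A.stab, A.index_stab (by norm_num) hAA⟩
  by_cases hBB : Pointed.moment B B = 0
  swap
  · exact ⟨B.stab, B.index_stab (by norm_num) hBB⟩
  exfalso
  refine Pointed.not_mutual A B (by norm_num) ?_ hAA hBB (fun h => ?_) (fun h => ?_)
  · refine sum_t_mul A B (Complex.ofReal_injective ?_)
    push_cast
    simp only [hA, hB]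
    have h := Char.classInner_irr_ne a.2 b.2 fun e => hab (Subtype.ext e)
    have hreal := (Char.conjIrr_eq_iff b).1 hrb
    simpa [Cfsg.classInner, fun g => Complex.conj_eq_iff_im.2 (hreal g)] using h
  · rcases sym_inner C hda hra huniq hlist with h1 | h1
    · exact h1 (hcub A A a a hA hA hAA)
    · exact h1 (hcub A B a b hA hB h)
  · rcases sym_inner C hdb hrb huniq hlist with h1 | h1
    · exact h1 (hcub B A b a hB hA h)
    · exact h1 (hcub B B b b hB hB hBB)

end Cfsg.Agent.Fg24.M12
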