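import Cfsg.Agent.Fg24.M12.Eleven
import Cfsg.Agent.SmallOrder.Elements

/-!
# Groups of order 95040 with the numbers of elements of each order of the Mathieu group of degree
twelve
-/

set_option autoImplicit false

namespace Cfsg.Agent.Fg24.M12

open Cfsg.Agent

universe u

local instance fact_eleven_nse : Fact (Nat.Prime 11) := ⟨by norm_num⟩

variable {G : Type u} [Group G] [Finite G]

theorem sylow_eleven (hG : Nat.card G = 95040) (P : Sylow 11 G) :
    Nat.card (P : Subgroup G) = 11 := by
  rw [P.card_eq_multiplicity, hG, show (95040 : ℕ) = 11 * 8640 by norm_num,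
    Nat.factorization_mul (by norm_num) (by norm_num), Finsupp.add_apply,
    Nat.Prime.factorization_self (by norm_num),
    Nat.factorization_eq_zero_of_not_dvd (by norm_num)]
  norm_num

theorem exists_zpowers (hG : Nat.card G = 95040) {g : G} (hg : orderOf g = 11) :
    ∃ P : Sylow 11 G, (P : Subgroup G) = Subgroup.zpowers g := by
  obtain ⟨P, hP⟩ := (IsPGroup.of_card (p := 11) (n := 1)
    (by rw [Nat.card_zpowers, hg, pow_one]) : IsPGroup 11 (Subgroup.zpowers g)).exists_le_sylow
  exact ⟨P, (Subgroup.eq_of_le_of_card_ge hP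
    (by rw [Nat.card_zpowers, hg, sylow_eleven hG P])).symm⟩

theorem count_eleven_eq (hG : Nat.card G = 95040) :
    Nat.card {g : G // orderOf g = 11} = Nat.card (Sylow 11 G) * 10 :=
  SmallOrder.card_orderOf_eq_mul (sylow_eleven hG)

/-- Modulo eleven only the elements centralizing an element of order eleven count. -/
theorem count_mod {g : G} (hg : orderOf g = 11) (n : ℕ) :
    Nat.card {x : G // orderOf x = n} ≡
      Nat.card {x : Subgroup.centralizer ({g} : Set G) // orderOf x = n} [MOD 11] := by
  classical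
  letI := Fintype.ofFinite G
  let σ : Equiv.Perm {x : G // orderOf x = n} :=
    Equiv.subtypeEquiv (MulAut.conj g).toEquiv fun x => by
      show orderOf x = n ↔ orderOf (MulAut.conj g x) = n
      rw [MulEquiv.orderOf_eq]
  have hpow : ∀ (j : ℕ) (x : {x : G // orderOf x = n}),
      ((σ ^ j) x : G) = g ^ j * x * (g ^ j)⁻¹ := by
    intro j
    induction j with
    | zero => intro x; simp
    | succ j ih =>
      intro x
      rw [pow_succ', Equiv.Perm.mul_apply]
      show g * ((σ ^ j) x : G) * g⁻¹ = _
      rw [ih, pow_succ']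
      group
  have hσ : σ ^ 11 ^ 1 = 1 := Equiv.ext fun x => Subtype.ext (by
    rw [hpow, pow_one, ← hg, pow_orderOf_eq_one]; simp)
  have hmod := Equiv.Perm.card_compl_support_modEq hσ
  rw [← Nat.card_eq_fintype_card] at hmod
  refine hmod.symm.trans ?_
  rw [← Fintype.card_coe, ← Nat.card_eq_fintype_card]
  refine congrArg (· % 11) (Nat.card_congr ?_)
  exact {
    toFun := fun x => ⟨⟨(x.1 : G), Subgroup.mem_centralizer_singleton_iff.2 (mul_inv_eq_iff_eq_mul.1
      (congrArg Subtype.val (Equiv.Perm.notMem_support.1 (Finset.mem_compl.1 x.2)))).symm⟩,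
      by rw [Subgroup.orderOf_mk]; exact x.1.2⟩
    invFun := fun x => ⟨⟨(x.1 : G), by rw [Subgroup.orderOf_coe]; exact x.2⟩,
      Finset.mem_compl.2 (Equiv.Perm.notMem_support.2 (Subtype.ext (by
        show g * (x.1 : G) * g⁻¹ = x.1
        rw [← Subgroup.mem_centralizer_singleton_iff.1 x.1.2, mul_inv_cancel_right])))⟩
    left_inv := fun x => rfl
    right_inv := fun x => rfl }

/-- With self-centralizing Sylow subgroups of order eleven the counts are divisible by eleven. -/
theorem count_cases_of_centralizer (hG : Nat.card G = 95040)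
    (hC : ∀ g : G, orderOf g = 11 → Nat.card (Subgroup.centralizer ({g} : Set G)) = 11) (n : ℕ)
    (hn1 : n ≠ 1) (hn11 : n ≠ 11) : 11 ∣ Nat.card {x : G // orderOf x = n} := by
  obtain ⟨g, hg⟩ := exists_prime_orderOf_dvd_card' (G := G) 11 (by rw [hG]; norm_num)
  have h := count_mod hg n
  have h0 : IsEmpty {x : Subgroup.centralizer ({g} : Set G) // orderOf x = n} := ⟨fun x => by
    have hd := orderOf_dvd_natCard x.1
    rw [x.2, hC g hg] at hd
    rcases (Nat.dvd_prime (by norm_num : Nat.Prime 11)).1 hd with h | h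
    · exact hn1 h
    · exact hn11 h⟩
  rw [Nat.card_of_isEmpty (α := {x : Subgroup.centralizer ({g} : Set G) // orderOf x = n})] at h
  exact Nat.modEq_zero_iff_dvd.1 h

/-- The counts in a simple group of order 95040. -/
theorem count_cases [Fintype G] [IsSimpleGroup G] (hG : Nat.card G = 95040) (n : ℕ) :
    Nat.card {x : G // orderOf x = n} = 1 ∨ Nat.card {x : G // orderOf x = n} = 17280 ∨
      11 ∣ Nat.card {x : G // orderOf x = n} := by
  by_cases h1 : n = 1
  · left
    subst h1
    rw [Nat.card_congr (Equiv.subtypeEquivRight fun x : G => orderOf_eq_one_iff)]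
    simp
  by_cases h11 : n = 11
  · right; left
    subst h11
    obtain ⟨P⟩ : Nonempty (Sylow 11 G) := inferInstance
    rw [count_eleven_eq hG, (eleven hG P).2.2]
  refine Or.inr (Or.inr (count_cases_of_centralizer hG (fun g hg => ?_) n h1 h11))
  obtain ⟨P, hP⟩ := exists_zpowers hG hg
  obtain ⟨hS, hC, -⟩ := eleven hG P
  rw [hS.centralizer_eq (hP ▸ Subgroup.mem_zpowers g) (fun e => by
    rw [e, orderOf_one] at hg; omega)]
  exact hC

/-- The structure of the Sylow subgroups of order eleven from the counts. -/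
theorem eleven_of_counts (hG : Nat.card G = 95040)
    (hc : ∀ n, Nat.card {x : G // orderOf x = n} = 0 ∨ Nat.card {x : G // orderOf x = n} = 1 ∨
      Nat.card {x : G // orderOf x = n} = 17280 ∨ 11 ∣ Nat.card {x : G // orderOf x = n}) :
    Nat.card (Sylow 11 G) = 1728 ∧
      ∀ g : G, orderOf g = 11 → Nat.card (Subgroup.centralizer ({g} : Set G)) = 11 := by
  classical
  have hmod : Nat.card (Sylow 11 G) % 11 = 1 := by
    rw [card_sylow_modEq_one 11 G]
  have hn : Nat.card (Sylow 11 G) = 1728 := by
    have := hc 11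
    rw [count_eleven_eq hG] at this
    omega
  refine ⟨hn, fun g hg => ?_⟩
  obtain ⟨P, hP⟩ := exists_zpowers hG hg
  have hN : Nat.card (Subgroup.normalizer ((Subgroup.zpowers g : Subgroup G) : Set G)) = 55 := by
    have h := Subgroup.card_mul_index
      (Subgroup.normalizer ((Subgroup.zpowers g : Subgroup G) : Set G))
    rw [hG, ← hP, show (Subgroup.normalizer ((P : Subgroup G) : Set G)).index = 1728 from
      (Sylow.card_eq_index_normalizer P).symm.trans hn] at h
    rw [← hP]
    omega
  have hle : Subgroup.centralizer ({g} : Set G) ≤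
      Subgroup.normalizer ((Subgroup.zpowers g : Subgroup G) : Set G) := by
    rw [← Subgroup.centralizer_closure, ← Subgroup.zpowers_eq_closure]
    exact Subgroup.centralizer_le_normalizer _
  have hd := hN ▸ Subgroup.card_dvd_of_le hle
  have hgC : g ∈ Subgroup.centralizer ({g} : Set G) :=
    Subgroup.mem_centralizer_singleton_iff.2 rfl
  have hd' : 11 ∣ Nat.card (Subgroup.centralizer ({g} : Set G)) :=
    hg ▸ Subgroup.orderOf_dvd_natCard _ hgC
  have hne : Nat.card (Subgroup.centralizer ({g} : Set G)) ≠ 55 := by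
    intro h55
    haveI : Fact (Nat.Prime 5) := ⟨by norm_num⟩
    obtain ⟨a, ha⟩ := exists_prime_orderOf_dvd_card' (G := Subgroup.centralizer ({g} : Set G)) 5
      (by rw [h55]; norm_num)
    have hcomm : Commute a ⟨g, hgC⟩ := Subtype.ext (Subgroup.mem_centralizer_singleton_iff.1 a.2)
    haveI hcyc : IsCyclic (Subgroup.centralizer ({g} : Set G)) :=
      isCyclic_of_orderOf_eq_card (a * ⟨g, hgC⟩) (by
        rw [hcomm.orderOf_mul_eq_mul_orderOf_of_coprime (by rw [ha, Subgroup.orderOf_mk, hg]; norm_num),
          ha, Subgroup.orderOf_mk, hg, h55])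
    letI := Fintype.ofFinite (Subgroup.centralizer ({g} : Set G))
    have h40 : Nat.card {x : Subgroup.centralizer ({g} : Set G) // orderOf x = 55} = 40 := by
      rw [Nat.card_eq_fintype_card, Fintype.card_subtype, IsCyclic.card_orderOf_eq_totient (by
        rw [← Nat.card_eq_fintype_card, h55])]
      decide +kernel
    have h := count_mod hg 55
    rw [h40, Nat.ModEq] at h
    have := hc 55
    omega
  have hdiv : ∀ c, c < 56 → c ∣ 55 → 11 ∣ c → c ≠ 55 → c = 11 := by decide +kernel
  exact hdiv _ (Nat.lt_succ_of_le (Nat.le_of_dvd (by norm_num) hd)) hd hd' hne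

/-- A normal subgroup of order prime to eleven is trivial. -/
theorem normal_regular (hG : Nat.card G = 95040)
    (hC : ∀ g : G, orderOf g = 11 → Nat.card (Subgroup.centralizer ({g} : Set G)) = 11)
    (K : Subgroup G) (hK : K.Normal) (h11K : ¬ 11 ∣ Nat.card K) : K = ⊥ := by
  classical
  letI := Fintype.ofFinite G
  by_contra hne
  obtain ⟨q, hq, hqd⟩ := Nat.exists_prime_and_dvd
    (fun h => hne (Subgroup.eq_bot_of_card_eq _ h) : Nat.card K ≠ 1)
  haveI : Fact q.Prime := ⟨hq⟩
  obtain ⟨Q⟩ : Nonempty (Sylow q K) := inferInstance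
  obtain ⟨A, hA⟩ : ∃ A, A = Subgroup.normalizer
      (((Q : Subgroup K).map K.subtype : Subgroup G) : Set G) := ⟨_, rfl⟩
  have hF : A ⊔ K = ⊤ := hA ▸ Sylow.normalizer_sup_eq_top Q
  have hidx : K.index ∣ Nat.card A := by
    have h := Subgroup.relIndex_sup_right (H := A) (K := K)
    rw [hF, Subgroup.relIndex_top_right] at h
    rw [h]
    exact Subgroup.relIndex_dvd_card K A
  have h11A : 11 ∣ Nat.card A := by
    refine dvd_trans ?_ hidx
    have h := Subgroup.card_mul_index K
    rw [hG] at h
    exact ((Nat.Prime.dvd_mul (by norm_num)).1 ⟨8640, h⟩).resolve_left h11K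
  obtain ⟨⟨g, hgA⟩, hg⟩ := exists_prime_orderOf_dvd_card' 11 h11A
  replace hg : orderOf g = 11 := (Subgroup.orderOf_coe ⟨g, hgA⟩).trans hg
  -- `g` acts on the Sylow subgroup without fixed points
  obtain ⟨R, hR⟩ : ∃ R, R = (Q : Subgroup K).map K.subtype := ⟨_, rfl⟩
  rw [← hR] at hA
  have hmem : ∀ x : R, g * x * g⁻¹ ∈ R := fun x =>
    (Subgroup.mem_normalizer_iff.1 (show g ∈ Subgroup.normalizer (R : Set G) from hA ▸ hgA) x).1 x.2
  let f : R → R := fun x => ⟨g * x * g⁻¹, hmem x⟩
  have hf : Function.Injective f := fun a b h =>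
    Subtype.ext (mul_left_cancel (mul_right_cancel (congrArg Subtype.val h)))
  let σ : Equiv.Perm R := Equiv.ofBijective f ⟨hf, Finite.surjective_of_injective hf⟩
  have hpow : ∀ (j : ℕ) (x : R), ((σ ^ j) x : G) = g ^ j * x * (g ^ j)⁻¹ := by
    intro j
    induction j with
    | zero => intro x; simp
    | succ j ih =>
      intro x
      rw [pow_succ', Equiv.Perm.mul_apply]
      show g * ((σ ^ j) x : G) * g⁻¹ = _
      rw [ih, pow_succ']
      group
  have hσ : σ ^ 11 ^ 1 = 1 := Equiv.ext fun x => Subtype.ext (by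
    rw [hpow, pow_one, ← hg, pow_orderOf_eq_one]; simp)
  have hfix : σ.supportᶜ = {1} := by
    ext x
    rw [Finset.mem_compl, Equiv.Perm.notMem_support, Finset.mem_singleton]
    refine ⟨fun h => ?_, fun h => Subtype.ext ?_⟩
    · have hxC : (x : G) ∈ Subgroup.centralizer ({g} : Set G) :=
        Subgroup.mem_centralizer_singleton_iff.2
          (mul_inv_eq_iff_eq_mul.1 (congrArg Subtype.val h)).symm
      have h1 := Subgroup.orderOf_dvd_natCard _ hxC
      have hxK : (x : G) ∈ K := (hR.le.trans (Subgroup.map_subtype_le _)) x.2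
      have h2 := Subgroup.orderOf_dvd_natCard _ hxK
      rw [hC g hg] at h1
      rcases (Nat.dvd_prime (by norm_num : Nat.Prime 11)).1 h1 with h1 | h1
      · exact Subtype.ext (orderOf_eq_one_iff.1 h1)
      · exact absurd (h1 ▸ h2) h11K
    · subst h
      show g * ((1 : R) : G) * g⁻¹ = 1
      simp
  have hmod := Equiv.Perm.card_compl_support_modEq hσ
  rw [hfix, Finset.card_singleton, ← Nat.card_eq_fintype_card, hR,
    Subgroup.card_map_of_injective Subtype.coe_injective] at hmod
  obtain ⟨n, hn⟩ := Q.isPGroup'.exists_card_eq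
  have hqQ : q ∣ q ^ n := hn ▸ Q.dvd_card_of_dvd_card hqd
  have hd : q ^ n ∣ 8640 := by
    have h1 : Nat.card (Q : Subgroup K) ∣ 95040 :=
      hG ▸ (Subgroup.card_subgroup_dvd_card _).trans (Subgroup.card_subgroup_dvd_card K)
    rw [hn] at h1
    have hco : Nat.Coprime (q ^ n) 11 := by
      refine Nat.Coprime.pow_left n ((Nat.coprime_primes hq (by norm_num)).2 fun h => h11K ?_)
      rwa [h] at hqd
    exact hco.dvd_of_dvd_mul_left (show q ^ n ∣ 11 * 8640 from h1)
  rw [hn] at hmod
  have hn0 : n ≠ 0 := by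
    rintro rfl
    rw [pow_zero, Nat.dvd_one] at hqQ
    exact hq.ne_one hqQ
  have h8640 : q ∣ 2 ^ 6 * 3 ^ 3 * 5 := (dvd_pow_self q hn0).trans hd
  rcases (Nat.Prime.dvd_mul hq).1 h8640 with h | h
  swap
  · obtain rfl := (Nat.prime_dvd_prime_iff_eq hq (by norm_num)).1 h
    have hle : n ≤ 1 := by
      by_contra h2
      push Not at h2
      have := (pow_dvd_pow 5 h2).trans hd
      norm_num at this
    interval_cases n <;> simp_all [Nat.ModEq]
  rcases (Nat.Prime.dvd_mul hq).1 h with h | h
  · obtain rfl := (Nat.prime_dvd_prime_iff_eq hq Nat.prime_two).1 (hq.dvd_of_dvd_pow h)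
    have hle : n ≤ 6 := by
      by_contra h2
      push Not at h2
      have := (pow_dvd_pow 2 h2).trans hd
      norm_num at this
    interval_cases n <;> simp_all [Nat.ModEq]
  · obtain rfl := (Nat.prime_dvd_prime_iff_eq hq Nat.prime_three).1 (hq.dvd_of_dvd_pow h)
    have hle : n ≤ 3 := by
      by_contra h2
      push Not at h2
      have := (pow_dvd_pow 3 h2).trans hd
      norm_num at this
    interval_cases n <;> simp_all [Nat.ModEq]

theorem simple_of_counts (hG : Nat.card G = 95040)
    (hc : ∀ n, Nat.card {x : G // orderOf x = n} = 0 ∨ Nat.card {x : G // orderOf x = n} = 1 ∨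
      Nat.card {x : G // orderOf x = n} = 17280 ∨ 11 ∣ Nat.card {x : G // orderOf x = n}) :
    IsSimpleGroup G := by
  classical
  obtain ⟨h11, hC⟩ := eleven_of_counts hG hc
  haveI : Nontrivial G := Finite.one_lt_card_iff_nontrivial.1 (by rw [hG]; norm_num)
  refine ⟨fun N hN => ?_⟩
  by_cases h11N : 11 ∣ Nat.card N
  swap
  · exact Or.inl (normal_regular hG hC N hN h11N)
  refine Or.inr ?_
  obtain ⟨⟨g₀, hg₀N⟩, hg₀⟩ := exists_prime_orderOf_dvd_card' 11 h11N
  replace hg₀ : orderOf g₀ = 11 := (Subgroup.orderOf_coe ⟨g₀, hg₀N⟩).trans hg₀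
  obtain ⟨P, hP⟩ := exists_zpowers hG hg₀
  have hall : ∀ g : G, orderOf g = 11 → g ∈ N := fun g hg => by
    obtain ⟨P', hP'⟩ := exists_zpowers hG hg
    obtain ⟨a, ha⟩ := MulAction.exists_smul_eq G P P'
    have hgP : g ∈ (P' : Subgroup G) := hP' ▸ Subgroup.mem_zpowers g
    rw [← ha, Sylow.coe_subgroup_smul] at hgP
    obtain ⟨y, hy, rfl⟩ := hgP
    exact hN.conj_mem y (Subgroup.zpowers_le.2 hg₀N (hP ▸ hy)) a
  have hbig : 17281 ≤ Nat.card N := by
    let F : Option {g : G // orderOf g = 11} → N := fun o =>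
      o.elim 1 fun g => ⟨g.1, hall g.1 g.2⟩
    have hF : Function.Injective F := by
      have hne : ∀ g : {g : G // orderOf g = 11}, g.1 ≠ 1 := fun g h => by
        have := g.2
        rw [h, orderOf_one] at this
        omega
      rintro (_ | a) (_ | b) h <;> simp only [F, Option.elim] at h
      · rfl
      · exact absurd (congrArg Subtype.val h).symm (hne b)
      · exact absurd (congrArg Subtype.val h) (hne a)
      · exact congrArg some (Subtype.ext (congrArg Subtype.val h :))
    have := Nat.card_le_card_of_injective F hF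
    rwa [Finite.card_option, count_eleven_eq hG, h11] at this
  have hmul := Subgroup.card_mul_index N
  rw [hG] at hmul
  obtain ⟨A, hA⟩ : ∃ A, A = Subgroup.normalizer ((P : Subgroup G) : Set G) := ⟨_, rfl⟩
  have hle : (P : Subgroup G) ≤ N := hP ▸ Subgroup.zpowers_le.2 hg₀N
  have hN55 : Nat.card A = 55 := by
    have h := Subgroup.card_mul_index A
    rw [hG, hA, show (Subgroup.normalizer ((P : Subgroup G) : Set G)).index = 1728 from
      (Sylow.card_eq_index_normalizer P).symm.trans h11] at h
    rw [hA]; omega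
  have hmap : ((P.subtype hle : Subgroup N)).map N.subtype = (P : Subgroup G) := by
    rw [Sylow.coe_subtype, Subgroup.subgroupOf,
      Subgroup.map_comap_eq_self (by rwa [Subgroup.range_subtype])]
  have hF : A ⊔ N = ⊤ := by
    rw [hA, ← hmap]; exact Sylow.normalizer_sup_eq_top (P.subtype hle)
  have hidx : N.index ∣ 55 := by
    have h := Subgroup.relIndex_sup_right (H := A) (K := N)
    rw [hF, Subgroup.relIndex_top_right] at h
    rw [h, ← hN55]
    exact Subgroup.relIndex_dvd_card N A
  have hle5 : N.index ≤ 5 := by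
    by_contra h
    push Not at h
    nlinarith
  rcases (show N.index = 1 ∨ N.index = 5 by
    have : ∀ i, i ≤ 5 → i ∣ 55 → i = 1 ∨ i = 5 := by decide +kernel
    exact this _ hle5 hidx) with h1 | h1
  · exact Subgroup.index_eq_one.1 h1
  exfalso
  rw [h1] at hmul
  have hNc : Nat.card N = 19008 := by omega
  have hPN : Nat.card (P.subtype hle : Subgroup N) = 11 := by
    rw [Sylow.coe_subtype, Nat.card_congr (Subgroup.subgroupOfEquivOfLe hle).toEquiv,
      sylow_eleven hG]
  have hnorm : Subgroup.normalizer ((P.subtype hle : Subgroup N) : Set N) =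
      (P.subtype hle : Subgroup N) := by
    refine (Subgroup.eq_of_le_of_card_ge Subgroup.le_normalizer ?_).symm
    have hd1 := Subgroup.card_subgroup_dvd_card
      (Subgroup.normalizer ((P.subtype hle : Subgroup N) : Set N))
    rw [hNc] at hd1
    have hd2 : Nat.card (Subgroup.normalizer ((P.subtype hle : Subgroup N) : Set N)) ∣ 55 := by
      rw [Sylow.coe_subtype, ← Subgroup.subgroupOf_normalizer_eq hle, ← hN55, hA,
        ← Subgroup.card_map_of_injective N.subtype_injective]
      exact Subgroup.card_dvd_of_le (Subgroup.map_comap_le _ _)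
    rw [hPN]
    have := Nat.le_of_dvd (by norm_num) (Nat.dvd_gcd hd1 hd2)
    simpa using this
  have hcen : Subgroup.normalizer ((P.subtype hle : Subgroup N) : Set N) ≤
      Subgroup.centralizer ((P.subtype hle : Subgroup N) : Set N) := by
    rw [hnorm]
    haveI : IsCyclic (P.subtype hle : Subgroup N) := isCyclic_of_prime_card hPN
    intro a ha
    refine Subgroup.mem_centralizer_iff.2 fun b hb => ?_
    exact congrArg Subtype.val (mul_comm' (⟨b, hb⟩ : (P.subtype hle : Subgroup N)) ⟨a, ha⟩)
  have hc' := MonoidHom.ker_transferSylow_isComplement' (P.subtype hle) hcen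
  obtain ⟨K, hK⟩ : ∃ K, K = (MonoidHom.transferSylow (P.subtype hle) hcen).ker := ⟨_, rfl⟩
  haveI hKn : K.Normal := hK ▸ MonoidHom.normal_ker _
  have hKi : K.index = 11 := by rw [hK, hc'.symm.index_eq_card, hPN]
  have hKc : Nat.card K = 1728 := by
    have := Subgroup.card_mul_index K
    rw [hNc, hKi] at this
    omega
  have hiff : ∀ x : N, x ∈ K ↔ x ^ 1728 = 1 := fun x => by
    constructor
    · intro h
      rw [← hKc]
      exact congrArg Subtype.val (pow_card_eq_one' (x := (⟨x, h⟩ : K)))
    · intro h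
      have h1 : x ^ 11 ∈ K := hKi ▸ Subgroup.pow_index_mem K x
      have h2 : x = ((x ^ 11) ^ 157)⁻¹ := by
        refine eq_inv_of_mul_eq_one_left ?_
        rw [← pow_mul, ← pow_succ', h]
      rw [h2]
      exact inv_mem (pow_mem h1 157)
  have hnormal : (K.map N.subtype).Normal := ⟨fun y hy a => by
    obtain ⟨x, hx, rfl⟩ := hy
    refine ⟨⟨a * x * a⁻¹, hN.conj_mem x x.2 a⟩, (hiff _).2 (Subtype.ext ?_), rfl⟩
    show (a * (x : G) * a⁻¹) ^ 1728 = 1
    rw [conj_pow, show (x : G) ^ 1728 = 1 from congrArg Subtype.val ((hiff x).1 hx)]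
    simp⟩
  have hbot := normal_regular hG hC _ hnormal (by
    rw [Subgroup.card_map_of_injective N.subtype_injective, hKc]; norm_num)
  have := congrArg (fun S : Subgroup G => Nat.card S) hbot
  simp only [Subgroup.card_bot] at this
  rw [Subgroup.card_map_of_injective N.subtype_injective, hKc] at this
  omega

end Cfsg.Agent.Fg24.M12
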