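import Mathlib

/-!
# Fixed matrices of a pair of real representations

The averaging map `X ↦ E_g (A g) X (B g)ᵀ` is a projection, so the dimension of the fixed
matrices is the mean of `tr (A g) * tr (B g)`.
-/

set_option autoImplicit false

namespace Cfsg.Agent.Fg24.M12

open Matrix Module

variable {K : Type*} [Group K] [Fintype K] {m n : ℕ}

/-- A real orthogonal representation in matrix form. -/
structure ORep (K : Type*) [Group K] (n : ℕ) where
  toHom : K →* Matrix (Fin n) (Fin n) ℝ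
  orth : ∀ g, (toHom g)ᵀ * toHom g = 1

/-- The map `X ↦ A X Bᵀ`. -/
def sandwich (A : Matrix (Fin m) (Fin m) ℝ) (B : Matrix (Fin n) (Fin n) ℝ) :
    Matrix (Fin m) (Fin n) ℝ →ₗ[ℝ] Matrix (Fin m) (Fin n) ℝ where
  toFun X := A * X * Bᵀ
  map_add' X Y := by rw [Matrix.mul_add, Matrix.add_mul]
  map_smul' c X := by rw [Matrix.mul_smul, Matrix.smul_mul]; rfl

@[simp] theorem sandwich_apply (A : Matrix (Fin m) (Fin m) ℝ) (B : Matrix (Fin n) (Fin n) ℝ)
    (X : Matrix (Fin m) (Fin n) ℝ) : sandwich A B X = A * X * Bᵀ := rfl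

theorem trace_sandwich (A : Matrix (Fin m) (Fin m) ℝ) (B : Matrix (Fin n) (Fin n) ℝ) :
    LinearMap.trace ℝ _ (sandwich A B) = A.trace * B.trace := by
  rw [LinearMap.trace_eq_matrix_trace ℝ (Matrix.stdBasis ℝ (Fin m) (Fin n)), Matrix.trace,
    Fintype.sum_prod_type, Matrix.trace, Matrix.trace, Finset.sum_mul_sum]
  refine Finset.sum_congr rfl fun i _ => Finset.sum_congr rfl fun j _ => ?_
  simp [Matrix.diag, LinearMap.toMatrix_apply, Matrix.stdBasis, Matrix.mul_apply,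
    Pi.single_apply, ite_apply, Finset.sum_ite_eq', Finset.sum_ite_eq]

/-- The symmetrization. -/
noncomputable def symm (n : ℕ) : Matrix (Fin n) (Fin n) ℝ →ₗ[ℝ] Matrix (Fin n) (Fin n) ℝ where
  toFun X := (2⁻¹ : ℝ) • (X + Xᵀ)
  map_add' X Y := by rw [Matrix.transpose_add, ← smul_add]; congr 1; abel
  map_smul' c X := by rw [Matrix.transpose_smul, ← smul_add, smul_comm]; rfl

theorem trace_sandwich_symm (A : Matrix (Fin n) (Fin n) ℝ) :
    LinearMap.trace ℝ _ (sandwich A A ∘ₗ symm n) = 2⁻¹ * (A.trace ^ 2 + (A * A).trace) := by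
  rw [LinearMap.trace_eq_matrix_trace ℝ (Matrix.stdBasis ℝ (Fin n) (Fin n)), Matrix.trace,
    Fintype.sum_prod_type, Matrix.trace, Matrix.trace, sq, Finset.sum_mul_sum]
  simp only [Matrix.diag, Matrix.mul_apply]
  rw [← Finset.sum_add_distrib, Finset.mul_sum]
  refine Finset.sum_congr rfl fun i _ => ?_
  rw [← Finset.sum_add_distrib, Finset.mul_sum]
  refine Finset.sum_congr rfl fun j _ => ?_
  simp [LinearMap.toMatrix_apply, Matrix.stdBasis, symm, Matrix.mul_apply, Pi.single_apply,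
    ite_apply, Finset.sum_ite_eq', Finset.sum_ite_eq, Matrix.transpose_apply, mul_add, add_mul,
    Finset.sum_add_distrib]
  ring

variable (A : ORep K m) (B : ORep K n)

omit [Fintype K] in
theorem ORep.orth' (g : K) : A.toHom g * (A.toHom g)ᵀ = 1 :=
  mul_eq_one_comm.1 (A.orth g)

theorem ORep.inv_eq (g : K) : A.toHom g⁻¹ = (A.toHom g)ᵀ := by
  have h : A.toHom g⁻¹ * A.toHom g = 1 := by rw [← map_mul, inv_mul_cancel, map_one]
  calc A.toHom g⁻¹ = A.toHom g⁻¹ * (A.toHom g * (A.toHom g)ᵀ) := by rw [A.orth', Matrix.mul_one]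
    _ = _ := by rw [← Matrix.mul_assoc, h, Matrix.one_mul]

/-- The intertwining matrices. -/
def fix : Submodule ℝ (Matrix (Fin m) (Fin n) ℝ) where
  carrier := {X | ∀ g, A.toHom g * X = X * B.toHom g}
  zero_mem' g := by simp
  add_mem' hX hY g := by rw [Matrix.mul_add, Matrix.add_mul, hX g, hY g]
  smul_mem' c X hX g := by rw [Matrix.mul_smul, Matrix.smul_mul, hX g]

omit [Fintype K] in
theorem mem_fix {X : Matrix (Fin m) (Fin n) ℝ} :
    X ∈ fix A B ↔ ∀ g, A.toHom g * X = X * B.toHom g := Iff.rfl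

/-- The averaging map. -/
noncomputable def avg : Matrix (Fin m) (Fin n) ℝ →ₗ[ℝ] Matrix (Fin m) (Fin n) ℝ :=
  (Fintype.card K : ℝ)⁻¹ • ∑ g : K, sandwich (A.toHom g) (B.toHom g)

theorem card_ne : (Fintype.card K : ℝ) ≠ 0 := by exact_mod_cast Fintype.card_ne_zero

theorem avg_apply (X : Matrix (Fin m) (Fin n) ℝ) :
    avg A B X = (Fintype.card K : ℝ)⁻¹ • ∑ g : K, A.toHom g * X * (B.toHom g)ᵀ := by
  simp [avg, LinearMap.sum_apply]

theorem avg_mem (X : Matrix (Fin m) (Fin n) ℝ) : avg A B X ∈ fix A B := by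
  intro h
  rw [avg_apply, Matrix.mul_smul, Matrix.smul_mul, Matrix.mul_sum, Matrix.sum_mul]
  congr 1
  refine Fintype.sum_equiv (Equiv.mulLeft h) _ _ fun g => ?_
  show _ = A.toHom (h * g) * X * (B.toHom (h * g))ᵀ * B.toHom h
  rw [map_mul, map_mul, Matrix.transpose_mul, Matrix.mul_assoc _ _ (B.toHom h),
    Matrix.mul_assoc _ (B.toHom h)ᵀ, B.orth, Matrix.mul_one]
  simp only [Matrix.mul_assoc]

theorem avg_of_mem {X : Matrix (Fin m) (Fin n) ℝ} (hX : X ∈ fix A B) : avg A B X = X := by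
  have h1 : ∀ g, A.toHom g * X * (B.toHom g)ᵀ = X := fun g => by
    rw [hX g, Matrix.mul_assoc, B.orth', Matrix.mul_one]
  rw [avg_apply, Finset.sum_congr rfl fun g _ => h1 g, Finset.sum_const, Finset.card_univ,
    ← Nat.cast_smul_eq_nsmul ℝ, smul_smul, inv_mul_cancel₀ card_ne, one_smul]

theorem finrank_fix : (finrank ℝ (fix A B) : ℝ) =
    (Fintype.card K : ℝ)⁻¹ * ∑ g : K, (A.toHom g).trace * (B.toHom g).trace := by
  rw [← (⟨avg_mem A B, fun _ h => avg_of_mem A B h⟩ :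
    LinearMap.IsProj (fix A B) (avg A B)).trace, avg, map_smul, map_sum, smul_eq_mul]
  simp only [trace_sandwich]

variable {A B} in
/-- Intertwiners vanish when the characters are orthogonal. -/
theorem eq_zero_of_fix (h : ∑ g : K, (A.toHom g).trace * (B.toHom g).trace = 0)
    {X : Matrix (Fin m) (Fin n) ℝ} (hX : X ∈ fix A B) : X = 0 := by
  have h1 := finrank_fix A B
  rw [h, mul_zero] at h1
  have h2 : fix A B = ⊥ := Submodule.finrank_eq_zero.1 (by exact_mod_cast h1)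
  rwa [h2, Submodule.mem_bot] at hX

variable {A} in
/-- The commutant is the scalars when the character has norm one. -/
theorem scalar_of_fix (h : ∑ g : K, (A.toHom g).trace * (A.toHom g).trace = Fintype.card K)
    {X : Matrix (Fin m) (Fin m) ℝ} (hX : X ∈ fix A A) : ∃ c : ℝ, X = c • 1 := by
  have h1 := finrank_fix A A
  rw [h, inv_mul_cancel₀ card_ne] at h1
  have h2 : finrank ℝ (fix A A) = 1 := by exact_mod_cast h1
  have h1m : (1 : Matrix (Fin m) (Fin m) ℝ) ∈ fix A A := fun g => by simp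
  have hne : (⟨1, h1m⟩ : fix A A) ≠ 0 := fun e => by
    have e1 : (1 : Matrix (Fin m) (Fin m) ℝ) = 0 := congrArg Subtype.val e
    have hz : ∀ Y : fix A A, Y = 0 := fun Y => Subtype.ext (by
      rw [← Matrix.one_mul (Y : Matrix (Fin m) (Fin m) ℝ), e1, Matrix.zero_mul]; rfl)
    have : Subsingleton (fix A A) := ⟨fun a b => (hz a).trans (hz b).symm⟩
    rw [finrank_zero_of_subsingleton] at h2
    omega
  obtain ⟨c, hc⟩ := (finrank_eq_one_iff_of_nonzero' _ hne).1 h2 ⟨X, hX⟩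
  exact ⟨c, (congrArg Subtype.val hc).symm⟩

/-- The symmetric commuting matrices. -/
def symFix : Submodule ℝ (Matrix (Fin m) (Fin m) ℝ) where
  carrier := {X | X ∈ fix A A ∧ Xᵀ = X}
  zero_mem' := ⟨Submodule.zero_mem _, Matrix.transpose_zero⟩
  add_mem' hX hY := ⟨Submodule.add_mem _ hX.1 hY.1, by rw [Matrix.transpose_add, hX.2, hY.2]⟩
  smul_mem' c X hX := ⟨Submodule.smul_mem _ c hX.1, by rw [Matrix.transpose_smul, hX.2]⟩

theorem finrank_symFix : (finrank ℝ (symFix A) : ℝ) = (Fintype.card K : ℝ)⁻¹ *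
    ∑ g : K, 2⁻¹ * ((A.toHom g).trace ^ 2 + (A.toHom (g * g)).trace) := by
  have hT : ∀ X, (avg A A X)ᵀ = avg A A Xᵀ := fun X => by
    rw [avg_apply, avg_apply, Matrix.transpose_smul, Matrix.transpose_sum]
    refine congrArg _ (Finset.sum_congr rfl fun g _ => ?_)
    rw [Matrix.transpose_mul, Matrix.transpose_mul, Matrix.transpose_transpose, Matrix.mul_assoc]
  have hproj : LinearMap.IsProj (symFix A) (avg A A ∘ₗ symm m) := by
    refine ⟨fun X => ⟨avg_mem A A _, ?_⟩, fun X hX => ?_⟩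
    · show (avg A A (symm m X))ᵀ = avg A A (symm m X)
      rw [hT]
      congr 1
      show ((2⁻¹ : ℝ) • (X + Xᵀ))ᵀ = (2⁻¹ : ℝ) • (X + Xᵀ)
      rw [Matrix.transpose_smul, Matrix.transpose_add, Matrix.transpose_transpose, add_comm]
    · show avg A A ((2⁻¹ : ℝ) • (X + Xᵀ)) = X
      rw [hX.2, ← two_smul ℝ X, smul_smul, inv_mul_cancel₀ (two_ne_zero' ℝ), one_smul]
      exact avg_of_mem A A hX.1
  rw [← hproj.trace, avg, LinearMap.smul_comp, map_smul, smul_eq_mul]
  congr 1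
  have hsum : (∑ g : K, sandwich (A.toHom g) (A.toHom g)) ∘ₗ symm m =
      ∑ g : K, sandwich (A.toHom g) (A.toHom g) ∘ₗ symm m :=
    LinearMap.ext fun X => by simp [LinearMap.sum_apply]
  rw [hsum, map_sum]
  simp only [trace_sandwich_symm, map_mul]

end Cfsg.Agent.Fg24.M12
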