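import Cfsg.Agent.Fg24.M12.Proj

/-!
# An orbit on a regular simplex

A unit vector fixed by a subgroup whose symmetric commutant has dimension two: the third moments
of `g ↦ ⟨v, g v⟩` are determined by invariant cubic forms, and a nonzero third moment forces the
orbit to be a regular simplex.
-/

set_option autoImplicit false

namespace Cfsg.Agent.Fg24.M12

open Matrix

variable {G : Type*} [Group G] [Fintype G] {n : ℕ}

/-- A representation with a distinguished unit vector fixed by `N`. -/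
structure Pointed (N : Subgroup G) (n : ℕ) extends ORep G n where
  v : Fin n → ℝ
  unit : v ⬝ᵥ v = 1
  fixed : ∀ g ∈ N, toHom g *ᵥ v = v
  total : ∑ g : G, toHom g = 0
  scalar : ∀ X : Matrix (Fin n) (Fin n) ℝ, (∀ g, toHom g * X = X * toHom g) →
    ∃ c : ℝ, X = c • 1
  symmetric : ∀ X : Matrix (Fin n) (Fin n) ℝ, Xᵀ = X →
    (∀ g ∈ N, toHom g * X = X * toHom g) → ∃ a b : ℝ, X = a • vecMulVec v v + b • 1

namespace Pointed

variable {N : Subgroup G} (D D' : Pointed N n)

/-- The orbit map. -/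
def u (g : G) : Fin n → ℝ := D.toHom g *ᵥ D.v

/-- The inner product with the base vector. -/
def t (g : G) : ℝ := D.v ⬝ᵥ D.u g

omit [Group G] [Fintype G] in
theorem sum_dot (s : Finset G) (f : G → Fin n → ℝ) (y : Fin n → ℝ) :
    y ⬝ᵥ (∑ g ∈ s, f g) = ∑ g ∈ s, y ⬝ᵥ f g := dotProduct_sum y s f

theorem dot_smul_map (g : G) (x y : Fin n → ℝ) :
    (D.toHom g *ᵥ x) ⬝ᵥ (D.toHom g *ᵥ y) = x ⬝ᵥ y := by
  rw [dotProduct_mulVec, ← Matrix.mulVec_transpose, mulVec_mulVec, D.orth, one_mulVec]

theorem u_mul (g h : G) : D.u (g * h) = D.toHom g *ᵥ D.u h := by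
  rw [u, u, map_mul, mulVec_mulVec]

theorem u_dot (g h : G) : D.u g ⬝ᵥ D.u h = D.t (g⁻¹ * h) := by
  conv_lhs => rw [show h = g * (g⁻¹ * h) by group, D.u_mul]
  exact D.dot_smul_map g D.v _

theorem u_unit (g : G) : D.u g ⬝ᵥ D.u g = 1 := by rw [u, dot_smul_map, D.unit]

theorem t_one : D.t 1 = 1 := by rw [t, u, map_one, one_mulVec, D.unit]

theorem sum_u : ∑ g : G, D.u g = 0 := by
  simp only [u]; rw [← Matrix.sum_mulVec, D.total, zero_mulVec]

theorem sum_t : ∑ g : G, D.t g = 0 := by
  simp only [t]; rw [← dotProduct_sum, D.sum_u, dotProduct_zero]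

theorem conj_vecMulVec (A : Matrix (Fin n) (Fin n) ℝ) (x y : Fin n → ℝ) :
    A * vecMulVec x y * Aᵀ = vecMulVec (A *ᵥ x) (A *ᵥ y) := by
  rw [Matrix.mul_vecMulVec, Matrix.vecMulVec_mul, Matrix.vecMul_transpose]

theorem trace_vecMulVec' (x y : Fin n → ℝ) : (vecMulVec x y).trace = x ⬝ᵥ y := rfl

theorem quad_vecMulVec (x y z : Fin n → ℝ) : z ⬝ᵥ (vecMulVec x y *ᵥ z) = (z ⬝ᵥ x) * (y ⬝ᵥ z) := by
  rw [Matrix.vecMulVec_mulVec, op_smul_eq_smul, dotProduct_smul, smul_eq_mul, mul_comm]

theorem commute_of_conj {A X : Matrix (Fin n) (Fin n) ℝ} (hA : Aᵀ * A = 1)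
    (h : A * X * Aᵀ = X) : A * X = X * A := by
  conv_rhs => rw [← h, Matrix.mul_assoc _ Aᵀ, hA, Matrix.mul_one]

/-- The second moment matrix. -/
theorem sum_uu : (n : ℝ) • ∑ g : G, vecMulVec (D.u g) (D.u g) = (Fintype.card G : ℝ) • 1 := by
  obtain ⟨c, hc⟩ := D.scalar (∑ g : G, vecMulVec (D.u g) (D.u g)) fun h => by
    refine commute_of_conj (D.orth h) ?_
    rw [Matrix.mul_sum, Matrix.sum_mul]
    refine Fintype.sum_equiv (Equiv.mulLeft h) _ _ fun g => ?_
    rw [conj_vecMulVec, Equiv.coe_mulLeft, D.u_mul]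
  have h1 := congrArg Matrix.trace hc
  simp only [Matrix.trace_sum, trace_vecMulVec', u_unit, Matrix.trace_smul, Matrix.trace_one,
    Fintype.card_fin, smul_eq_mul, Finset.sum_const, Finset.card_univ, nsmul_eq_mul, mul_one] at h1
  rw [hc, smul_smul, mul_comm, ← h1]

theorem sum_t_sq : (n : ℝ) * ∑ g : G, D.t g ^ 2 = Fintype.card G := by
  have h := congrArg (fun X : Matrix (Fin n) (Fin n) ℝ => D.v ⬝ᵥ (X *ᵥ D.v)) D.sum_uu
  simp only [smul_mulVec, Matrix.sum_mulVec, dotProduct_smul, dotProduct_sum, quad_vecMulVec,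
    one_mulVec, D.unit, smul_eq_mul, mul_one] at h
  rw [← h]
  exact congrArg _ (Finset.sum_congr rfl fun g _ => by rw [sq, t, dotProduct_comm (D.u g)])

theorem expand (y : Fin n → ℝ) :
    (n : ℝ) • ∑ g : G, (D.u g ⬝ᵥ y) • D.u g = (Fintype.card G : ℝ) • y := by
  have h := congrArg (fun X : Matrix (Fin n) (Fin n) ℝ => X *ᵥ y) D.sum_uu
  simp only [smul_mulVec, Matrix.sum_mulVec, Matrix.vecMulVec_mulVec, one_mulVec,
    op_smul_eq_smul] at h
  exact h

/-- The mixed third moment. -/
def moment : ℝ := ∑ g : G, D.t g ^ 2 * D'.t g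

/-- The weighted second moment matrix. -/
def W (y : Fin n → ℝ) : Matrix (Fin n) (Fin n) ℝ :=
  ∑ g : G, (D'.u g ⬝ᵥ y) • vecMulVec (D.u g) (D.u g)

theorem W_conj (h : G) (y : Fin n → ℝ) :
    D.toHom h * W D D' y * (D.toHom h)ᵀ = W D D' (D'.toHom h *ᵥ y) := by
  rw [W, W, Matrix.mul_sum, Matrix.sum_mul]
  refine Fintype.sum_equiv (Equiv.mulLeft h) _ _ fun g => ?_
  rw [Matrix.mul_smul, Matrix.smul_mul, conj_vecMulVec, Equiv.coe_mulLeft, D.u_mul, D'.u_mul,
    D'.dot_smul_map]

/-- The shape of the weighted matrix at the base vector. -/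
theorem W_base : ∃ a b : ℝ, W D D' D'.v = a • vecMulVec D.v D.v + b • 1 ∧ a + n * b = 0 ∧
    a + b = moment D D' := by
  obtain ⟨a, b, hab⟩ := D.symmetric (W D D' D'.v)
    (by simp [W, Matrix.transpose_sum, Matrix.transpose_smul, Matrix.transpose_vecMulVec])
    (fun g hg => commute_of_conj (D.orth g) (by rw [W_conj, D'.fixed g hg]))
  refine ⟨a, b, hab, ?_, ?_⟩
  · have h := congrArg Matrix.trace hab
    simp only [W, Matrix.trace_sum, Matrix.trace_smul, trace_vecMulVec', u_unit, Matrix.trace_add,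
      D.unit, Matrix.trace_one, Fintype.card_fin, smul_eq_mul, mul_one] at h
    rw [Finset.sum_congr rfl (g := D'.t) fun g _ => dotProduct_comm _ _, D'.sum_t] at h
    linarith
  · have h := congrArg (fun X : Matrix (Fin n) (Fin n) ℝ => D.v ⬝ᵥ (X *ᵥ D.v)) hab
    simp only [W, Matrix.sum_mulVec, smul_mulVec, dotProduct_sum, dotProduct_smul, quad_vecMulVec,
      Matrix.add_mulVec, dotProduct_add, one_mulVec, D.unit, smul_eq_mul, mul_one] at h
    rw [← h, moment]
    exact Finset.sum_congr rfl fun g _ => by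
      rw [sq, t, t, dotProduct_comm (D.u g), dotProduct_comm (D'.u g)]; ring

/-- The mixed third moment takes one of two values. -/
theorem moment_value (hn : 1 < n) :
    moment D D' = 0 ∨ (n : ℝ) ^ 2 * moment D D' = (Fintype.card G : ℝ) * ((n : ℝ) - 1) := by
  obtain ⟨a, b, hab, h1, h2⟩ := W_base D D'
  obtain ⟨c, hc⟩ := D'.scalar (∑ g : G, ∑ h : G, (D.u g ⬝ᵥ D.u h) ^ 2 •
      vecMulVec (D'.u g) (D'.u h)) fun k => by
    refine commute_of_conj (D'.orth k) ?_
    rw [Matrix.mul_sum, Matrix.sum_mul]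
    refine Fintype.sum_equiv (Equiv.mulLeft k) _ _ fun g => ?_
    rw [Matrix.mul_sum, Matrix.sum_mul]
    refine Fintype.sum_equiv (Equiv.mulLeft k) _ _ fun h => ?_
    rw [Matrix.mul_smul, Matrix.smul_mul, conj_vecMulVec]
    simp only [Equiv.coe_mulLeft, D.u_mul, D'.u_mul, D.dot_smul_map]
  -- trace
  have h3 : c * n = (Fintype.card G : ℝ) * moment D D' := by
    have h := congrArg Matrix.trace hc
    simp only [Matrix.trace_sum, Matrix.trace_smul, trace_vecMulVec', smul_eq_mul,
      Matrix.trace_one, Fintype.card_fin] at h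
    rw [← h, Finset.sum_congr rfl (g := fun _ => moment D D') fun g _ => ?_, Finset.sum_const,
      Finset.card_univ, nsmul_eq_mul]
    refine Fintype.sum_equiv (Equiv.mulLeft g⁻¹) _ _ fun h => ?_
    rw [D.u_dot, D'.u_dot]
    rfl
  -- value at the base vector
  have h4 : c = (a + b) * a + b * (a + n * b) := by
    have hW : ∀ g : G, D.u g ⬝ᵥ (W D D' D'.v *ᵥ D.u g) = a * (D.t g) ^ 2 + b := fun g => by
      rw [hab]
      simp only [Matrix.add_mulVec, smul_mulVec, dotProduct_add, dotProduct_smul, quad_vecMulVec,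
        one_mulVec, u_unit, smul_eq_mul, mul_one]
      rw [t, dotProduct_comm (D.u g), sq]
    have hW' : ∀ g : G, D.u g ⬝ᵥ (W D D' D'.v *ᵥ D.u g) =
        ∑ h : G, (D'.u h ⬝ᵥ D'.v) * (D.u g ⬝ᵥ D.u h) ^ 2 := fun g => by
      simp only [W, Matrix.sum_mulVec, smul_mulVec, dotProduct_sum, dotProduct_smul, quad_vecMulVec,
        smul_eq_mul]
      exact Finset.sum_congr rfl fun h _ => by rw [dotProduct_comm (D.u h), sq]
    have h := congrArg (fun X : Matrix (Fin n) (Fin n) ℝ => D'.v ⬝ᵥ (X *ᵥ D'.v)) hc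
    simp only [Matrix.sum_mulVec, smul_mulVec, dotProduct_sum, dotProduct_smul, quad_vecMulVec,
      one_mulVec, D'.unit, smul_eq_mul, mul_one] at h
    have e : ∀ g : G, ∑ h : G, (D.u g ⬝ᵥ D.u h) ^ 2 * ((D'.v ⬝ᵥ D'.u g) * (D'.u h ⬝ᵥ D'.v)) =
        a * (D.t g ^ 2 * D'.t g) + b * D'.t g := fun g => by
      rw [show a * (D.t g ^ 2 * D'.t g) + b * D'.t g = D'.t g * (a * D.t g ^ 2 + b) by ring,
        ← hW, hW', Finset.mul_sum]
      exact Finset.sum_congr rfl fun h _ => by rw [t]; ring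
    rw [Finset.sum_congr rfl fun g _ => e g, Finset.sum_add_distrib, ← Finset.mul_sum,
      ← Finset.mul_sum, D'.sum_t] at h
    rw [h1, h2, ← h, moment]
    ring
  by_cases hm : moment D D' = 0
  · exact Or.inl hm
  refine Or.inr (mul_left_cancel₀ hm ?_)
  have hb : b * ((n : ℝ) - 1) = -moment D D' := by linarith
  have ha : a * ((n : ℝ) - 1) = n * moment D D' := by nlinarith [h2, hb]
  rw [h4, h1, h2, mul_zero, add_zero] at h3
  linear_combination ((n : ℝ) - 1) * h3 - (n : ℝ) * moment D D' * ha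

/-- A vanishing mixed moment kills the invariant cubic forms. -/
theorem cubic_zero (hn : 1 < n) (hm : moment D D' = 0) :
    ∑ g : G, ((D.toHom g).trace ^ 2 + (D.toHom (g * g)).trace) * (D'.toHom g).trace = 0 := by
  have hG : (Fintype.card G : ℝ) ≠ 0 := card_ne
  -- the weighted matrix vanishes identically
  obtain ⟨a, b, hab, h1, h2⟩ := W_base D D'
  have hn1 : (1 : ℝ) < n := by exact_mod_cast hn
  have hW0 : W D D' D'.v = 0 := by
    have hb : b = 0 := by
      have : b * ((n : ℝ) - 1) = 0 := by linarith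
      exact (mul_eq_zero.1 this).resolve_right (by linarith)
    rw [hab, hb, show a = 0 by rw [hb, mul_zero, add_zero] at h1; exact h1, zero_smul, zero_smul,
      add_zero]
  have hWu : ∀ h, W D D' (D'.u h) = 0 := fun h => by
    rw [u, ← W_conj, hW0, Matrix.mul_zero, Matrix.zero_mul]
  have hWy : ∀ y, W D D' y = 0 := fun y => by
    have h : (Fintype.card G : ℝ) • W D D' y =
        (n : ℝ) • ∑ h : G, (D'.u h ⬝ᵥ y) • W D D' (D'.u h) := by
      simp only [W, Finset.smul_sum, smul_smul]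
      conv_rhs => rw [Finset.sum_comm]
      refine Finset.sum_congr rfl fun g _ => ?_
      rw [← Finset.sum_smul]
      congr 1
      have e := congrArg (fun z => D'.u g ⬝ᵥ z) (D'.expand y)
      simp only [dotProduct_smul, dotProduct_sum, smul_eq_mul, Finset.mul_sum] at e
      rw [← e]
    simp only [hWu, smul_zero, Finset.sum_const_zero] at h
    exact (smul_eq_zero.1 h).resolve_left hG
  -- an invariant symmetric form vanishes
  have key : ∀ (Φ : (Fin n → ℝ) →ₗ[ℝ] Matrix (Fin n) (Fin n) ℝ), (∀ y, (Φ y)ᵀ = Φ y) →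
      (∀ h y, Φ (D'.toHom h *ᵥ y) = D.toHom h * Φ y * (D.toHom h)ᵀ) →
      (∀ y, (Φ y).trace = 0) → Φ = 0 := by
    intro Φ hs he ht
    obtain ⟨a, b, hab⟩ := D.symmetric (Φ D'.v) (hs _) fun g hg =>
      commute_of_conj (D.orth g) (by rw [← he, D'.fixed g hg])
    have e1 : a + n * b = 0 := by
      have h := ht D'.v
      rw [hab] at h
      simp only [Matrix.trace_add, Matrix.trace_smul, trace_vecMulVec', D.unit, Matrix.trace_one,
        Fintype.card_fin, smul_eq_mul, mul_one] at h
      linarith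
    have e2 : (Fintype.card G : ℝ) * (a + b) = 0 := by
      have hq : ∀ g : G, D.u g ⬝ᵥ (Φ (D'.u g) *ᵥ D.u g) = a + b := fun g => by
        simp only [u]
        rw [he, ← mulVec_mulVec, ← mulVec_mulVec, mulVec_mulVec _ (D.toHom g)ᵀ, D.orth,
          one_mulVec, D.dot_smul_map, hab]
        simp only [Matrix.add_mulVec, smul_mulVec, dotProduct_add, dotProduct_smul, quad_vecMulVec,
          one_mulVec, D.unit, smul_eq_mul, mul_one]
      have hz : ∀ k, ∑ g : G, D'.u g k * (D.u g ⬝ᵥ (Φ (Pi.single k 1) *ᵥ D.u g)) = 0 := fun k => by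
        have h := congrArg (fun X => (Φ (Pi.single k 1) * X).trace) (hWy (Pi.single k 1))
        simp only [W, Matrix.mul_sum, Matrix.mul_smul, Matrix.trace_sum, Matrix.trace_smul,
          Matrix.mul_vecMulVec, trace_vecMulVec', dotProduct_single, mul_one, smul_eq_mul,
          Matrix.mul_zero, Matrix.trace_zero] at h
        rw [← h]
        exact Finset.sum_congr rfl fun g _ => by rw [dotProduct_comm]
      have hΦ : ∀ y : Fin n → ℝ, Φ y = ∑ k, y k • Φ (Pi.single k 1) := fun y => by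
        conv_lhs => rw [pi_eq_sum_univ' y]
        simp [map_sum]
      have h5 : ∑ g : G, D.u g ⬝ᵥ (Φ (D'.u g) *ᵥ D.u g) = 0 := by
        simp only [hΦ (D'.u _), Matrix.sum_mulVec, smul_mulVec, dotProduct_sum, dotProduct_smul,
          smul_eq_mul]
        rw [Finset.sum_comm, Finset.sum_eq_zero fun k _ => hz k]
      rw [← h5, Finset.sum_congr rfl fun g _ => hq g, Finset.sum_const, Finset.card_univ,
        nsmul_eq_mul]
    have hb : b = 0 := by
      have h3 : a + b = 0 := (mul_eq_zero.1 e2).resolve_left hG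
      have : b * ((n : ℝ) - 1) = 0 := by linarith
      exact (mul_eq_zero.1 this).resolve_right (by linarith)
    have hv0 : Φ D'.v = 0 := by
      rw [hab, hb, show a = 0 by rw [hb, mul_zero, add_zero] at e1; exact e1, zero_smul, zero_smul,
        add_zero]
    refine LinearMap.ext fun y => ?_
    have h := congrArg Φ (D'.expand y)
    simp only [map_smul, map_sum, u, he, hv0, Matrix.mul_zero, Matrix.zero_mul, smul_zero,
      Finset.sum_const_zero] at h
    exact (smul_eq_zero.1 h.symm).resolve_left hG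
  -- the forms attached to the matrix entries
  let E : Fin n → Fin n → Matrix (Fin n) (Fin n) ℝ := fun i j =>
    Matrix.single i j 1 + Matrix.single j i 1
  let Φ : Fin n → Fin n → Fin n → (Fin n → ℝ) →ₗ[ℝ] Matrix (Fin n) (Fin n) ℝ := fun i j k =>
    { toFun := fun y => ∑ g : G, (D'.toHom g *ᵥ y) k • ((D.toHom g)ᵀ * E i j * D.toHom g)
      map_add' := fun y z => by
        simp only [Matrix.mulVec_add, Pi.add_apply, add_smul, Finset.sum_add_distrib]
      map_smul' := fun c y => by
        simp only [Matrix.mulVec_smul, Pi.smul_apply, smul_assoc, Finset.smul_sum, RingHom.id_apply] }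
  have hΦ0 : ∀ i j k, Φ i j k = 0 := by
    intro i j k
    refine key _ (fun y => ?_) (fun h y => ?_) fun y => ?_
    · show (∑ g : G, _)ᵀ = ∑ g : G, _
      rw [Matrix.transpose_sum]
      refine Finset.sum_congr rfl fun g _ => ?_
      rw [Matrix.transpose_smul, Matrix.transpose_mul, Matrix.transpose_mul,
        Matrix.transpose_transpose, ← Matrix.mul_assoc]
      congr 3
      simp only [E, Matrix.transpose_add, Matrix.transpose_single]
      exact add_comm _ _
    · show (∑ g : G, _) = D.toHom h * (∑ g : G, _) * (D.toHom h)ᵀ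
      rw [Matrix.mul_sum, Matrix.sum_mul]
      refine Fintype.sum_equiv (Equiv.mulRight h) _ _ fun g => ?_
      simp only [Equiv.coe_mulRight, map_mul, Matrix.transpose_mul, Matrix.mul_smul,
        Matrix.smul_mul, mulVec_mulVec]
      congr 1
      simp only [← Matrix.mul_assoc, D.orth' h, Matrix.one_mul]
      simp only [Matrix.mul_assoc, D.orth' h, Matrix.mul_one]
    · show Matrix.trace (∑ g : G, (D'.toHom g *ᵥ y) k • ((D.toHom g)ᵀ * E i j * D.toHom g)) = 0
      simp only [Matrix.trace_sum, Matrix.trace_smul]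
      have e : ∀ g : G, ((D.toHom g)ᵀ * E i j * D.toHom g).trace = (E i j).trace := fun g => by
        rw [Matrix.trace_mul_cycle, D.orth', Matrix.one_mul]
      simp only [e, ← Finset.sum_smul]
      rw [← Finset.sum_apply, ← Matrix.sum_mulVec, D'.total, zero_mulVec, Pi.zero_apply, zero_smul]
  have h6 : ∀ g : G, ((D.toHom g).trace ^ 2 + (D.toHom (g * g)).trace) * (D'.toHom g).trace =
      ∑ i, ∑ j, ∑ k, D'.toHom g k k * ((D.toHom g)ᵀ * E i j * D.toHom g) i j := by
    intro g
    have e : ∀ i j, ((D.toHom g)ᵀ * E i j * D.toHom g) i j =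
        D.toHom g i i * D.toHom g j j + D.toHom g j i * D.toHom g i j := by
      intro i j
      simp [E, Matrix.mul_apply, Matrix.single_apply, Matrix.transpose_apply, add_mul,
        Finset.sum_add_distrib, ite_and, mul_add]
    simp only [e, map_mul, Matrix.trace, Matrix.diag, Matrix.mul_apply, sq]
    simp only [Finset.sum_mul, Finset.mul_sum, add_mul, mul_add, ← Finset.sum_add_distrib]
    rw [Finset.sum_comm, Finset.sum_congr rfl fun j _ => Finset.sum_comm, Finset.sum_comm]
    refine Finset.sum_congr rfl fun i _ => Finset.sum_congr rfl fun j _ =>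
      Finset.sum_congr rfl fun k _ => ?_
    ring
  rw [Finset.sum_congr rfl fun g _ => h6 g, Finset.sum_comm]
  refine Finset.sum_eq_zero fun i _ => ?_
  rw [Finset.sum_comm]
  refine Finset.sum_eq_zero fun j _ => ?_
  rw [Finset.sum_comm]
  refine Finset.sum_eq_zero fun k _ => ?_
  have h := congrArg (fun f => (f (Pi.single k 1)) i j) (hΦ0 i j k)
  simp only [Φ, LinearMap.coe_mk, AddHom.coe_mk, Matrix.mulVec_single, LinearMap.zero_apply,
    Matrix.zero_apply, Matrix.sum_apply, Matrix.smul_apply, smul_eq_mul] at h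
  simpa using h

theorem t_le (g : G) : D.t g ≤ 1 ∧ (D.t g = 1 → D.u g = D.v) := by
  have h : (D.u g - D.v) ⬝ᵥ (D.u g - D.v) = 2 - 2 * D.t g := by
    simp only [sub_dotProduct, dotProduct_sub, u_unit, D.unit, t, dotProduct_comm (D.u g) D.v]
    ring
  have h0 : 0 ≤ (D.u g - D.v) ⬝ᵥ (D.u g - D.v) := Finset.sum_nonneg fun i _ => mul_self_nonneg _
  refine ⟨by linarith, fun h1 => sub_eq_zero.1 (dotProduct_self_eq_zero.1 (by rw [h, h1]; ring))⟩

/-- The stabilizer of the base vector. -/
def stab : Subgroup G where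
  carrier := {g | D.u g = D.v}
  one_mem' := by show D.u 1 = D.v; rw [u, map_one, one_mulVec]
  mul_mem' {a b} ha hb := by show D.u (a * b) = D.v; rw [u_mul, hb]; exact ha
  inv_mem' {a} ha := by
    show D.u a⁻¹ = D.v
    conv_rhs => rw [show D.v = D.u (a⁻¹ * a) by rw [inv_mul_cancel, u, map_one, one_mulVec],
      D.u_mul, ha]
    rfl

/-- A nonzero third moment gives a subgroup of index `n + 1`. -/
theorem index_stab (hn : 1 < n) (hm : moment D D ≠ 0) : D.stab.index = n + 1 := by
  classical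
  have hn0 : (0 : ℝ) < n := by exact_mod_cast (by omega : 0 < n)
  have hval := (moment_value D D hn).resolve_left hm
  have hmom : moment D D = ∑ g : G, D.t g ^ 3 := Finset.sum_congr rfl fun g _ => by ring
  have hzero : ∑ g : G, ((n : ℝ) * D.t g + 1) ^ 2 * (1 - D.t g) = 0 := by
    have e : ∀ g : G, ((n : ℝ) * D.t g + 1) ^ 2 * (1 - D.t g) =
        -((n : ℝ) ^ 2 * D.t g ^ 3) + ((n : ℝ) ^ 2 - 2 * n) * D.t g ^ 2 +
          ((2 * n - 1) * D.t g + 1) := fun g => by ring
    simp only [e, Finset.sum_add_distrib, Finset.sum_neg_distrib, ← Finset.mul_sum, D.sum_t,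
      Finset.sum_const, Finset.card_univ, nsmul_eq_mul, mul_one]
    rw [← hmom, hval]
    linear_combination ((n : ℝ) - 2) * D.sum_t_sq
  have hall : ∀ g : G, D.t g = if g ∈ D.stab then 1 else -(1 / (n : ℝ)) := by
    intro g
    split_ifs with h
    · show D.v ⬝ᵥ D.u g = 1
      rw [show D.u g = D.v from h, D.unit]
    · have h1 := (Finset.sum_eq_zero_iff_of_nonneg (fun g _ =>
        mul_nonneg (sq_nonneg _) (sub_nonneg.2 (D.t_le g).1))).1 hzero g (Finset.mem_univ _)
      rcases mul_eq_zero.1 h1 with h2 | h2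
      · have := pow_eq_zero_iff two_ne_zero |>.1 h2
        field_simp
        linarith
      · exact absurd ((D.t_le g).2 (sub_eq_zero.1 h2).symm) h
  have hsum := D.sum_t
  simp only [hall, Finset.sum_ite, Finset.sum_const, nsmul_eq_mul, mul_one] at hsum
  have hcard : (Finset.univ.filter fun g => g ∈ D.stab).card = Nat.card D.stab := by
    rw [Nat.card_eq_fintype_card, Fintype.card_subtype]
  have htot := Finset.card_filter_add_card_filter_not (s := (Finset.univ : Finset G))
    (fun g => g ∈ D.stab)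
  rw [Finset.card_univ, hcard] at htot
  rw [hcard] at hsum
  have hG : Fintype.card G = (n + 1) * Nat.card D.stab := by
    field_simp at hsum
    have htot' := congrArg (fun k : ℕ => (k : ℝ)) htot
    push_cast at htot'
    have : (Fintype.card G : ℝ) = (((n + 1) * Nat.card D.stab : ℕ) : ℝ) := by
      push_cast
      linarith
    exact_mod_cast this
  have hmul := D.stab.card_mul_index
  rw [Nat.card_eq_fintype_card (α := G), hG, mul_comm (n + 1)] at hmul
  exact Nat.eq_of_mul_eq_mul_left Nat.card_pos hmul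

/-- Two mixed moments exclude each other. -/
theorem not_mutual (hn : 9 ≤ n) (hc : ∑ g : G, D.t g * D'.t g = 0)
    (h11 : moment D D = 0) (h22 : moment D' D' = 0)
    (h12 : moment D D' ≠ 0) (h21 : moment D' D ≠ 0) : False := by
  have hn2 : 1 < n := by omega
  have e12 := (moment_value D D' hn2).resolve_left h12
  have e21 := (moment_value D' D hn2).resolve_left h21
  have hn0 : (0 : ℝ) ≤ n := n.cast_nonneg
  have hn9 : (9 : ℝ) ≤ n := by exact_mod_cast hn
  have hG : (0 : ℝ) < Fintype.card G := by exact_mod_cast Fintype.card_pos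
  have hpos : 0 ≤ ∑ g : G, ((n : ℝ) * (D.t g + D'.t g) + 1) ^ 2 * (2 - (D.t g + D'.t g)) :=
    Finset.sum_nonneg fun g _ => mul_nonneg (sq_nonneg _)
      (by linarith [(D.t_le g).1, (D'.t_le g).1])
  have e : ∀ g : G, ((n : ℝ) * (D.t g + D'.t g) + 1) ^ 2 * (2 - (D.t g + D'.t g)) =
      -((n : ℝ) ^ 2 * (D.t g ^ 2 * D.t g + D'.t g ^ 2 * D'.t g + 3 * (D.t g ^ 2 * D'.t g) +
        3 * (D'.t g ^ 2 * D.t g))) + (2 * (n : ℝ) ^ 2 - 2 * n) * (D.t g ^ 2 + D'.t g ^ 2 +
        2 * (D.t g * D'.t g)) + ((4 * n - 1) * (D.t g + D'.t g) + 2) := fun g => by ring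
  simp only [e, Finset.sum_add_distrib, Finset.sum_neg_distrib, ← Finset.mul_sum, D.sum_t,
    D'.sum_t, hc, Finset.sum_const, Finset.card_univ, nsmul_eq_mul] at hpos
  simp only [moment] at h11 h22 e12 e21
  rw [h11, h22] at hpos
  nlinarith [D.sum_t_sq, D'.sum_t_sq, hpos, e12, e21, hG, hn9]

end Pointed

end Cfsg.Agent.Fg24.M12
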